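import Mathlib

/-! The Sylow `2`-subgroup of the large Ree group in coordinates.  An element is the product
`x₁(a₁) w₂(a₂,u₂) x₃(a₃) w₄(a₄,u₄) x₅(a₅) w₆(a₆,u₆) x₇(a₇) w₈(a₈,u₈)` of root elements. -/

set_option autoImplicit false
set_option linter.unusedSectionVars false

namespace Cfsg.Agent.Og

/-- A square root of the Frobenius map. -/
structure Sg (K : Type*) [Field K] where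
  σ : K →+* K
  sq : ∀ x, σ (σ x) = x ^ 2

attribute [simp] Sg.sq

variable {K : Type*} [Field K]

/-- Coordinates. -/
@[ext] structure SG (s : Sg K) where
  a1 : K
  a2 : K
  u2 : K
  a3 : K
  a4 : K
  u4 : K
  a5 : K
  a6 : K
  u6 : K
  a7 : K
  a8 : K
  u8 : K

namespace SG

variable {s : Sg K}

instance instOne : One (SG s) := ⟨⟨0, 0, 0, 0, 0, 0, 0, 0, 0, 0, 0, 0⟩⟩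

instance instMul : Mul (SG s) := ⟨fun p r => {
    a1 := p.a1 + r.a1
    a2 := p.a2 + r.a2 + p.a8 * r.a1
    u2 := p.u2 + r.u2 + p.a2 * s.σ r.a2 + p.a4 * r.a1 + p.a6 * s.σ r.a1 + p.u8 * r.a1 * s.σ r.a1 +
      p.a2 * s.σ p.a8 * s.σ r.a1 + p.a8 * r.a1 * s.σ r.a2
    a3 := p.a3 + r.a3 + p.a4 * r.a2 + s.σ p.a6 * r.a1 + p.a7 * s.σ r.a1 + p.a8 * r.a2 * s.σ r.a2 + p.a8 * r.u2 +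
      p.a8 ^ 2 * s.σ p.a8 * r.a1 * s.σ r.a1 + s.σ p.u8 * r.a1 * s.σ r.a1 + p.a4 * p.a8 * r.a1 +
      p.a8 * p.u8 * r.a1 * s.σ r.a1 + p.u8 * s.σ r.a1 * r.a2
    a4 := p.a4 + r.a4 + p.a8 * s.σ r.a2 + p.u8 * s.σ r.a1
    u4 := p.u4 + r.u4 + p.a4 * s.σ r.a4 + p.a5 * r.a2 + p.a6 * r.a3 + p.a7 * r.a2 * s.σ r.a2 + p.a7 * r.u2 +
      p.a8 * s.σ r.a3 + p.a8 * s.σ p.a8 * r.a2 ^ 2 * s.σ r.a2 + p.a8 ^ 3 * s.σ p.a8 ^ 2 * r.a1 ^ 2 * s.σ r.a1 +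
      p.u6 * r.a1 + p.u8 * r.a2 ^ 2 * s.σ r.a2 + p.u8 * s.σ r.u2 + p.u8 * s.σ p.u8 * r.a1 ^ 2 * s.σ r.a1 +
      p.a4 * s.σ p.a8 * r.a2 ^ 2 + p.a4 * s.σ p.u8 * r.a1 ^ 2 + p.a5 * p.a8 * r.a1 + p.a6 * p.a7 * s.σ r.a1 +
      p.a6 * p.a8 * r.a2 * s.σ r.a2 + p.a6 * p.a8 * r.u2 + p.a6 * p.a8 ^ 2 * s.σ p.a8 * r.a1 * s.σ r.a1 +
      p.a6 * s.σ p.u8 * r.a1 * s.σ r.a1 + s.σ p.a7 * p.a8 * r.a1 ^ 2 + s.σ p.a7 * r.a1 * r.a2 +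
      p.a7 * p.a8 * s.σ p.a8 * r.a1 * s.σ r.a1 + p.a7 * p.u8 * r.a1 * s.σ r.a1 + s.σ p.a8 * r.a2 * r.a3 +
      p.a8 * p.u8 ^ 2 * r.a1 ^ 2 * s.σ r.a1 + p.a8 * s.σ r.a2 * s.σ r.a4 +
      p.a8 * s.σ p.a8 * s.σ p.u8 * r.a1 ^ 2 * s.σ r.a1 + p.a8 * s.σ p.a8 * r.a1 * r.a3 +
      p.a8 * s.σ p.a8 * r.a2 * r.u2 + p.a8 ^ 2 * s.σ p.a8 ^ 2 * r.a1 * s.σ r.a1 * r.a2 +
      s.σ p.u8 * r.a1 * r.a2 * s.σ r.a2 + s.σ p.u8 * r.a1 * r.u2 + p.u8 * s.σ r.a1 * s.σ r.a4 +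
      p.u8 * r.a1 * r.a3 + p.u8 * r.a2 * r.u2 + p.u8 ^ 2 * r.a1 * s.σ r.a1 * r.a2 +
      p.a6 * p.a8 * p.u8 * r.a1 * s.σ r.a1 + p.a6 * p.u8 * s.σ r.a1 * r.a2 +
      p.a7 * s.σ p.a8 * s.σ r.a1 * r.a2 + s.σ p.a8 * s.σ p.u8 * r.a1 * s.σ r.a1 * r.a2 +
      s.σ p.a8 * p.u8 * s.σ r.a1 * r.a2 ^ 2
    a5 := p.a5 + r.a5 + p.a6 * r.a4 + s.σ p.a7 * r.a1 + p.a7 * s.σ r.a2 + s.σ p.a8 * r.a3 +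
      p.a8 * s.σ p.a8 * r.u2 + p.a8 ^ 2 * s.σ p.a8 ^ 2 * r.a1 * s.σ r.a1 + p.u8 * r.u2 +
      p.u8 ^ 2 * r.a1 * s.σ r.a1 + p.a6 * p.a8 * s.σ r.a2 + p.a6 * p.u8 * s.σ r.a1 + p.a7 * s.σ p.a8 * s.σ r.a1 +
      s.σ p.a8 * s.σ p.u8 * r.a1 * s.σ r.a1 + s.σ p.a8 * r.a2 * r.a4 + p.a8 * s.σ p.a8 * r.a1 * r.a4 +
      s.σ p.u8 * r.a1 * s.σ r.a2 + p.u8 * r.a1 * r.a4
    a6 := p.a6 + r.a6 + s.σ p.a8 * r.a2 + p.a8 * s.σ p.a8 * r.a1 + p.u8 * r.a1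
    u6 := p.u6 + r.u6 + p.a6 * s.σ r.a6 + s.σ p.a7 * r.a2 + p.a7 * r.a4 + p.a8 * r.a5 +
      p.a8 ^ 2 * s.σ p.a8 * r.u2 + p.a8 ^ 3 * s.σ p.a8 ^ 2 * r.a1 * s.σ r.a1 + s.σ p.u8 * r.a2 * s.σ r.a2 +
      s.σ p.u8 * r.u2 + p.u8 * r.a3 + p.a6 * p.a8 ^ 2 * s.σ r.a2 + p.a6 * p.a8 ^ 2 * s.σ p.a8 * s.σ r.a1 +
      p.a6 * s.σ p.u8 * s.σ r.a1 + s.σ p.a7 * p.a8 * r.a1 + p.a7 * p.a8 * s.σ r.a2 + p.a7 * p.u8 * s.σ r.a1 +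
      s.σ p.a8 * r.a2 * s.σ r.a6 + p.a8 * p.u8 * r.u2 + p.a8 * p.u8 ^ 2 * r.a1 * s.σ r.a1 +
      p.a8 * s.σ p.a8 * s.σ p.u8 * r.a1 * s.σ r.a1 + p.a8 * s.σ p.a8 * r.a1 * s.σ r.a6 +
      p.a8 ^ 2 * s.σ p.a8 * r.a1 * r.a4 + p.a8 ^ 2 * s.σ p.a8 ^ 2 * s.σ r.a1 * r.a2 + s.σ p.u8 * r.a1 * r.a4 +
      p.u8 * r.a1 * s.σ r.a6 + p.u8 * r.a2 * r.a4 + p.u8 ^ 2 * s.σ r.a1 * r.a2 +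
      s.σ p.a8 * s.σ p.u8 * s.σ r.a1 * r.a2 + p.a8 * s.σ p.u8 * r.a1 * s.σ r.a2 + p.a8 * p.u8 * r.a1 * r.a4
    a7 := p.a7 + r.a7 + p.a8 * r.a6 + p.a8 ^ 2 * s.σ p.a8 * r.a1 + s.σ p.u8 * r.a1 + p.u8 * r.a2 +
      p.a8 * p.u8 * r.a1
    a8 := p.a8 + r.a8
    u8 := p.u8 + r.u8 + p.a8 * s.σ r.a8 }⟩

instance instInv : Inv (SG s) := ⟨fun p => {
    a1 := p.a1
    a2 := p.a2 + p.a1 * p.a8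
    u2 := p.a2 * s.σ p.a2 + p.u2 + s.σ p.a1 * p.a6 + p.a1 * p.a4 + p.a1 * s.σ p.a1 * p.a8 * s.σ p.a8 +
      p.a1 * s.σ p.a1 * p.u8 + p.a1 * s.σ p.a2 * p.a8
    a3 := p.a3 + s.σ p.a1 * p.a7 + p.a1 * s.σ p.a6 + p.a1 * s.σ p.a1 * p.a8 ^ 2 * s.σ p.a8 +
      p.a1 * s.σ p.a1 * s.σ p.u8 + p.a2 * p.a4 + p.a8 * p.u2 + s.σ p.a1 * p.a2 * p.a8 * s.σ p.a8 +
      s.σ p.a1 * p.a2 * p.u8 + s.σ p.a1 * p.a6 * p.a8 + p.a1 * p.a4 * p.a8 + p.a1 * s.σ p.a1 * p.a8 * p.u8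
    a4 := p.a4 + s.σ p.a1 * p.a8 * s.σ p.a8 + s.σ p.a1 * p.u8 + s.σ p.a2 * p.a8
    u4 := p.a4 * s.σ p.a4 + p.u4 + p.a1 * p.a6 * s.σ p.a6 + p.a1 * p.u6 + p.a1 ^ 2 * s.σ p.a1 * p.u8 * s.σ p.u8 +
      p.a2 * p.a5 + p.a2 ^ 2 * s.σ p.a2 * p.a8 * s.σ p.a8 + p.a2 ^ 2 * s.σ p.a2 * p.u8 + s.σ p.a3 * p.a8 +
      p.a3 * p.a6 + p.a7 * p.u2 + p.a8 * s.σ p.a8 * s.σ p.u2 + s.σ p.u2 * p.u8 +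
      s.σ p.a1 * p.a2 ^ 2 * p.a8 * s.σ p.a8 ^ 2 + s.σ p.a1 * p.a6 * p.a7 + s.σ p.a1 * p.a6 ^ 2 * p.a8 +
      p.a1 * p.a2 * s.σ p.a7 + p.a1 * p.a3 * p.u8 + p.a1 * p.a4 * p.a7 +
      p.a1 * p.a8 ^ 2 * s.σ p.a8 * p.u2 + p.a1 * p.u2 * s.σ p.u8 +
      p.a1 * s.σ p.a1 * p.a2 * p.a8 ^ 2 * s.σ p.a8 ^ 2 + p.a1 * s.σ p.a1 * p.a2 * p.u8 ^ 2 +
      p.a1 * s.σ p.a1 * p.a6 * p.a8 ^ 2 * s.σ p.a8 + p.a1 * s.σ p.a1 * p.a6 * s.σ p.u8 +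
      p.a1 * s.σ p.a1 * p.a7 * p.u8 + p.a1 ^ 2 * p.a4 * p.a8 ^ 2 * s.σ p.a8 + p.a1 ^ 2 * p.a4 * s.σ p.u8 +
      p.a1 ^ 2 * s.σ p.a6 * p.a8 * s.σ p.a8 + p.a1 ^ 2 * s.σ p.a7 * p.a8 +
      p.a1 ^ 2 * s.σ p.a1 * p.a8 * p.u8 ^ 2 + p.a1 ^ 2 * s.σ p.a1 * p.a8 ^ 2 * s.σ p.a8 * p.u8 +
      p.a2 * p.a3 * s.σ p.a8 + p.a2 * p.a4 * p.a6 + p.a2 * p.u2 * p.u8 + p.a2 ^ 2 * p.a4 * s.σ p.a8 +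
      s.σ p.a1 * p.a2 * p.a6 * p.u8 + s.σ p.a1 * p.a2 * p.a7 * s.σ p.a8 + s.σ p.a1 * p.a2 ^ 2 * s.σ p.a8 * p.u8 +
      p.a1 * p.a2 * s.σ p.a6 * s.σ p.a8 + p.a1 * s.σ p.a1 * p.a2 * s.σ p.a8 * s.σ p.u8
    a5 := p.a5 + p.a1 * s.σ p.a7 + p.a1 * s.σ p.a1 * p.a8 ^ 2 * s.σ p.a8 ^ 2 + p.a1 * s.σ p.a1 * p.u8 ^ 2 +
      s.σ p.a2 * p.a7 + p.a2 * s.σ p.a2 * p.u8 + p.a3 * s.σ p.a8 + p.a4 * p.a6 + p.u2 * p.u8 +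
      s.σ p.a1 * p.a6 * p.u8 + s.σ p.a1 * p.a7 * s.σ p.a8 + p.a1 * s.σ p.a2 * p.a8 ^ 2 * s.σ p.a8 +
      p.a1 * s.σ p.a2 * s.σ p.u8 + p.a1 * s.σ p.a6 * s.σ p.a8 + p.a1 * s.σ p.a1 * s.σ p.a8 * s.σ p.u8
    a6 := p.a6 + p.a1 * p.u8 + p.a2 * s.σ p.a8
    u6 := p.a6 * s.σ p.a6 + p.u6 + p.a1 * s.σ p.a1 * p.a8 ^ 3 * s.σ p.a8 ^ 2 + p.a2 * s.σ p.a7 +
      p.a3 * p.a8 * s.σ p.a8 + p.a3 * p.u8 + p.a4 * p.a7 + p.a5 * p.a8 + p.a8 ^ 2 * s.σ p.a8 * p.u2 +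
      p.u2 * s.σ p.u8 + s.σ p.a1 * p.a2 * p.a8 ^ 2 * s.σ p.a8 ^ 2 + s.σ p.a1 * p.a2 * p.u8 ^ 2 +
      s.σ p.a1 * p.a6 * p.a8 ^ 2 * s.σ p.a8 + s.σ p.a1 * p.a6 * s.σ p.u8 + s.σ p.a1 * p.a7 * p.a8 * s.σ p.a8 +
      s.σ p.a1 * p.a7 * p.u8 + p.a1 * s.σ p.a2 * p.a8 ^ 3 * s.σ p.a8 + p.a1 * s.σ p.a6 * p.a8 * s.σ p.a8 +
      p.a1 * s.σ p.a7 * p.a8 + p.a1 * s.σ p.a1 * p.a8 * p.u8 ^ 2 + p.a1 * s.σ p.a1 * p.a8 * s.σ p.a8 * s.σ p.u8 +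
      s.σ p.a2 * p.a7 * p.a8 + p.a2 * s.σ p.a6 * s.σ p.a8 + p.a2 * s.σ p.a2 * p.a8 * p.u8 +
      p.a4 * p.a6 * p.a8 + p.a8 * p.u2 * p.u8 + s.σ p.a1 * p.a2 * s.σ p.a8 * s.σ p.u8 +
      s.σ p.a1 * p.a6 * p.a8 * p.u8 + p.a1 * s.σ p.a2 * p.a8 * s.σ p.u8
    a7 := p.a7 + p.a1 * p.a8 ^ 2 * s.σ p.a8 + p.a1 * s.σ p.u8 + p.a2 * p.a8 * s.σ p.a8 + p.a2 * p.u8 +
      p.a6 * p.a8 + p.a1 * p.a8 * p.u8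
    a8 := p.a8
    u8 := p.a8 * s.σ p.a8 + p.u8 }⟩

@[simp] theorem one_a1 : (1 : SG s).a1 = 0 := rfl
@[simp] theorem one_a2 : (1 : SG s).a2 = 0 := rfl
@[simp] theorem one_u2 : (1 : SG s).u2 = 0 := rfl
@[simp] theorem one_a3 : (1 : SG s).a3 = 0 := rfl
@[simp] theorem one_a4 : (1 : SG s).a4 = 0 := rfl
@[simp] theorem one_u4 : (1 : SG s).u4 = 0 := rfl
@[simp] theorem one_a5 : (1 : SG s).a5 = 0 := rfl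
@[simp] theorem one_a6 : (1 : SG s).a6 = 0 := rfl
@[simp] theorem one_u6 : (1 : SG s).u6 = 0 := rfl
@[simp] theorem one_a7 : (1 : SG s).a7 = 0 := rfl
@[simp] theorem one_a8 : (1 : SG s).a8 = 0 := rfl
@[simp] theorem one_u8 : (1 : SG s).u8 = 0 := rfl

@[simp] theorem mul_a1 (p r : SG s) : (p * r).a1 =
    p.a1 + r.a1 := rfl
@[simp] theorem mul_a2 (p r : SG s) : (p * r).a2 =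
    p.a2 + r.a2 + p.a8 * r.a1 := rfl
@[simp] theorem mul_u2 (p r : SG s) : (p * r).u2 =
    p.u2 + r.u2 + p.a2 * s.σ r.a2 + p.a4 * r.a1 + p.a6 * s.σ r.a1 + p.u8 * r.a1 * s.σ r.a1 +
    p.a2 * s.σ p.a8 * s.σ r.a1 + p.a8 * r.a1 * s.σ r.a2 := rfl
@[simp] theorem mul_a3 (p r : SG s) : (p * r).a3 =
    p.a3 + r.a3 + p.a4 * r.a2 + s.σ p.a6 * r.a1 + p.a7 * s.σ r.a1 + p.a8 * r.a2 * s.σ r.a2 + p.a8 * r.u2 +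
    p.a8 ^ 2 * s.σ p.a8 * r.a1 * s.σ r.a1 + s.σ p.u8 * r.a1 * s.σ r.a1 + p.a4 * p.a8 * r.a1 +
    p.a8 * p.u8 * r.a1 * s.σ r.a1 + p.u8 * s.σ r.a1 * r.a2 := rfl
@[simp] theorem mul_a4 (p r : SG s) : (p * r).a4 =
    p.a4 + r.a4 + p.a8 * s.σ r.a2 + p.u8 * s.σ r.a1 := rfl
@[simp] theorem mul_u4 (p r : SG s) : (p * r).u4 =
    p.u4 + r.u4 + p.a4 * s.σ r.a4 + p.a5 * r.a2 + p.a6 * r.a3 + p.a7 * r.a2 * s.σ r.a2 + p.a7 * r.u2 +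
    p.a8 * s.σ r.a3 + p.a8 * s.σ p.a8 * r.a2 ^ 2 * s.σ r.a2 + p.a8 ^ 3 * s.σ p.a8 ^ 2 * r.a1 ^ 2 * s.σ r.a1 +
    p.u6 * r.a1 + p.u8 * r.a2 ^ 2 * s.σ r.a2 + p.u8 * s.σ r.u2 + p.u8 * s.σ p.u8 * r.a1 ^ 2 * s.σ r.a1 +
    p.a4 * s.σ p.a8 * r.a2 ^ 2 + p.a4 * s.σ p.u8 * r.a1 ^ 2 + p.a5 * p.a8 * r.a1 + p.a6 * p.a7 * s.σ r.a1 +
    p.a6 * p.a8 * r.a2 * s.σ r.a2 + p.a6 * p.a8 * r.u2 + p.a6 * p.a8 ^ 2 * s.σ p.a8 * r.a1 * s.σ r.a1 +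
    p.a6 * s.σ p.u8 * r.a1 * s.σ r.a1 + s.σ p.a7 * p.a8 * r.a1 ^ 2 + s.σ p.a7 * r.a1 * r.a2 +
    p.a7 * p.a8 * s.σ p.a8 * r.a1 * s.σ r.a1 + p.a7 * p.u8 * r.a1 * s.σ r.a1 + s.σ p.a8 * r.a2 * r.a3 +
    p.a8 * p.u8 ^ 2 * r.a1 ^ 2 * s.σ r.a1 + p.a8 * s.σ r.a2 * s.σ r.a4 +
    p.a8 * s.σ p.a8 * s.σ p.u8 * r.a1 ^ 2 * s.σ r.a1 + p.a8 * s.σ p.a8 * r.a1 * r.a3 +
    p.a8 * s.σ p.a8 * r.a2 * r.u2 + p.a8 ^ 2 * s.σ p.a8 ^ 2 * r.a1 * s.σ r.a1 * r.a2 +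
    s.σ p.u8 * r.a1 * r.a2 * s.σ r.a2 + s.σ p.u8 * r.a1 * r.u2 + p.u8 * s.σ r.a1 * s.σ r.a4 +
    p.u8 * r.a1 * r.a3 + p.u8 * r.a2 * r.u2 + p.u8 ^ 2 * r.a1 * s.σ r.a1 * r.a2 +
    p.a6 * p.a8 * p.u8 * r.a1 * s.σ r.a1 + p.a6 * p.u8 * s.σ r.a1 * r.a2 +
    p.a7 * s.σ p.a8 * s.σ r.a1 * r.a2 + s.σ p.a8 * s.σ p.u8 * r.a1 * s.σ r.a1 * r.a2 +
    s.σ p.a8 * p.u8 * s.σ r.a1 * r.a2 ^ 2 := rfl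
@[simp] theorem mul_a5 (p r : SG s) : (p * r).a5 =
    p.a5 + r.a5 + p.a6 * r.a4 + s.σ p.a7 * r.a1 + p.a7 * s.σ r.a2 + s.σ p.a8 * r.a3 +
    p.a8 * s.σ p.a8 * r.u2 + p.a8 ^ 2 * s.σ p.a8 ^ 2 * r.a1 * s.σ r.a1 + p.u8 * r.u2 +
    p.u8 ^ 2 * r.a1 * s.σ r.a1 + p.a6 * p.a8 * s.σ r.a2 + p.a6 * p.u8 * s.σ r.a1 + p.a7 * s.σ p.a8 * s.σ r.a1 +
    s.σ p.a8 * s.σ p.u8 * r.a1 * s.σ r.a1 + s.σ p.a8 * r.a2 * r.a4 + p.a8 * s.σ p.a8 * r.a1 * r.a4 +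
    s.σ p.u8 * r.a1 * s.σ r.a2 + p.u8 * r.a1 * r.a4 := rfl
@[simp] theorem mul_a6 (p r : SG s) : (p * r).a6 =
    p.a6 + r.a6 + s.σ p.a8 * r.a2 + p.a8 * s.σ p.a8 * r.a1 + p.u8 * r.a1 := rfl
@[simp] theorem mul_u6 (p r : SG s) : (p * r).u6 =
    p.u6 + r.u6 + p.a6 * s.σ r.a6 + s.σ p.a7 * r.a2 + p.a7 * r.a4 + p.a8 * r.a5 +
    p.a8 ^ 2 * s.σ p.a8 * r.u2 + p.a8 ^ 3 * s.σ p.a8 ^ 2 * r.a1 * s.σ r.a1 + s.σ p.u8 * r.a2 * s.σ r.a2 +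
    s.σ p.u8 * r.u2 + p.u8 * r.a3 + p.a6 * p.a8 ^ 2 * s.σ r.a2 + p.a6 * p.a8 ^ 2 * s.σ p.a8 * s.σ r.a1 +
    p.a6 * s.σ p.u8 * s.σ r.a1 + s.σ p.a7 * p.a8 * r.a1 + p.a7 * p.a8 * s.σ r.a2 + p.a7 * p.u8 * s.σ r.a1 +
    s.σ p.a8 * r.a2 * s.σ r.a6 + p.a8 * p.u8 * r.u2 + p.a8 * p.u8 ^ 2 * r.a1 * s.σ r.a1 +
    p.a8 * s.σ p.a8 * s.σ p.u8 * r.a1 * s.σ r.a1 + p.a8 * s.σ p.a8 * r.a1 * s.σ r.a6 +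
    p.a8 ^ 2 * s.σ p.a8 * r.a1 * r.a4 + p.a8 ^ 2 * s.σ p.a8 ^ 2 * s.σ r.a1 * r.a2 + s.σ p.u8 * r.a1 * r.a4 +
    p.u8 * r.a1 * s.σ r.a6 + p.u8 * r.a2 * r.a4 + p.u8 ^ 2 * s.σ r.a1 * r.a2 +
    s.σ p.a8 * s.σ p.u8 * s.σ r.a1 * r.a2 + p.a8 * s.σ p.u8 * r.a1 * s.σ r.a2 + p.a8 * p.u8 * r.a1 * r.a4 := rfl
@[simp] theorem mul_a7 (p r : SG s) : (p * r).a7 =
    p.a7 + r.a7 + p.a8 * r.a6 + p.a8 ^ 2 * s.σ p.a8 * r.a1 + s.σ p.u8 * r.a1 + p.u8 * r.a2 +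
    p.a8 * p.u8 * r.a1 := rfl
@[simp] theorem mul_a8 (p r : SG s) : (p * r).a8 =
    p.a8 + r.a8 := rfl
@[simp] theorem mul_u8 (p r : SG s) : (p * r).u8 =
    p.u8 + r.u8 + p.a8 * s.σ r.a8 := rfl

@[simp] theorem inv_a1 (p : SG s) : p⁻¹.a1 =
    p.a1 := rfl
@[simp] theorem inv_a2 (p : SG s) : p⁻¹.a2 =
    p.a2 + p.a1 * p.a8 := rfl
@[simp] theorem inv_u2 (p : SG s) : p⁻¹.u2 =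
    p.a2 * s.σ p.a2 + p.u2 + s.σ p.a1 * p.a6 + p.a1 * p.a4 + p.a1 * s.σ p.a1 * p.a8 * s.σ p.a8 +
    p.a1 * s.σ p.a1 * p.u8 + p.a1 * s.σ p.a2 * p.a8 := rfl
@[simp] theorem inv_a3 (p : SG s) : p⁻¹.a3 =
    p.a3 + s.σ p.a1 * p.a7 + p.a1 * s.σ p.a6 + p.a1 * s.σ p.a1 * p.a8 ^ 2 * s.σ p.a8 +
    p.a1 * s.σ p.a1 * s.σ p.u8 + p.a2 * p.a4 + p.a8 * p.u2 + s.σ p.a1 * p.a2 * p.a8 * s.σ p.a8 +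
    s.σ p.a1 * p.a2 * p.u8 + s.σ p.a1 * p.a6 * p.a8 + p.a1 * p.a4 * p.a8 + p.a1 * s.σ p.a1 * p.a8 * p.u8 := rfl
@[simp] theorem inv_a4 (p : SG s) : p⁻¹.a4 =
    p.a4 + s.σ p.a1 * p.a8 * s.σ p.a8 + s.σ p.a1 * p.u8 + s.σ p.a2 * p.a8 := rfl
@[simp] theorem inv_u4 (p : SG s) : p⁻¹.u4 =
    p.a4 * s.σ p.a4 + p.u4 + p.a1 * p.a6 * s.σ p.a6 + p.a1 * p.u6 + p.a1 ^ 2 * s.σ p.a1 * p.u8 * s.σ p.u8 +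
    p.a2 * p.a5 + p.a2 ^ 2 * s.σ p.a2 * p.a8 * s.σ p.a8 + p.a2 ^ 2 * s.σ p.a2 * p.u8 + s.σ p.a3 * p.a8 +
    p.a3 * p.a6 + p.a7 * p.u2 + p.a8 * s.σ p.a8 * s.σ p.u2 + s.σ p.u2 * p.u8 +
    s.σ p.a1 * p.a2 ^ 2 * p.a8 * s.σ p.a8 ^ 2 + s.σ p.a1 * p.a6 * p.a7 + s.σ p.a1 * p.a6 ^ 2 * p.a8 +
    p.a1 * p.a2 * s.σ p.a7 + p.a1 * p.a3 * p.u8 + p.a1 * p.a4 * p.a7 +
    p.a1 * p.a8 ^ 2 * s.σ p.a8 * p.u2 + p.a1 * p.u2 * s.σ p.u8 +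
    p.a1 * s.σ p.a1 * p.a2 * p.a8 ^ 2 * s.σ p.a8 ^ 2 + p.a1 * s.σ p.a1 * p.a2 * p.u8 ^ 2 +
    p.a1 * s.σ p.a1 * p.a6 * p.a8 ^ 2 * s.σ p.a8 + p.a1 * s.σ p.a1 * p.a6 * s.σ p.u8 +
    p.a1 * s.σ p.a1 * p.a7 * p.u8 + p.a1 ^ 2 * p.a4 * p.a8 ^ 2 * s.σ p.a8 + p.a1 ^ 2 * p.a4 * s.σ p.u8 +
    p.a1 ^ 2 * s.σ p.a6 * p.a8 * s.σ p.a8 + p.a1 ^ 2 * s.σ p.a7 * p.a8 +
    p.a1 ^ 2 * s.σ p.a1 * p.a8 * p.u8 ^ 2 + p.a1 ^ 2 * s.σ p.a1 * p.a8 ^ 2 * s.σ p.a8 * p.u8 +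
    p.a2 * p.a3 * s.σ p.a8 + p.a2 * p.a4 * p.a6 + p.a2 * p.u2 * p.u8 + p.a2 ^ 2 * p.a4 * s.σ p.a8 +
    s.σ p.a1 * p.a2 * p.a6 * p.u8 + s.σ p.a1 * p.a2 * p.a7 * s.σ p.a8 + s.σ p.a1 * p.a2 ^ 2 * s.σ p.a8 * p.u8 +
    p.a1 * p.a2 * s.σ p.a6 * s.σ p.a8 + p.a1 * s.σ p.a1 * p.a2 * s.σ p.a8 * s.σ p.u8 := rfl
@[simp] theorem inv_a5 (p : SG s) : p⁻¹.a5 =
    p.a5 + p.a1 * s.σ p.a7 + p.a1 * s.σ p.a1 * p.a8 ^ 2 * s.σ p.a8 ^ 2 + p.a1 * s.σ p.a1 * p.u8 ^ 2 +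
    s.σ p.a2 * p.a7 + p.a2 * s.σ p.a2 * p.u8 + p.a3 * s.σ p.a8 + p.a4 * p.a6 + p.u2 * p.u8 +
    s.σ p.a1 * p.a6 * p.u8 + s.σ p.a1 * p.a7 * s.σ p.a8 + p.a1 * s.σ p.a2 * p.a8 ^ 2 * s.σ p.a8 +
    p.a1 * s.σ p.a2 * s.σ p.u8 + p.a1 * s.σ p.a6 * s.σ p.a8 + p.a1 * s.σ p.a1 * s.σ p.a8 * s.σ p.u8 := rfl
@[simp] theorem inv_a6 (p : SG s) : p⁻¹.a6 =
    p.a6 + p.a1 * p.u8 + p.a2 * s.σ p.a8 := rfl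
@[simp] theorem inv_u6 (p : SG s) : p⁻¹.u6 =
    p.a6 * s.σ p.a6 + p.u6 + p.a1 * s.σ p.a1 * p.a8 ^ 3 * s.σ p.a8 ^ 2 + p.a2 * s.σ p.a7 +
    p.a3 * p.a8 * s.σ p.a8 + p.a3 * p.u8 + p.a4 * p.a7 + p.a5 * p.a8 + p.a8 ^ 2 * s.σ p.a8 * p.u2 +
    p.u2 * s.σ p.u8 + s.σ p.a1 * p.a2 * p.a8 ^ 2 * s.σ p.a8 ^ 2 + s.σ p.a1 * p.a2 * p.u8 ^ 2 +
    s.σ p.a1 * p.a6 * p.a8 ^ 2 * s.σ p.a8 + s.σ p.a1 * p.a6 * s.σ p.u8 + s.σ p.a1 * p.a7 * p.a8 * s.σ p.a8 +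
    s.σ p.a1 * p.a7 * p.u8 + p.a1 * s.σ p.a2 * p.a8 ^ 3 * s.σ p.a8 + p.a1 * s.σ p.a6 * p.a8 * s.σ p.a8 +
    p.a1 * s.σ p.a7 * p.a8 + p.a1 * s.σ p.a1 * p.a8 * p.u8 ^ 2 + p.a1 * s.σ p.a1 * p.a8 * s.σ p.a8 * s.σ p.u8 +
    s.σ p.a2 * p.a7 * p.a8 + p.a2 * s.σ p.a6 * s.σ p.a8 + p.a2 * s.σ p.a2 * p.a8 * p.u8 +
    p.a4 * p.a6 * p.a8 + p.a8 * p.u2 * p.u8 + s.σ p.a1 * p.a2 * s.σ p.a8 * s.σ p.u8 +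
    s.σ p.a1 * p.a6 * p.a8 * p.u8 + p.a1 * s.σ p.a2 * p.a8 * s.σ p.u8 := rfl
@[simp] theorem inv_a7 (p : SG s) : p⁻¹.a7 =
    p.a7 + p.a1 * p.a8 ^ 2 * s.σ p.a8 + p.a1 * s.σ p.u8 + p.a2 * p.a8 * s.σ p.a8 + p.a2 * p.u8 +
    p.a6 * p.a8 + p.a1 * p.a8 * p.u8 := rfl
@[simp] theorem inv_a8 (p : SG s) : p⁻¹.a8 =
    p.a8 := rfl
@[simp] theorem inv_u8 (p : SG s) : p⁻¹.u8 =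
    p.a8 * s.σ p.a8 + p.u8 := rfl

/-- Conjugation by `n₀` (index `i ↦ 8 - i`), valid on `Q`. -/
@[simps] def nu (p : SG s) : SG s := {
    a1 := p.a7
    a2 := p.a6
    u2 := p.u6 + p.a2 * s.σ p.a7 + p.a4 * p.a7
    a3 := p.a5 + p.a1 * s.σ p.a7 + s.σ p.a2 * p.a7 + p.a4 * p.a6
    a4 := p.a4
    u4 := p.u4 + p.a1 * p.a6 * s.σ p.a6 + p.a1 * p.u6 + p.a2 * p.a5 + p.a3 * p.a6 + p.a7 * p.u2 +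
      s.σ p.a1 * p.a6 * p.a7 + p.a1 * p.a2 * s.σ p.a7 + p.a1 * p.a4 * p.a7 + p.a2 * p.a4 * p.a6
    a5 := p.a3 + s.σ p.a1 * p.a7 + p.a1 * s.σ p.a6 + p.a2 * p.a4
    a6 := p.a2
    u6 := p.u2 + s.σ p.a1 * p.a6 + p.a1 * p.a4
    a7 := p.a1
    a8 := 0
    u8 := 0 }

/-- Conjugation by `n₁` (index `i ↦ 10 - i`), valid on `R`. -/
@[simps] def mu (p : SG s) : SG s := {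
    a1 := 0
    a2 := p.a8
    u2 := p.u8
    a3 := p.a7 + p.a2 * p.a8 * s.σ p.a8 + p.a2 * p.u8 + p.a6 * p.a8
    a4 := p.a6 + p.a2 * s.σ p.a8
    u4 := p.u6 + p.a2 * s.σ p.a7 + p.a2 * s.σ p.a2 * p.a8 ^ 2 * s.σ p.a8 + p.a3 * p.a8 * s.σ p.a8 + p.a3 * p.u8 +
      p.a4 * p.a7 + p.a5 * p.a8 + p.a8 ^ 2 * s.σ p.a8 * p.u2 + p.u2 * s.σ p.u8 + s.σ p.a2 * p.a6 * p.a8 ^ 2 +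
      s.σ p.a2 * p.a7 * p.a8 + p.a2 * s.σ p.a2 * p.a8 * p.u8 + p.a4 * p.a6 * p.a8 + p.a8 * p.u2 * p.u8
    a5 := p.a5 + s.σ p.a2 * p.a7 + p.a2 * s.σ p.a2 * p.u8 + p.a3 * s.σ p.a8 + p.a4 * p.a6 + p.u2 * p.u8
    a6 := p.a4 + s.σ p.a2 * p.a8
    u6 := p.u4 + p.a2 * p.a5 + p.a2 ^ 2 * s.σ p.a2 * p.u8 + s.σ p.a3 * p.a8 + p.a3 * p.a6 + p.a7 * p.u2 +
      p.a8 * s.σ p.a8 * s.σ p.u2 + s.σ p.u2 * p.u8 + s.σ p.a2 * s.σ p.a4 * p.a8 + p.a2 * p.a3 * s.σ p.a8 +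
      p.a2 * p.a4 * p.a6 + p.a2 * p.u2 * p.u8
    a7 := p.a3 + p.a2 * p.a4 + p.a8 * p.u2
    a8 := p.a2
    u8 := p.u2 }

/-- The diagonal map with weight `α` on `a₁` and `β` on `a₈`. -/
@[simps] def dl (α β : K) (p : SG s) : SG s := {
    a1 := α * p.a1
    a2 := α * β * p.a2
    u2 := α * s.σ α * β * s.σ β * p.u2
    a3 := α * s.σ α * β ^ 2 * s.σ β * p.a3
    a4 := s.σ α * β * s.σ β * p.a4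
    u4 := α ^ 2 * s.σ α * β ^ 3 * s.σ β ^ 2 * p.u4
    a5 := α * s.σ α * β ^ 2 * s.σ β ^ 2 * p.a5
    a6 := α * β * s.σ β * p.a6
    u6 := α * s.σ α * β ^ 3 * s.σ β ^ 2 * p.u6
    a7 := α * β ^ 2 * s.σ β * p.a7
    a8 := β * p.a8
    u8 := β * s.σ β * p.u8 }

/-- The diagonal map of the torus of the Suzuki group; `i` stands for `c⁻¹`. -/
@[simps] def dh (c i : K) (p : SG s) : SG s := {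
    a1 := i * s.σ i * p.a1
    a2 := i * p.a2
    u2 := i * s.σ i * p.u2
    a3 := i * p.a3
    a4 := p.a4
    u4 := p.u4
    a5 := c * p.a5
    a6 := c * p.a6
    u6 := c * s.σ c * p.u6
    a7 := c * s.σ c * p.a7
    a8 := s.σ c * p.a8
    u8 := c ^ 2 * s.σ c * p.u8 }

@[simps] def x1 (a : K) : SG s := ⟨a, 0, 0, 0, 0, 0, 0, 0, 0, 0, 0, 0⟩
@[simps] def w2 (a u : K) : SG s := ⟨0, a, u, 0, 0, 0, 0, 0, 0, 0, 0, 0⟩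
@[simps] def x3 (a : K) : SG s := ⟨0, 0, 0, a, 0, 0, 0, 0, 0, 0, 0, 0⟩
@[simps] def w4 (a u : K) : SG s := ⟨0, 0, 0, 0, a, u, 0, 0, 0, 0, 0, 0⟩
@[simps] def x5 (a : K) : SG s := ⟨0, 0, 0, 0, 0, 0, a, 0, 0, 0, 0, 0⟩
@[simps] def w6 (a u : K) : SG s := ⟨0, 0, 0, 0, 0, 0, 0, a, u, 0, 0, 0⟩
@[simps] def x7 (a : K) : SG s := ⟨0, 0, 0, 0, 0, 0, 0, 0, 0, a, 0, 0⟩
@[simps] def w8 (a u : K) : SG s := ⟨0, 0, 0, 0, 0, 0, 0, 0, 0, 0, a, u⟩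

variable [CharP K 2]

instance instGroup : Group (SG s) := Group.ofLeftAxioms
  (fun p r t => by ext <;> simp <;> grind)
  (fun p => by ext <;> simp)
  (fun p => by ext <;> simp <;> grind)

end SG

end Cfsg.Agent.Og
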