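import Mathlib
import Cfsg.Agent.Og.SG
import Cfsg.Agent.Loc.MssSyl

/-! Letters and relations for the centralizer `C` of a `2`-central involution of the large Ree group, and for
the large Ree group itself. -/

set_option autoImplicit false
set_option linter.unusedSectionVars false

namespace Cfsg.Agent.Og

open Cfsg.Agent.Loc.Mss Subgroup

scoped notation:max "𝐂₁[" x "]" => Subgroup.centralizer (Set.singleton x)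

theorem mem_c1 {G : Type*} [Group G] {x g : G} : g ∈ 𝐂₁[x] ↔ g * x = x * g :=
  Subgroup.mem_centralizer_singleton_iff

theorem c1_eq {G : Type*} [Group G] (x : G) : 𝐂₁[x] = Subgroup.centralizer ({x} : Set G) := rfl

variable {K : Type*} [Field K] {s : Sg K}

/-- `σ` on the units. -/
def Sg.σu (s : Sg K) : Kˣ →* Kˣ := Units.map (s.σ : K →* K)

@[simp] theorem Sg.coe_σu (s : Sg K) (c : Kˣ) : ((s.σu c : Kˣ) : K) = s.σ c := rfl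

@[simp] theorem Sg.σu_σu (s : Sg K) (c : Kˣ) : s.σu (s.σu c) = c ^ 2 := Units.ext (by simp)

/-- The torus of the Suzuki group inside the full torus. -/
def Sg.hT (s : Sg K) : Kˣ →* Kˣ × Kˣ where
  toFun c := ((c * s.σu c)⁻¹, s.σu c)
  map_one' := by simp
  map_mul' c d := by simp [mul_comm, mul_left_comm, mul_assoc]

@[simp] theorem Sg.hT_apply (s : Sg K) (c : Kˣ) : s.hT c = ((c * s.σu c)⁻¹, s.σu c) := rfl

variable [CharP K 2]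

namespace SG

variable (s) in
/-- The subgroup `Q = U₁ ⋯ U₇`. -/
def Qs : Subgroup (SG s) where
  carrier := {p | p.a8 = 0 ∧ p.u8 = 0}
  mul_mem' := fun {p r} hp hr => by simp_all
  one_mem' := by simp
  inv_mem' := fun {p} hp => by simp_all

@[simp] theorem mem_Qs {p : SG s} : p ∈ Qs s ↔ p.a8 = 0 ∧ p.u8 = 0 := Iff.rfl

variable (s) in
/-- The subgroup `R = U₂ ⋯ U₈`. -/
def Rs : Subgroup (SG s) where
  carrier := {p | p.a1 = 0}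
  mul_mem' := fun {p r} hp hr => by simp_all
  one_mem' := by simp
  inv_mem' := fun {p} hp => by simp_all

@[simp] theorem mem_Rs {p : SG s} : p ∈ Rs s ↔ p.a1 = 0 := Iff.rfl

variable (s) in
/-- The subgroup `U₃ ⋯ U₈`. -/
def R3s : Subgroup (SG s) where
  carrier := {p | p.a1 = 0 ∧ p.a2 = 0 ∧ p.u2 = 0}
  mul_mem' := fun {p r} hp hr => by simp_all
  one_mem' := by simp
  inv_mem' := fun {p} hp => by simp_all

@[simp] theorem mem_R3s {p : SG s} : p ∈ R3s s ↔ p.a1 = 0 ∧ p.a2 = 0 ∧ p.u2 = 0 := Iff.rfl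

variable (s) in
/-- The subgroup `Y = V U₄`. -/
def Ys : Subgroup (SG s) where
  carrier := {p | p.a1 = 0 ∧ p.a2 = 0 ∧ p.a6 = 0 ∧ p.a7 = 0 ∧ p.a8 = 0 ∧ p.u8 = 0}
  mul_mem' := fun {p r} hp hr => by simp_all
  one_mem' := by simp
  inv_mem' := fun {p} hp => by simp_all

@[simp] theorem mem_Ys {p : SG s} : p ∈ Ys s ↔ p.a1 = 0 ∧ p.a2 = 0 ∧ p.a6 = 0 ∧ p.a7 = 0 ∧ p.a8 = 0 ∧ p.u8 = 0 := Iff.rfl

variable (s) in
/-- The subgroup `V = V₂ U₃ V₄ U₅ V₆`. -/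
def Vs : Subgroup (SG s) where
  carrier := {p | p.a1 = 0 ∧ p.a2 = 0 ∧ p.a4 = 0 ∧ p.a6 = 0 ∧ p.a7 = 0 ∧ p.a8 = 0 ∧ p.u8 = 0}
  mul_mem' := fun {p r} hp hr => by simp_all
  one_mem' := by simp
  inv_mem' := fun {p} hp => by simp_all

@[simp] theorem mem_Vs {p : SG s} : p ∈ Vs s ↔ p.a1 = 0 ∧ p.a2 = 0 ∧ p.a4 = 0 ∧ p.a6 = 0 ∧ p.a7 = 0 ∧ p.a8 = 0 ∧ p.u8 = 0 := Iff.rfl

variable (s) in
/-- The subgroup `Z = V₄ V₆`. -/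
def Zs : Subgroup (SG s) where
  carrier := {p | p.a1 = 0 ∧ p.a2 = 0 ∧ p.u2 = 0 ∧ p.a3 = 0 ∧ p.a4 = 0 ∧ p.a5 = 0 ∧ p.a6 = 0 ∧ p.a7 = 0 ∧ p.a8 = 0 ∧ p.u8 = 0}
  mul_mem' := fun {p r} hp hr => by simp_all
  one_mem' := by simp
  inv_mem' := fun {p} hp => by simp_all

@[simp] theorem mem_Zs {p : SG s} : p ∈ Zs s ↔ p.a1 = 0 ∧ p.a2 = 0 ∧ p.u2 = 0 ∧ p.a3 = 0 ∧ p.a4 = 0 ∧ p.a5 = 0 ∧ p.a6 = 0 ∧ p.a7 = 0 ∧ p.a8 = 0 ∧ p.u8 = 0 := Iff.rfl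

variable (s) in
/-- The subgroup `X = V₄`. -/
def Xs : Subgroup (SG s) where
  carrier := {p | p.a1 = 0 ∧ p.a2 = 0 ∧ p.u2 = 0 ∧ p.a3 = 0 ∧ p.a4 = 0 ∧ p.a5 = 0 ∧ p.a6 = 0 ∧ p.u6 = 0 ∧ p.a7 = 0 ∧ p.a8 = 0 ∧ p.u8 = 0}
  mul_mem' := fun {p r} hp hr => by simp_all
  one_mem' := by simp
  inv_mem' := fun {p} hp => by simp_all

@[simp] theorem mem_Xs {p : SG s} : p ∈ Xs s ↔ p.a1 = 0 ∧ p.a2 = 0 ∧ p.u2 = 0 ∧ p.a3 = 0 ∧ p.a4 = 0 ∧ p.a5 = 0 ∧ p.a6 = 0 ∧ p.u6 = 0 ∧ p.a7 = 0 ∧ p.a8 = 0 ∧ p.u8 = 0 := Iff.rfl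

variable (s) in
/-- The subgroup `V₆`. -/
def V6s : Subgroup (SG s) where
  carrier := {p | p.a1 = 0 ∧ p.a2 = 0 ∧ p.u2 = 0 ∧ p.a3 = 0 ∧ p.a4 = 0 ∧ p.u4 = 0 ∧ p.a5 = 0 ∧ p.a6 = 0 ∧ p.a7 = 0 ∧ p.a8 = 0 ∧ p.u8 = 0}
  mul_mem' := fun {p r} hp hr => by simp_all
  one_mem' := by simp
  inv_mem' := fun {p} hp => by simp_all

@[simp] theorem mem_V6s {p : SG s} : p ∈ V6s s ↔ p.a1 = 0 ∧ p.a2 = 0 ∧ p.u2 = 0 ∧ p.a3 = 0 ∧ p.a4 = 0 ∧ p.u4 = 0 ∧ p.a5 = 0 ∧ p.a6 = 0 ∧ p.a7 = 0 ∧ p.a8 = 0 ∧ p.u8 = 0 := Iff.rfl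

variable (s) in
/-- The subgroup the centralizer of `x₅(1)`. -/
def T3s : Subgroup (SG s) where
  carrier := {p | p.a2 = 0 ∧ p.a8 = 0}
  mul_mem' := fun {p r} hp hr => by simp_all
  one_mem' := by simp
  inv_mem' := fun {p} hp => by simp_all

@[simp] theorem mem_T3s {p : SG s} : p ∈ T3s s ↔ p.a2 = 0 ∧ p.a8 = 0 := Iff.rfl

variable (s) in
/-- The subgroup the centralizer of `x₇(1)`. -/
def T4s : Subgroup (SG s) where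
  carrier := {p | p.a1 = 0 ∧ p.a2 = 0 ∧ p.u2 = 0 ∧ p.a4 = 0}
  mul_mem' := fun {p r} hp hr => by simp_all
  one_mem' := by simp
  inv_mem' := fun {p} hp => by simp_all

@[simp] theorem mem_T4s {p : SG s} : p ∈ T4s s ↔ p.a1 = 0 ∧ p.a2 = 0 ∧ p.u2 = 0 ∧ p.a4 = 0 := Iff.rfl

variable (s) in
/-- The subgroup the centralizer of `w₈(0,1)`. -/
def T5s : Subgroup (SG s) where
  carrier := {p | p.a1 = 0 ∧ p.a2 = 0 ∧ p.u2 = 0 ∧ p.a3 = 0}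
  mul_mem' := fun {p r} hp hr => by simp_all
  one_mem' := by simp
  inv_mem' := fun {p} hp => by simp_all

@[simp] theorem mem_T5s {p : SG s} : p ∈ T5s s ↔ p.a1 = 0 ∧ p.a2 = 0 ∧ p.u2 = 0 ∧ p.a3 = 0 := Iff.rfl

variable (s) in
/-- The subgroup `U₁`. -/
def U1s : Subgroup (SG s) where
  carrier := {p | p.a2 = 0 ∧ p.u2 = 0 ∧ p.a3 = 0 ∧ p.a4 = 0 ∧ p.u4 = 0 ∧ p.a5 = 0 ∧ p.a6 = 0 ∧ p.u6 = 0 ∧ p.a7 = 0 ∧ p.a8 = 0 ∧ p.u8 = 0}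
  mul_mem' := fun {p r} hp hr => by simp_all
  one_mem' := by simp
  inv_mem' := fun {p} hp => by simp_all

@[simp] theorem mem_U1s {p : SG s} : p ∈ U1s s ↔ p.a2 = 0 ∧ p.u2 = 0 ∧ p.a3 = 0 ∧ p.a4 = 0 ∧ p.u4 = 0 ∧ p.a5 = 0 ∧ p.a6 = 0 ∧ p.u6 = 0 ∧ p.a7 = 0 ∧ p.a8 = 0 ∧ p.u8 = 0 := Iff.rfl

variable (s) in
/-- The subgroup `U₂`. -/
def U2s : Subgroup (SG s) where
  carrier := {p | p.a1 = 0 ∧ p.a3 = 0 ∧ p.a4 = 0 ∧ p.u4 = 0 ∧ p.a5 = 0 ∧ p.a6 = 0 ∧ p.u6 = 0 ∧ p.a7 = 0 ∧ p.a8 = 0 ∧ p.u8 = 0}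
  mul_mem' := fun {p r} hp hr => by simp_all
  one_mem' := by simp
  inv_mem' := fun {p} hp => by simp_all

@[simp] theorem mem_U2s {p : SG s} : p ∈ U2s s ↔ p.a1 = 0 ∧ p.a3 = 0 ∧ p.a4 = 0 ∧ p.u4 = 0 ∧ p.a5 = 0 ∧ p.a6 = 0 ∧ p.u6 = 0 ∧ p.a7 = 0 ∧ p.a8 = 0 ∧ p.u8 = 0 := Iff.rfl

variable (s) in
/-- The subgroup `U₃`. -/
def U3s : Subgroup (SG s) where
  carrier := {p | p.a1 = 0 ∧ p.a2 = 0 ∧ p.u2 = 0 ∧ p.a4 = 0 ∧ p.u4 = 0 ∧ p.a5 = 0 ∧ p.a6 = 0 ∧ p.u6 = 0 ∧ p.a7 = 0 ∧ p.a8 = 0 ∧ p.u8 = 0}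
  mul_mem' := fun {p r} hp hr => by simp_all
  one_mem' := by simp
  inv_mem' := fun {p} hp => by simp_all

@[simp] theorem mem_U3s {p : SG s} : p ∈ U3s s ↔ p.a1 = 0 ∧ p.a2 = 0 ∧ p.u2 = 0 ∧ p.a4 = 0 ∧ p.u4 = 0 ∧ p.a5 = 0 ∧ p.a6 = 0 ∧ p.u6 = 0 ∧ p.a7 = 0 ∧ p.a8 = 0 ∧ p.u8 = 0 := Iff.rfl

variable (s) in
/-- The subgroup `U₄`. -/
def U4s : Subgroup (SG s) where
  carrier := {p | p.a1 = 0 ∧ p.a2 = 0 ∧ p.u2 = 0 ∧ p.a3 = 0 ∧ p.a5 = 0 ∧ p.a6 = 0 ∧ p.u6 = 0 ∧ p.a7 = 0 ∧ p.a8 = 0 ∧ p.u8 = 0}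
  mul_mem' := fun {p r} hp hr => by simp_all
  one_mem' := by simp
  inv_mem' := fun {p} hp => by simp_all

@[simp] theorem mem_U4s {p : SG s} : p ∈ U4s s ↔ p.a1 = 0 ∧ p.a2 = 0 ∧ p.u2 = 0 ∧ p.a3 = 0 ∧ p.a5 = 0 ∧ p.a6 = 0 ∧ p.u6 = 0 ∧ p.a7 = 0 ∧ p.a8 = 0 ∧ p.u8 = 0 := Iff.rfl

variable (s) in
/-- The subgroup `U₅`. -/
def U5s : Subgroup (SG s) where
  carrier := {p | p.a1 = 0 ∧ p.a2 = 0 ∧ p.u2 = 0 ∧ p.a3 = 0 ∧ p.a4 = 0 ∧ p.u4 = 0 ∧ p.a6 = 0 ∧ p.u6 = 0 ∧ p.a7 = 0 ∧ p.a8 = 0 ∧ p.u8 = 0}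
  mul_mem' := fun {p r} hp hr => by simp_all
  one_mem' := by simp
  inv_mem' := fun {p} hp => by simp_all

@[simp] theorem mem_U5s {p : SG s} : p ∈ U5s s ↔ p.a1 = 0 ∧ p.a2 = 0 ∧ p.u2 = 0 ∧ p.a3 = 0 ∧ p.a4 = 0 ∧ p.u4 = 0 ∧ p.a6 = 0 ∧ p.u6 = 0 ∧ p.a7 = 0 ∧ p.a8 = 0 ∧ p.u8 = 0 := Iff.rfl

variable (s) in
/-- The subgroup `U₆`. -/
def U6s : Subgroup (SG s) where
  carrier := {p | p.a1 = 0 ∧ p.a2 = 0 ∧ p.u2 = 0 ∧ p.a3 = 0 ∧ p.a4 = 0 ∧ p.u4 = 0 ∧ p.a5 = 0 ∧ p.a7 = 0 ∧ p.a8 = 0 ∧ p.u8 = 0}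
  mul_mem' := fun {p r} hp hr => by simp_all
  one_mem' := by simp
  inv_mem' := fun {p} hp => by simp_all

@[simp] theorem mem_U6s {p : SG s} : p ∈ U6s s ↔ p.a1 = 0 ∧ p.a2 = 0 ∧ p.u2 = 0 ∧ p.a3 = 0 ∧ p.a4 = 0 ∧ p.u4 = 0 ∧ p.a5 = 0 ∧ p.a7 = 0 ∧ p.a8 = 0 ∧ p.u8 = 0 := Iff.rfl

variable (s) in
/-- The subgroup `U₇`. -/
def U7s : Subgroup (SG s) where
  carrier := {p | p.a1 = 0 ∧ p.a2 = 0 ∧ p.u2 = 0 ∧ p.a3 = 0 ∧ p.a4 = 0 ∧ p.u4 = 0 ∧ p.a5 = 0 ∧ p.a6 = 0 ∧ p.u6 = 0 ∧ p.a8 = 0 ∧ p.u8 = 0}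
  mul_mem' := fun {p r} hp hr => by simp_all
  one_mem' := by simp
  inv_mem' := fun {p} hp => by simp_all

@[simp] theorem mem_U7s {p : SG s} : p ∈ U7s s ↔ p.a1 = 0 ∧ p.a2 = 0 ∧ p.u2 = 0 ∧ p.a3 = 0 ∧ p.a4 = 0 ∧ p.u4 = 0 ∧ p.a5 = 0 ∧ p.a6 = 0 ∧ p.u6 = 0 ∧ p.a8 = 0 ∧ p.u8 = 0 := Iff.rfl

variable (s) in
/-- The subgroup `U₈`. -/
def U8s : Subgroup (SG s) where
  carrier := {p | p.a1 = 0 ∧ p.a2 = 0 ∧ p.u2 = 0 ∧ p.a3 = 0 ∧ p.a4 = 0 ∧ p.u4 = 0 ∧ p.a5 = 0 ∧ p.a6 = 0 ∧ p.u6 = 0 ∧ p.a7 = 0}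
  mul_mem' := fun {p r} hp hr => by simp_all
  one_mem' := by simp
  inv_mem' := fun {p} hp => by simp_all

@[simp] theorem mem_U8s {p : SG s} : p ∈ U8s s ↔ p.a1 = 0 ∧ p.a2 = 0 ∧ p.u2 = 0 ∧ p.a3 = 0 ∧ p.a4 = 0 ∧ p.u4 = 0 ∧ p.a5 = 0 ∧ p.a6 = 0 ∧ p.u6 = 0 ∧ p.a7 = 0 := Iff.rfl

end SG

open SG

variable {G : Type*} [Group G] {G' : Type*} [Group G']

/-- Letters for `C = Q : Sz(q)`. -/
structure Lt (s : Sg K) (G : Type*) [Group G] where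
  u : SG s →* G
  h : Kˣ →* G
  n : G

namespace Lt

variable (L : Lt s G)

/-- The image of a coordinate subgroup. -/
def im (A : Subgroup (SG s)) : Subgroup G := A.map L.u
def S : Subgroup G := L.u.range
def H1 : Subgroup G := L.h.range
def B : Subgroup G := L.S ⊔ L.H1
def C : Subgroup G := L.B ⊔ zpowers L.n
def τ : G := L.u (w4 0 1)
abbrev Q : Subgroup G := L.im (Qs s)
abbrev R : Subgroup G := L.im (Rs s)
abbrev Y : Subgroup G := L.im (Ys s)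
abbrev V : Subgroup G := L.im (Vs s)
abbrev Z : Subgroup G := L.im (Zs s)
abbrev X : Subgroup G := L.im (Xs s)
abbrev V6 : Subgroup G := L.im (V6s s)

/-- Transport of the letters. -/
@[simps] def map (f : G →* G') : Lt s G' := ⟨f.comp L.u, f.comp L.h, f L.n⟩

/-- Conjugate letters. -/
abbrev cjg (g : G) : Lt s G := L.map (MulAut.conj g).toMonoidHom

/-- `k` acts on the letters as the diagonal automorphism with weights `α`, `β`. -/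
structure Acts (k : G) (α β : Kˣ) : Prop where
  u : ∀ p, k * L.u p * k⁻¹ = L.u (dl α β p)
  h : ∀ c, k * L.h c * k⁻¹ = L.h c
  n : k * L.n * k⁻¹ = L.h (s.σu β) * L.n

variable {L}

theorem mem_im {A : Subgroup (SG s)} {g : G} : g ∈ L.im A ↔ ∃ p ∈ A, L.u p = g := Iff.rfl
theorem mem_S {g : G} : g ∈ L.S ↔ ∃ p, L.u p = g := Iff.rfl
theorem mem_H1 {g : G} : g ∈ L.H1 ↔ ∃ c, L.h c = g := Iff.rfl
theorem u_mem_im {A : Subgroup (SG s)} {p : SG s} (h : p ∈ A) : L.u p ∈ L.im A := ⟨p, h, rfl⟩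
theorem im_mono {A A' : Subgroup (SG s)} (h : A ≤ A') : L.im A ≤ L.im A' := map_mono h

variable (L)

theorem u_mem_S (p : SG s) : L.u p ∈ L.S := ⟨p, rfl⟩
theorem h_mem_H1 (c : Kˣ) : L.h c ∈ L.H1 := ⟨c, rfl⟩
theorem im_top : L.im ⊤ = L.S := (MonoidHom.range_eq_map _).symm
theorem im_le_S (A : Subgroup (SG s)) : L.im A ≤ L.S := map_le_range _ _
theorem S_le_B : L.S ≤ L.B := le_sup_left
theorem H1_le_B : L.H1 ≤ L.B := le_sup_right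
theorem B_le_C : L.B ≤ L.C := le_sup_left
theorem S_le_C : L.S ≤ L.C := L.S_le_B.trans L.B_le_C
theorem H1_le_C : L.H1 ≤ L.C := L.H1_le_B.trans L.B_le_C
theorem im_le_C (A : Subgroup (SG s)) : L.im A ≤ L.C := (L.im_le_S A).trans L.S_le_C
theorem u_mem_B (p : SG s) : L.u p ∈ L.B := L.S_le_B (L.u_mem_S p)
theorem h_mem_B (c : Kˣ) : L.h c ∈ L.B := L.H1_le_B (L.h_mem_H1 c)
theorem u_mem_C (p : SG s) : L.u p ∈ L.C := L.S_le_C (L.u_mem_S p)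
theorem h_mem_C (c : Kˣ) : L.h c ∈ L.C := L.H1_le_C (L.h_mem_H1 c)
theorem n_mem_C : L.n ∈ L.C := (le_sup_right : zpowers L.n ≤ L.C) (mem_zpowers _)
theorem τ_mem_X : L.τ ∈ L.X := u_mem_im (by simp)
theorem τ_mem_C : L.τ ∈ L.C := L.u_mem_C _

theorem B_le {M : Subgroup G} (hu : ∀ p, L.u p ∈ M) (hh : ∀ c, L.h c ∈ M) : L.B ≤ M :=
  sup_le (by rintro _ ⟨p, rfl⟩; exact hu p) (by rintro _ ⟨p, rfl⟩; exact hh p)

theorem C_le {M : Subgroup G} (hu : ∀ p, L.u p ∈ M) (hh : ∀ c, L.h c ∈ M) (hn : L.n ∈ M) : L.C ≤ M :=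
  sup_le (L.B_le hu hh) ((zpowers_le).mpr hn)

theorem map_im (f : G →* G') (A : Subgroup (SG s)) : (L.map f).im A = (L.im A).map f :=
  (map_map _ _ _).symm
theorem map_S (f : G →* G') : (L.map f).S = L.S.map f := (MonoidHom.map_range _ _).symm
theorem map_H1 (f : G →* G') : (L.map f).H1 = L.H1.map f := (MonoidHom.map_range _ _).symm
theorem map_B (f : G →* G') : (L.map f).B = L.B.map f := by rw [B, B, map_S, map_H1, Subgroup.map_sup]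
theorem map_C (f : G →* G') : (L.map f).C = L.C.map f := by
  rw [C, C, map_B, Subgroup.map_sup, MonoidHom.map_zpowers]; rfl
theorem map_τ (f : G →* G') : (L.map f).τ = f L.τ := rfl

theorem cjg_im (g : G) (A : Subgroup (SG s)) : (L.cjg g).im A = cj(g, L.im A) := L.map_im _ A
theorem cjg_S (g : G) : (L.cjg g).S = cj(g, L.S) := L.map_S _
theorem cjg_H1 (g : G) : (L.cjg g).H1 = cj(g, L.H1) := L.map_H1 _
theorem cjg_B (g : G) : (L.cjg g).B = cj(g, L.B) := L.map_B _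
theorem cjg_C (g : G) : (L.cjg g).C = cj(g, L.C) := L.map_C _
theorem cjg_τ (g : G) : (L.cjg g).τ = g * L.τ * g⁻¹ := rfl
theorem cjg_u (g : G) (p : SG s) : (L.cjg g).u p = g * L.u p * g⁻¹ := rfl

end Lt

/-- The relations of `C`. -/
structure RC (L : Lt s G) : Prop where
  nn : L.n * L.n = 1
  nu : ∀ p : SG s, p.a8 = 0 → p.u8 = 0 → L.n * L.u p * L.n = L.u (nu p)
  hu : ∀ (c : Kˣ) (p : SG s), L.h c * L.u p * (L.h c)⁻¹ = L.u (dh c (c⁻¹ : Kˣ) p)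
  nh : ∀ c : Kˣ, L.n * L.h c * L.n = L.h c⁻¹
  r1 : ∀ (a v : K) (N : Kˣ), (N : K) = a ^ 2 * s.σ a + a * v + s.σ v →
    L.n * L.u (w8 a v) * L.n =
      L.u (w8 ((a * s.σ a + v) / N) (a / N + (a * s.σ a + v) / N * s.σ ((a * s.σ a + v) / N))) *
        L.h (N / s.σu N) * L.n * L.u (w8 (v / N) (a / N))

/-- The relations, and faithfulness. -/
structure OC (L : Lt s G) : Prop extends RC L where
  inj : Function.Injective L.u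

/-- The standing hypothesis: `C` is normal of odd index in the centralizer of `τ`, which has no normal
subgroup of odd order, and `S` is a Sylow `2`-subgroup of the whole group. -/
structure St (L : Lt s G) : Prop extends OC L where
  syl : Syl 2 L.S ⊤
  nrm : 𝐂₁[L.τ] ≤ 𝐍[L.C]
  odd : ∀ A : Subgroup G, A ≤ 𝐂₁[L.τ] → 𝐂₁[L.τ] ≤ 𝐍[A] → Odd (Nat.card A) → A = ⊥

/-- The main case: the second parabolic exists. -/
structure St2 (L : Lt s G) : Prop extends St L where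
  cls : ∀ a : K, a ≠ 0 → IsConj L.τ (L.u (w4 0 a))
  mv : ¬ 𝐍[L.R] ≤ 𝐍[L.X]

theorem RC.map {L : Lt s G} (h : RC L) (f : G →* G') : RC (L.map f) where
  nn := by simpa using congrArg f h.nn
  nu p h1 h2 := by simpa using congrArg f (h.nu p h1 h2)
  hu c p := by simpa using congrArg f (h.hu c p)
  nh c := by simpa using congrArg f (h.nh c)
  r1 a v N e := by simpa using congrArg f (h.r1 a v N e)

theorem OC.map {L : Lt s G} (h : OC L) {f : G →* G'} (hf : Function.Injective f) : OC (L.map f) :=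
  ⟨h.toRC.map f, hf.comp h.inj⟩

theorem OC.cjg {L : Lt s G} (h : OC L) (g : G) : OC (L.cjg g) := h.map (cj_inj g)

theorem OC.u_mem_im {L : Lt s G} (h : OC L) {A : Subgroup (SG s)} {p : SG s} : L.u p ∈ L.im A ↔ p ∈ A :=
  mem_map_iff_mem h.inj

theorem OC.u_inj {L : Lt s G} (h : OC L) {p r : SG s} : L.u p = L.u r ↔ p = r := h.inj.eq_iff

theorem OC.card_im {L : Lt s G} (h : OC L) (A : Subgroup (SG s)) : Nat.card (L.im A) = Nat.card A :=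
  (Nat.card_congr (A.equivMapOfInjective L.u h.inj).toEquiv).symm

theorem RC.n_inv {L : Lt s G} (h : RC L) : L.n⁻¹ = L.n := inv_eq_of_mul_eq_one_right h.nn

/-- Letters for the whole group. -/
structure Ft (s : Sg K) (G : Type*) [Group G] where
  u : SG s →* G
  t : Kˣ × Kˣ →* G
  n : G
  m : G

namespace Ft

variable (F : Ft s G)

@[simps] def lt : Lt s G := ⟨F.u, F.t.comp s.hT, F.n⟩
def H : Subgroup G := F.t.range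
def G0 : Subgroup G := F.lt.C ⊔ F.H ⊔ zpowers F.m

theorem C_le_G0 : F.lt.C ≤ F.G0 := le_sup_left.trans le_sup_left
theorem H_le_G0 : F.H ≤ F.G0 := le_sup_right.trans le_sup_left
theorem t_mem_H (x : Kˣ × Kˣ) : F.t x ∈ F.H := ⟨x, rfl⟩
theorem u_mem_G0 (p : SG s) : F.u p ∈ F.G0 := F.C_le_G0 (F.lt.u_mem_C p)
theorem t_mem_G0 (x : Kˣ × Kˣ) : F.t x ∈ F.G0 := F.H_le_G0 (F.t_mem_H x)
theorem n_mem_G0 : F.n ∈ F.G0 := F.C_le_G0 F.lt.n_mem_C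
theorem m_mem_G0 : F.m ∈ F.G0 := (le_sup_right : zpowers F.m ≤ F.G0) (mem_zpowers _)
theorem H1_le_H : F.lt.H1 ≤ F.H := by rintro _ ⟨c, rfl⟩; exact ⟨_, rfl⟩

theorem G0_le {M : Subgroup G} (hu : ∀ p, F.u p ∈ M) (ht : ∀ x, F.t x ∈ M) (hn : F.n ∈ M) (hm : F.m ∈ M) :
    F.G0 ≤ M :=
  sup_le (sup_le (F.lt.C_le hu (fun _ => ht _) hn) (by rintro _ ⟨x, rfl⟩; exact ht x)) ((zpowers_le).mpr hm)

end Ft

/-- The relations of the amalgam of the two parabolics. -/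
structure RF0 (F : Ft s G) : Prop where
  rc : RC F.lt
  mm : F.m * F.m = 1
  mu : ∀ p : SG s, p.a1 = 0 → F.m * F.u p * F.m = F.u (mu p)
  tu : ∀ (α β : Kˣ) (p : SG s), F.t (α, β) * F.u p * (F.t (α, β))⁻¹ = F.u (dl α β p)
  nt : ∀ α β : Kˣ, F.n * F.t (α, β) * F.n = F.t (α * β ^ 2 * s.σu β, β⁻¹)
  mt : ∀ α β : Kˣ, F.m * F.t (α, β) * F.m = F.t (α⁻¹, α * β)
  m3 : (F.m * F.u (x1 1)) ^ 3 = 1

/-- The relations of the large Ree group. -/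
structure RF (F : Ft s G) : Prop extends RF0 F where
  br : (F.n * F.m) ^ 8 = 1

end Cfsg.Agent.Og
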