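import Mathlib
import Cfsg.Agent.Og.Defs

/-! Basic facts on `σ` and on the coordinate group. -/

set_option autoImplicit false
set_option linter.unusedSectionVars false

namespace Cfsg.Agent.Og

open Cfsg.Agent.Loc.Mss Subgroup

variable {K : Type*} [Field K] {s : Sg K}

namespace Sg

variable (s)

theorem σ_inj : Function.Injective s.σ := s.σ.injective

@[simp] theorem σ_eq_zero {x : K} : s.σ x = 0 ↔ x = 0 := map_eq_zero s.σ

theorem σu_inj : Function.Injective s.σu := fun _ _ h => Units.ext (s.σ_inj (congrArg Units.val h))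

theorem σ_surj [Finite K] : Function.Surjective s.σ := Finite.surjective_of_injective s.σ_inj

variable [CharP K 2]

theorem nrm_eq_zero {a v : K} (h : a ^ 2 * s.σ a + a * v + s.σ v = 0) : a = 0 ∧ v = 0 := by
  have h2 := congrArg s.σ h
  simp only [map_add, map_mul, map_pow, sq, map_zero] at h2
  have h3 : v * (v + a * s.σ a) = 0 := by grind
  have h4 : a ^ 2 * s.σ a = 0 := by
    rcases mul_eq_zero.mp h3 with e | e
    · subst e; simpa using h
    · have e' : v = a * s.σ a := by grind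
      subst e'
      simp only [map_mul, sq] at h
      grind
  have ha : a = 0 := by simpa using h4
  subst ha
  exact ⟨rfl, by simpa using h⟩

theorem eq_one_of_sq {c : Kˣ} (h : c ^ 2 = 1) : c = 1 := by
  have : ((c : K) - 1) ^ 2 = 0 := by
    have := congrArg Units.val h
    simp only [Units.val_pow_eq_pow_val, Units.val_one] at this
    grind
  exact Units.ext (sub_eq_zero.mp (pow_eq_zero_iff two_ne_zero |>.mp this))

/-- The power map `c ↦ c ^ (i + j σ)`. -/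
def wt (i j : ℤ) : Kˣ →* Kˣ where
  toFun c := c ^ i * s.σu c ^ j
  map_one' := by simp
  map_mul' c d := by simp [mul_zpow, mul_comm, mul_left_comm, mul_assoc]

theorem wt_apply (i j : ℤ) (c : Kˣ) : s.wt i j c = c ^ i * s.σu c ^ j := rfl

theorem wt_wt (i j : ℤ) (c : Kˣ) : s.wt i (-j) (s.wt i j c) = c ^ (i ^ 2 - 2 * j ^ 2) := by
  simp only [wt_apply, map_mul, map_zpow, σu_σu, mul_zpow, ← zpow_natCast, ← zpow_mul]
  rw [mul_assoc, ← mul_assoc (s.σu c ^ _), ← zpow_add, show -j * i + i * j = 0 by ring, zpow_zero, one_mul,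
    ← zpow_add]
  congr 1; push_cast; ring

theorem wt_inj {i j : ℤ} (h : (i ^ 2 - 2 * j ^ 2).natAbs = 1 ∨ (i ^ 2 - 2 * j ^ 2).natAbs = 2) :
    Function.Injective (s.wt i j) := by
  rw [injective_iff_map_eq_one]
  intro c hc
  have e := s.wt_wt i j c
  rw [hc, map_one] at e
  have e' : c ^ (i ^ 2 - 2 * j ^ 2).natAbs = 1 := by
    rcases Int.natAbs_eq (i ^ 2 - 2 * j ^ 2) with h' | h'
    · rw [h', zpow_natCast] at e; exact e.symm
    · rw [h', zpow_neg, zpow_natCast] at e; exact inv_eq_one.mp e.symm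
  rcases h with h | h <;> rw [h] at e'
  · simpa using e'
  · exact eq_one_of_sq e'

theorem eq_one_of_wt {i j : ℤ} (h : (i ^ 2 - 2 * j ^ 2).natAbs = 1 ∨ (i ^ 2 - 2 * j ^ 2).natAbs = 2) {c : Kˣ}
    (hc : c ^ i * s.σu c ^ j = 1) : c = 1 :=
  (injective_iff_map_eq_one _).mp (s.wt_inj h) c hc

theorem exists_wt [Finite K] {i j : ℤ} (h : (i ^ 2 - 2 * j ^ 2).natAbs = 1 ∨ (i ^ 2 - 2 * j ^ 2).natAbs = 2)
    (d : Kˣ) : ∃ c : Kˣ, c ^ i * s.σu c ^ j = d :=
  Finite.surjective_of_injective (s.wt_inj h) d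

/-- `c ^ i σ(c) ^ j = 1` forces `c = 1`: the form for natural exponents, in the field. -/
theorem eq_one_of_wt' (i j : ℕ) (h : ((i : ℤ) ^ 2 - 2 * j ^ 2).natAbs = 1 ∨ ((i : ℤ) ^ 2 - 2 * j ^ 2).natAbs = 2)
    {c : Kˣ} (hc : (c : K) ^ i * s.σ c ^ j = 1) : c = 1 :=
  s.eq_one_of_wt h (Units.ext (by simpa using hc))

theorem exists_wt' [Finite K] (i j : ℕ)
    (h : ((i : ℤ) ^ 2 - 2 * j ^ 2).natAbs = 1 ∨ ((i : ℤ) ^ 2 - 2 * j ^ 2).natAbs = 2) {d : K} (hd : d ≠ 0) :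
    ∃ c : Kˣ, (c : K) ^ i * s.σ c ^ j = d := by
  obtain ⟨c, hc⟩ := s.exists_wt h (Units.mk0 d hd)
  exact ⟨c, by simpa using congrArg Units.val hc⟩

omit s in
theorem card_two_pow [Finite K] : ∃ k : ℕ, 0 < k ∧ Nat.card K = 2 ^ k := by
  letI := Fintype.ofFinite K
  obtain ⟨n, -, h⟩ := FiniteField.card K 2
  exact ⟨n, n.pos, by rw [Nat.card_eq_fintype_card, h]⟩

omit s in
theorem odd_card_units [Finite K] : Odd (Nat.card Kˣ) := by
  obtain ⟨k, hk, h⟩ := card_two_pow (K := K)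
  rw [Nat.card_units, h]
  exact Nat.Even.sub_odd (Nat.one_le_two_pow) (Nat.even_pow.mpr ⟨even_two, hk.ne'⟩) odd_one

end Sg

variable [CharP K 2]

namespace SG

theorem nf (p : SG s) : p = x1 p.a1 * w2 p.a2 p.u2 * x3 p.a3 * w4 p.a4 p.u4 * x5 p.a5 * w6 p.a6 p.u6 *
    x7 p.a7 * w8 p.a8 p.u8 := by
  obtain ⟨a1, a2, u2, a3, a4, u4, a5, a6, u6, a7, a8, u8⟩ := p
  have e1 : (x1 a1 * w2 a2 u2 : SG s) = ⟨a1, a2, u2, 0, 0, 0, 0, 0, 0, 0, 0, 0⟩ := by ext <;> simp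
  have e2 : (⟨a1, a2, u2, 0, 0, 0, 0, 0, 0, 0, 0, 0⟩ * x3 a3 : SG s) =
    ⟨a1, a2, u2, a3, 0, 0, 0, 0, 0, 0, 0, 0⟩ := by ext <;> simp
  have e3 : (⟨a1, a2, u2, a3, 0, 0, 0, 0, 0, 0, 0, 0⟩ * w4 a4 u4 : SG s) =
    ⟨a1, a2, u2, a3, a4, u4, 0, 0, 0, 0, 0, 0⟩ := by ext <;> simp
  have e4 : (⟨a1, a2, u2, a3, a4, u4, 0, 0, 0, 0, 0, 0⟩ * x5 a5 : SG s) =
    ⟨a1, a2, u2, a3, a4, u4, a5, 0, 0, 0, 0, 0⟩ := by ext <;> simp
  have e5 : (⟨a1, a2, u2, a3, a4, u4, a5, 0, 0, 0, 0, 0⟩ * w6 a6 u6 : SG s) =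
    ⟨a1, a2, u2, a3, a4, u4, a5, a6, u6, 0, 0, 0⟩ := by ext <;> simp
  have e6 : (⟨a1, a2, u2, a3, a4, u4, a5, a6, u6, 0, 0, 0⟩ * x7 a7 : SG s) =
    ⟨a1, a2, u2, a3, a4, u4, a5, a6, u6, a7, 0, 0⟩ := by ext <;> simp
  simp only [e1, e2, e3, e4, e5, e6]
  ext <;> simp

theorem nu_mul {p r : SG s} (hp : p ∈ Qs s) (hr : r ∈ Qs s) : nu (p * r) = nu p * nu r := by
  obtain ⟨h1, h2⟩ := hp
  obtain ⟨h3, h4⟩ := hr
  ext <;> simp [h1, h2, h3, h4] <;> grind

theorem nu_nu {p : SG s} (hp : p ∈ Qs s) : nu (nu p) = p := by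
  obtain ⟨h1, h2⟩ := hp
  ext <;> simp [h1, h2] <;> grind

theorem nu_mem (p : SG s) : nu p ∈ Qs s := by simp

theorem mu_mul {p r : SG s} (hp : p ∈ Rs s) (hr : r ∈ Rs s) : mu (p * r) = mu p * mu r := by
  have h1 : p.a1 = 0 := hp
  have h3 : r.a1 = 0 := hr
  ext <;> simp [h1, h3] <;> grind

theorem mu_mu {p : SG s} (hp : p ∈ Rs s) : mu (mu p) = p := by
  have h1 : p.a1 = 0 := hp
  ext <;> simp [h1] <;> grind

theorem mu_mem (p : SG s) : mu p ∈ Rs s := by simp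

theorem dl_mul (α β : K) (p r : SG s) : dl α β (p * r) = dl α β p * dl α β r := by
  ext <;> simp <;> grind

theorem dl_one (α β : K) : dl α β (1 : SG s) = 1 := by ext <;> simp

theorem dl_dl (α β α' β' : K) (p : SG s) : dl α β (dl α' β' p) = dl (α * α') (β * β') p := by
  ext <;> simp <;> ring

@[simp] theorem dl_one_one (p : SG s) : dl 1 1 p = p := by ext <;> simp

variable (s) in
/-- The diagonal automorphisms. -/
@[simps] def dlE (α β : Kˣ) : MulAut (SG s) where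
  toFun := dl (α : K) (β : K)
  invFun := dl ((α⁻¹ : Kˣ) : K) ((β⁻¹ : Kˣ) : K)
  left_inv p := by simp [dl_dl]
  right_inv p := by simp [dl_dl]
  map_mul' := dl_mul (α : K) (β : K)

theorem dl_inj (α β : Kˣ) : Function.Injective (dl (α : K) (β : K) : SG s → SG s) := (dlE s α β).injective

theorem dh_eq (c : Kˣ) (p : SG s) : 
    dh (c : K) ((c⁻¹ : Kˣ) : K) p = dl (((c * s.σu c)⁻¹ : Kˣ) : K) ((s.σu c : Kˣ) : K) p := by
  have h1 : (c : K) ≠ 0 := c.ne_zero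
  have h2 : s.σ c ≠ 0 := by simpa using h1
  ext <;> simp <;> field_simp <;> simp

theorem nu_dl (α β : Kˣ) {p : SG s} (hp : p ∈ Qs s) :
    nu (dl (α : K) (β : K) p) = dl ((α * β ^ 2 * s.σu β : Kˣ) : K) ((β⁻¹ : Kˣ) : K) (nu p) := by
  have h1 : (β : K) ≠ 0 := β.ne_zero
  have h2 : s.σ β ≠ 0 := by simpa using h1
  ext <;> simp <;> field_simp <;> simp

theorem mu_dl (α β : Kˣ) {p : SG s} (hp : p ∈ Rs s) :
    mu (dl (α : K) (β : K) p) = dl ((α⁻¹ : Kˣ) : K) ((α * β : Kˣ) : K) (mu p) := by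
  have h1 : (α : K) ≠ 0 := α.ne_zero
  have h2 : s.σ α ≠ 0 := by simpa using h1
  ext <;> simp <;> field_simp <;> simp

variable (s) in
/-- The coordinates. -/
def equivFun : SG s ≃ (Fin 12 → K) where
  toFun p := ![p.a1, p.a2, p.u2, p.a3, p.a4, p.u4, p.a5, p.a6, p.u6, p.a7, p.a8, p.u8]
  invFun f := ⟨f 0, f 1, f 2, f 3, f 4, f 5, f 6, f 7, f 8, f 9, f 10, f 11⟩
  left_inv _ := rfl
  right_inv f := by ext i; fin_cases i <;> rfl

instance instFinite [Finite K] : Finite (SG s) := Finite.of_equiv _ (equivFun s).symm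

theorem card_SG : Nat.card (SG s) = Nat.card K ^ 12 := by
  rw [Nat.card_congr (equivFun s), Nat.card_fun, Nat.card_fin]

theorem pg_SG [Finite K] : IsPGroup 2 (SG s) := by
  obtain ⟨k, -, h⟩ := Sg.card_two_pow (K := K)
  exact IsPGroup.of_card (n := k * 12) (by rw [card_SG, h, pow_mul])

/-- The order of a subgroup given by the vanishing of the coordinates in `I`. -/
theorem card_of_coords {A : Subgroup (SG s)} (I : Finset (Fin 12))
    (h : ∀ p, p ∈ A ↔ ∀ i ∈ I, equivFun s p i = 0) : Nat.card A = Nat.card K ^ (12 - I.card) := by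
  have e : A ≃ ({i // i ∉ I} → K) :=
    { toFun := fun p i => equivFun s p i
      invFun := fun f => ⟨(equivFun s).symm fun i => if hi : i ∈ I then 0 else f ⟨i, hi⟩,
        (h _).mpr fun i hi => by simp [hi]⟩
      left_inv := fun p => Subtype.ext <| (equivFun s).symm_apply_eq.mpr <| funext fun i => by
        split_ifs with hi
        · exact ((h p).mp p.2 i hi).symm
        · rfl
      right_inv := fun f => funext fun i => by simp [i.2] }
  rw [Nat.card_congr e, Nat.card_fun]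
  congr 1
  rw [Nat.card_eq_fintype_card, Fintype.card_subtype_compl]; simp

theorem card_Qs : Nat.card (Qs s) = Nat.card K ^ 10 :=
  card_of_coords {10, 11} fun p => by
    simp only [Finset.mem_insert, Finset.mem_singleton, forall_eq_or_imp, forall_eq]; rfl
theorem card_Rs : Nat.card (Rs s) = Nat.card K ^ 11 :=
  card_of_coords {0} fun p => by
    simp only [Finset.mem_insert, Finset.mem_singleton, forall_eq_or_imp, forall_eq]; rfl
theorem card_R3s : Nat.card (R3s s) = Nat.card K ^ 9 :=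
  card_of_coords {0, 1, 2} fun p => by
    simp only [Finset.mem_insert, Finset.mem_singleton, forall_eq_or_imp, forall_eq]; rfl
theorem card_T3s : Nat.card (T3s s) = Nat.card K ^ 10 :=
  card_of_coords {1, 10} fun p => by
    simp only [Finset.mem_insert, Finset.mem_singleton, forall_eq_or_imp, forall_eq]; rfl
theorem card_T4s : Nat.card (T4s s) = Nat.card K ^ 8 :=
  card_of_coords {0, 1, 2, 4} fun p => by
    simp only [Finset.mem_insert, Finset.mem_singleton, forall_eq_or_imp, forall_eq]; rfl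
theorem card_T5s : Nat.card (T5s s) = Nat.card K ^ 8 :=
  card_of_coords {0, 1, 2, 3} fun p => by
    simp only [Finset.mem_insert, Finset.mem_singleton, forall_eq_or_imp, forall_eq]; rfl
theorem card_Ys : Nat.card (Ys s) = Nat.card K ^ 6 :=
  card_of_coords {0, 1, 7, 9, 10, 11} fun p => by
    simp only [Finset.mem_insert, Finset.mem_singleton, forall_eq_or_imp, forall_eq]; rfl
theorem card_Vs : Nat.card (Vs s) = Nat.card K ^ 5 :=
  card_of_coords {0, 1, 4, 7, 9, 10, 11} fun p => by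
    simp only [Finset.mem_insert, Finset.mem_singleton, forall_eq_or_imp, forall_eq]; rfl
theorem card_Zs : Nat.card (Zs s) = Nat.card K ^ 2 :=
  card_of_coords {0, 1, 2, 3, 4, 6, 7, 9, 10, 11} fun p => by
    simp only [Finset.mem_insert, Finset.mem_singleton, forall_eq_or_imp, forall_eq]; rfl
theorem card_Xs : Nat.card (Xs s) = Nat.card K :=
  (card_of_coords {0, 1, 2, 3, 4, 6, 7, 8, 9, 10, 11} fun p => by
    simp only [Finset.mem_insert, Finset.mem_singleton, forall_eq_or_imp, forall_eq]; rfl).trans (pow_one _)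
theorem card_V6s : Nat.card (V6s s) = Nat.card K :=
  (card_of_coords {0, 1, 2, 3, 4, 5, 6, 7, 9, 10, 11} fun p => by
    simp only [Finset.mem_insert, Finset.mem_singleton, forall_eq_or_imp, forall_eq]; rfl).trans (pow_one _)

theorem mem_Xs_iff {p : SG s} : p ∈ Xs s ↔ ∃ a, p = w4 0 a :=
  ⟨fun h => ⟨p.u4, by ext <;> simp_all⟩, by rintro ⟨a, rfl⟩; simp⟩
theorem mem_V6s_iff {p : SG s} : p ∈ V6s s ↔ ∃ a, p = w6 0 a :=
  ⟨fun h => ⟨p.u6, by ext <;> simp_all⟩, by rintro ⟨a, rfl⟩; simp⟩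
theorem mem_Zs_iff {p : SG s} : p ∈ Zs s ↔ ∃ a b, p = w4 0 a * w6 0 b :=
  ⟨fun h => ⟨p.u4, p.u6, by ext <;> simp_all⟩, by rintro ⟨a, b, rfl⟩; simp⟩
theorem mem_U1s_iff {p : SG s} : p ∈ U1s s ↔ ∃ a, p = x1 a :=
  ⟨fun h => ⟨p.a1, by ext <;> simp_all⟩, by rintro ⟨a, rfl⟩; simp⟩
theorem mem_U2s_iff {p : SG s} : p ∈ U2s s ↔ ∃ a v, p = w2 a v :=
  ⟨fun h => ⟨p.a2, p.u2, by ext <;> simp_all⟩, by rintro ⟨a, b, rfl⟩; simp⟩
theorem mem_U4s_iff {p : SG s} : p ∈ U4s s ↔ ∃ a v, p = w4 a v :=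
  ⟨fun h => ⟨p.a4, p.u4, by ext <;> simp_all⟩, by rintro ⟨a, b, rfl⟩; simp⟩
theorem mem_U6s_iff {p : SG s} : p ∈ U6s s ↔ ∃ a v, p = w6 a v :=
  ⟨fun h => ⟨p.a6, p.u6, by ext <;> simp_all⟩, by rintro ⟨a, b, rfl⟩; simp⟩
theorem mem_U8s_iff {p : SG s} : p ∈ U8s s ↔ ∃ a v, p = w8 a v :=
  ⟨fun h => ⟨p.a8, p.u8, by ext <;> simp_all⟩, by rintro ⟨a, b, rfl⟩; simp⟩

/-- Split off the `U₈`-part. -/
theorem exists_Q_mul (p : SG s) : ∃ r ∈ Qs s, p = r * w8 p.a8 p.u8 :=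
  ⟨{p with a8 := 0, u8 := 0}, by simp, by ext <;> simp⟩

/-- Split off the `U₁`-part. -/
theorem exists_mul_R (p : SG s) : ∃ r ∈ Rs s, p = x1 p.a1 * r :=
  ⟨{p with a1 := 0}, by simp, by ext <;> simp⟩

theorem w4_comm (a : K) (p : SG s) : p * w4 0 a = w4 0 a * p := by ext <;> simp [add_comm]

end SG

end Cfsg.Agent.Og
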