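import Mathlib
import Cfsg.Agent.Og.Base

/-! Coordinate facts for the structure of `C`. -/

set_option autoImplicit false
set_option linter.unusedSectionVars false

namespace Cfsg.Agent.Og

open Subgroup
open scoped commutatorElement

variable {K : Type*} [Field K] [CharP K 2] {s : Sg K}

namespace SG

/-- The action of the torus of the Suzuki group. -/
abbrev dU (c : Kˣ) (p : SG s) : SG s := dh (c : K) ((c⁻¹ : Kˣ) : K) p

theorem w8_zero : (w8 0 0 : SG s) = 1 := rfl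

theorem w8_inv (a v : K) : (w8 a v : SG s)⁻¹ = w8 a (a * s.σ a + v) := by ext <;> simp

theorem w8_mul (a v b w : K) : (w8 a v * w8 b w : SG s) = w8 (a + b) (v + w + a * s.σ b) := by ext <;> simp

theorem dU_w8 (c : Kˣ) (a v : K) : (dU c (w8 a v) : SG s) = w8 (s.σ c * a) (c ^ 2 * s.σ c * v) := by ext <;> simp

theorem Qs_conj (p : SG s) (a : SG s) (ha : a ∈ Qs s) : p * a * p⁻¹ ∈ Qs s := by
  obtain ⟨h1, h2⟩ := ha
  constructor <;> simp [h1, h2] <;> grind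

theorem Rs_conj (p : SG s) (a : SG s) (ha : a ∈ Rs s) : p * a * p⁻¹ ∈ Rs s := by
  have h1 : a.a1 = 0 := ha
  simp [h1]; grind

theorem Ys_conj (p : SG s) (a : SG s) (ha : a ∈ Ys s) : p * a * p⁻¹ ∈ Ys s := by
  obtain ⟨h1, h2, h3, h4, h5, h6⟩ := ha
  refine ⟨?_, ?_, ?_, ?_, ?_, ?_⟩ <;> simp [h1, h2, h3, h4, h5, h6] <;> grind

theorem Vs_conj (p : SG s) (a : SG s) (ha : a ∈ Vs s) : p * a * p⁻¹ ∈ Vs s := by
  obtain ⟨h1, h2, h3, h4, h5, h6, h7⟩ := ha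
  refine ⟨?_, ?_, ?_, ?_, ?_, ?_, ?_⟩ <;> simp [h1, h2, h3, h4, h5, h6, h7] <;> grind

theorem w6_comm (b : K) (p : SG s) : p * w6 0 b = w4 0 (b * p.a1) * (w6 0 b * p) := by
  ext <;> simp <;> grind

theorem w4_sq (a : K) : (w4 0 a * w4 0 a : SG s) = 1 := by ext <;> simp; grind

theorem w4_inv (a : K) : (w4 0 a : SG s)⁻¹ = w4 0 a := inv_eq_of_mul_eq_one_right (w4_sq a)

theorem conj_w6 (b : K) (p : SG s) : p * w6 0 b * p⁻¹ = w4 0 (b * p.a1) * w6 0 b := by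
  rw [w6_comm, ← mul_assoc, mul_inv_cancel_right]

theorem Zs_conj (p : SG s) (a : SG s) (ha : a ∈ Zs s) : p * a * p⁻¹ ∈ Zs s := by
  obtain ⟨x, y, rfl⟩ := mem_Zs_iff.1 ha
  rw [← mul_assoc, w4_comm, mul_assoc, mul_assoc, ← mul_assoc p, conj_w6]
  simp

theorem comm_Zs {p : SG s} (hp : p ∈ Zs s) (r : SG s) : ⁅p, r⁆ ∈ Xs s := by
  obtain ⟨x, y, rfl⟩ := mem_Zs_iff.1 hp
  have e : r * (w4 0 x * w6 0 y) * r⁻¹ = w4 0 (y * r.a1) * (w4 0 x * w6 0 y) := by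
    rw [← mul_assoc, w4_comm, mul_assoc, mul_assoc, ← mul_assoc r, conj_w6, ← mul_assoc, w4_comm, mul_assoc]
  rw [← inv_mem_iff, commutatorElement_inv, commutatorElement_def, e, mul_inv_cancel_right]
  simp

theorem Zs_comm_Rs {p r : SG s} (hp : p ∈ Zs s) (hr : r ∈ Rs s) : r * p = p * r := by
  obtain ⟨x, y, rfl⟩ := mem_Zs_iff.1 hp
  have h1 : r.a1 = 0 := hr
  rw [← mul_assoc, w4_comm, mul_assoc, w6_comm, h1, mul_zero, show (w4 0 0 : SG s) = 1 from rfl, one_mul, mul_assoc]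

theorem mem_Xs_of_comm {p : SG s} (h : ∀ r ∈ Qs s, r * p = p * r) : p ∈ Xs s := by
  have e1 := h (x1 1) (by simp)
  have e2 := h (w2 1 0) (by simp)
  have e6 := h (w6 1 0) (by simp)
  have e7 := h (x7 1) (by simp)
  have a8 : p.a8 = 0 := by simpa [add_comm] using congrArg SG.a2 e1
  have u8 : p.u8 = 0 := by simpa [a8] using congrArg SG.a6 e1
  have a1 : p.a1 = 0 := by simpa using congrArg SG.a3 e7
  have a2 : p.a2 = 0 := by simpa [a1] using congrArg SG.a5 e7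
  have u2 : p.u2 = 0 := by simpa [a1, a2] using congrArg SG.u4 e7
  have a4 : p.a4 = 0 := by simpa [a8] using congrArg SG.a3 e2
  have a7 : p.a7 = 0 := by simpa [a8, u8] using congrArg SG.a5 e2
  have a6 : p.a6 = 0 := by simpa [a8, u8, a4, a2] using congrArg SG.u2 e1
  have a5 : p.a5 = 0 := by simpa [a8, u8, a4, a7] using congrArg SG.u4 e2
  have a3 : p.a3 = 0 := by simpa [a1] using congrArg SG.u4 e6
  have u6 : p.u6 = 0 := by simpa [a8, u8, a7, a6] using congrArg SG.u4 e1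
  exact ⟨a1, a2, u2, a3, a4, a5, a6, u6, a7, a8, u8⟩

theorem mem_Zs_of_comm {p : SG s} (hp : p ∈ Rs s) (h : ∀ r ∈ Rs s, r * p = p * r) : p ∈ Zs s := by
  have a1 : p.a1 = 0 := hp
  have e2 := h (w2 1 0) (by simp)
  have e6 := h (w6 1 0) (by simp)
  have e7 := h (x7 1) (by simp)
  have e8 := h (w8 1 0) (by simp)
  have a8 : p.a8 = 0 := by simpa using congrArg SG.a4 e2
  have u8 : p.u8 = 0 := by simpa using congrArg SG.a7 e2
  have a2 : p.a2 = 0 := by simpa [a1] using congrArg SG.a5 e7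
  have u2 : p.u2 = 0 := by simpa [a1, a2] using congrArg SG.u4 e7
  have a4 : p.a4 = 0 := by simpa [a8] using congrArg SG.a3 e2
  have a7 : p.a7 = 0 := by simpa [a8, u8] using congrArg SG.a5 e2
  have a5 : p.a5 = 0 := by simpa [a8, u8, a4, a7] using congrArg SG.u4 e2
  have a3 : p.a3 = 0 := by simpa [a1] using congrArg SG.u4 e6
  have a6 : p.a6 = 0 := by simpa [a1] using congrArg SG.a7 e8
  exact ⟨a1, a2, u2, a3, a4, a5, a6, a7, a8, u8⟩

theorem mem_Zs_of_comm' {p : SG s} (h : ∀ r, ⁅p, r⁆ ∈ Xs s) : p ∈ Zs s := by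
  have h' : ∀ r, ∃ t, p * r = w4 0 t * (r * p) := fun r => by
    obtain ⟨t, e⟩ := mem_Xs_iff.1 (h r)
    exact ⟨t, by rw [← e, commutatorElement_def]; group⟩
  obtain ⟨t1, e1⟩ := h' (x1 1)
  obtain ⟨t2, e2⟩ := h' (w2 1 0)
  obtain ⟨t7, e7⟩ := h' (x7 1)
  obtain ⟨t8, e8⟩ := h' (w8 1 0)
  have a8 : p.a8 = 0 := by simpa [add_comm] using congrArg SG.a2 e1
  have u8 : p.u8 = 0 := by simpa [a8] using congrArg SG.a6 e1
  have a1 : p.a1 = 0 := by simpa using congrArg SG.a3 e7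
  have a2 : p.a2 = 0 := by simpa [a1] using congrArg SG.a5 e7
  have a4 : p.a4 = 0 := by simpa [a8] using congrArg SG.a3 e2
  have a7 : p.a7 = 0 := by simpa [a8, u8] using congrArg SG.a5 e2
  have a6 : p.a6 = 0 := by simpa [a1] using congrArg SG.a7 e8
  have u2 : p.u2 = 0 := by simpa [a1, a2] using congrArg SG.a3 e8
  have a3 : p.a3 = 0 := by simpa [a1, a2, u2] using congrArg SG.a5 e8
  have a5 : p.a5 = 0 := by simpa [a1, a2, u2] using congrArg SG.u6 e8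
  exact ⟨a1, a2, u2, a3, a4, a5, a6, a7, a8, u8⟩

theorem comm_x7_w2 (a : K) : ⁅(x7 1 : SG s), (w2 0 a : SG s)⁆ = w4 0 a := by
  have e : (x7 1 * w2 0 a : SG s) = w4 0 a * (w2 0 a * x7 1) := by ext <;> simp
  rw [commutatorElement_def, e]; group

theorem w8_x7 (a v b : K) : (w8 a v * x7 b * (w8 a v)⁻¹ : SG s) = x7 b := by
  rw [mul_inv_eq_iff_eq_mul]; ext <;> simp

theorem conj_a1 (p r : SG s) : (p * r * p⁻¹).a1 = r.a1 := by simp; grind

theorem inv_wt {c : Kˣ} (h : (c : K)⁻¹ * (s.σ c)⁻¹ = 1) : c = 1 :=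
  s.eq_one_of_wt' 1 1 (by norm_num) (by
    rw [← mul_inv, inv_eq_one] at h
    simpa using h)

theorem mem_Qs_of_comm {p : SG s} {c : Kˣ} (h : p * dU c (x1 1) * p⁻¹ * (x1 1)⁻¹ ∈ Ys s) : c = 1 ∧ p ∈ Qs s := by
  obtain ⟨h1, h2, h3, -⟩ := h
  have hc : c = 1 := by
    refine inv_wt (s := s) ?_
    simp at h1
    grind
  subst hc
  simp at h2 h3
  have a8 : p.a8 = 0 := by grind
  exact ⟨rfl, a8, by simp [a8] at h3; grind⟩

theorem mem_U4s_of_fix {p : SG s} {c : Kˣ} (hc : c ≠ 1) (h : dU c p = p) : p ∈ U4s s := by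
  have key : ∀ {x y : K}, x ≠ 1 → x * y = y → y = 0 := fun hx e => by
    by_contra h0
    exact hx (mul_right_cancel₀ h0 (e.trans (one_mul _).symm))
  have n1 : (c : K) ≠ 1 := fun e => hc (Units.ext e)
  have n2 : (c : K)⁻¹ ≠ 1 := fun e => n1 (inv_eq_one.1 e)
  have n3 : (c : K)⁻¹ * (s.σ c)⁻¹ ≠ 1 := fun e => hc (inv_wt e)
  have n4 : (c : K) * s.σ c ≠ 1 := fun e => hc (s.eq_one_of_wt' 1 1 (by norm_num) (by simpa using e))
  have n5 : s.σ (c : K) ≠ 1 := fun e => n1 (s.σ_inj (e.trans (map_one _).symm))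
  have n6 : (c : K) ^ 2 * s.σ c ≠ 1 := fun e => hc (s.eq_one_of_wt' 2 1 (by norm_num) (by simpa using e))
  exact ⟨key n3 (by simpa using congrArg SG.a1 h), key n2 (by simpa using congrArg SG.a2 h),
    key n3 (by simpa using congrArg SG.u2 h), key n2 (by simpa using congrArg SG.a3 h),
    key n1 (congrArg SG.a5 h), key n1 (congrArg SG.a6 h), key n4 (congrArg SG.u6 h), key n4 (congrArg SG.a7 h),
    key n5 (congrArg SG.a8 h), key n6 (congrArg SG.u8 h)⟩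

theorem cent_w6 {p : SG s} {c : Kˣ} (h : p * dU c (w6 0 1) * p⁻¹ = w6 0 1) : c = 1 ∧ p ∈ Rs s := by
  rw [show (dU c (w6 0 1) : SG s) = w6 0 (c * s.σ c) by ext <;> simp, conj_w6] at h
  have h1 : (c : K) * s.σ c = 1 := by simpa using congrArg SG.u6 h
  have h2 := congrArg SG.u4 h
  exact ⟨s.eq_one_of_wt' 1 1 (by norm_num) (by simpa using h1), by simpa [h1] using h2⟩

theorem dU_dl (c α : Kˣ) (p : SG s) : dU c (dl (α : K) 1 p) = dl (α : K) 1 (dU c p) := by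
  ext <;> simp <;> ring

end SG

end Cfsg.Agent.Og
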