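import Mathlib
import Cfsg.Agent.Og.KitS

/-! The structure of `C` from the relations. -/

set_option autoImplicit false
set_option linter.unusedSectionVars false

namespace Cfsg.Agent.Og

open Cfsg.Agent.Loc.Mss Subgroup SG
open scoped commutatorElement

variable {K : Type*} [Field K] [CharP K 2] [Finite K] {s : Sg K} {G : Type*} [Group G] [Finite G]

variable {L : Lt s G}

theorem RC.hu' (h : RC L) (c : Kˣ) (p : SG s) : L.h c * L.u p = L.u (dU c p) * L.h c :=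
  mul_inv_eq_iff_eq_mul.1 (h.hu c p)

theorem RC.uh' (h : RC L) (c : Kˣ) (p : SG s) : L.u p * L.h c = L.h c * L.u (dU c⁻¹ p) := by
  rw [← h.hu c⁻¹ p, map_inv]; group

theorem RC.nu' (h : RC L) {p : SG s} (hp : p ∈ Qs s) : L.n * L.u p = L.u (SG.nu p) * L.n := by
  rw [← h.nu p hp.1 hp.2, mul_assoc _ L.n, h.nn, mul_one]

theorem RC.nh' (h : RC L) (c : Kˣ) : L.n * L.h c = L.h c⁻¹ * L.n := by
  rw [← h.nh c, mul_assoc _ L.n, h.nn, mul_one]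

theorem RC.n_conj (h : RC L) {p : SG s} (hp : p ∈ Qs s) : L.n * L.u p * L.n⁻¹ = L.u (SG.nu p) := by
  rw [h.nu' hp, mul_inv_cancel_right]

theorem RC.conjB (h : RC L) (p : SG s) (c : Kˣ) (x : SG s) :
    L.u p * L.h c * L.u x * (L.u p * L.h c)⁻¹ = L.u (p * dU c x * p⁻¹) := by
  rw [map_mul, map_mul, map_inv, ← h.hu]; group

theorem RC.conjN (h : RC L) (p : SG s) (c : Kˣ) (w : SG s) {x : SG s} (hx : x ∈ Qs s) :
    L.u p * L.h c * L.n * L.u w * L.u x * (L.u p * L.h c * L.n * L.u w)⁻¹ =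
      L.u (p * dU c (SG.nu (w * x * w⁻¹)) * p⁻¹) := by
  rw [← h.conjB, ← h.n_conj (Qs_conj w x hx), map_mul, map_mul, map_inv]; group

theorem RC.H1_le_norm_S (h : RC L) : L.H1 ≤ 𝐍[L.S] := by
  rintro _ ⟨c, rfl⟩
  refine mem_norm_of_cj_le (cj_le_iff.2 ?_)
  rintro _ ⟨p, rfl⟩
  exact ⟨_, (h.hu c p).symm⟩

theorem RC.mem_B (h : RC L) {g : G} : g ∈ L.B ↔ ∃ p c, g = L.u p * L.h c := by
  refine ⟨fun hg => ?_, ?_⟩
  · obtain ⟨_, ⟨p, rfl⟩, _, ⟨c, rfl⟩, rfl⟩ := (mem_sup_norm h.H1_le_norm_S).1 hg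
    exact ⟨p, c, rfl⟩
  · rintro ⟨p, c, rfl⟩
    exact mul_mem (L.u_mem_B p) (L.h_mem_B c)

/-- The rank one relation in existential form. -/
theorem RC.r1' (h : RC L) {a v : K} (h0 : ¬ (a = 0 ∧ v = 0)) :
    ∃ w d b x, L.n * L.u (w8 a v) * L.n = L.u w * L.h d * L.n * L.u (w8 b x) :=
  ⟨_, _, _, _, h.r1 a v (Units.mk0 _ fun e => h0 (s.nrm_eq_zero e)) rfl⟩

/-- Bruhat decomposition of `C`. -/
theorem RC.bruhat (h : RC L) {g : G} (hg : g ∈ L.C) :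
    g ∈ L.B ∨ ∃ p c a v, g = L.u p * L.h c * L.n * L.u (w8 a v) := by
  let T : G → Prop := fun g => g ∈ L.B ∨ ∃ p c a v, g = L.u p * L.h c * L.n * L.u (w8 a v)
  let M : Subgroup G :=
    { carrier := {x | ∀ g, T g ↔ T (g * x)}
      one_mem' := fun g => by rw [mul_one]
      mul_mem' := fun {x y} hx hy g => by rw [← mul_assoc]; exact (hx g).trans (hy _)
      inv_mem' := fun {x} hx g => by rw [hx (g * x⁻¹), inv_mul_cancel_right] }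
  have key : ∀ x : G, (∀ g, T g → T (g * x)) → (∀ g, T g → T (g * x⁻¹)) → x ∈ M := fun x h1 h2 g =>
    ⟨h1 g, fun e => by simpa using h2 _ e⟩
  have tu : ∀ r g, T g → T (g * L.u r) := by
    rintro r g (hg | ⟨p, c, a, v, rfl⟩)
    · exact .inl (mul_mem hg (L.u_mem_B r))
    · obtain ⟨q, hq, e⟩ := exists_Q_mul (w8 a v * r)
      generalize (w8 a v * r).a8 = a' at e
      generalize (w8 a v * r).u8 = v' at e
      refine .inr ⟨p * dU c (SG.nu q), c, a', v', ?_⟩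
      rw [mul_assoc _ (L.u _), ← map_mul, e, map_mul, map_mul, ← mul_assoc, mul_assoc _ L.n, h.nu' hq, ← mul_assoc,
        mul_assoc _ (L.h c), h.hu', ← mul_assoc]
  have th : ∀ d g, T g → T (g * L.h d) := by
    rintro d g (hg | ⟨p, c, a, v, rfl⟩)
    · exact .inl (mul_mem hg (L.h_mem_B d))
    · refine .inr ⟨p, c * d⁻¹, s.σ (d⁻¹ : Kˣ) * a, (d⁻¹ : Kˣ) ^ 2 * s.σ (d⁻¹ : Kˣ) * v, ?_⟩
      rw [mul_assoc _ (L.u _), h.uh' d, dU_w8, ← mul_assoc, mul_assoc _ L.n, h.nh', map_mul, ← mul_assoc, ← mul_assoc]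
  have tn : ∀ g, T g → T (g * L.n) := by
    rintro g (hg | ⟨p, c, a, v, rfl⟩)
    · obtain ⟨p, c, rfl⟩ := h.mem_B.1 hg
      exact .inr ⟨p, c, 0, 0, by rw [w8_zero, map_one, mul_one]⟩
    · by_cases h0 : a = 0 ∧ v = 0
      · rw [h0.1, h0.2, w8_zero, map_one, mul_one, mul_assoc, h.nn, mul_one]
        exact .inl (h.mem_B.2 ⟨p, c, rfl⟩)
      · obtain ⟨w, d, b, x, e⟩ := h.r1' h0
        refine .inr ⟨p * dU c w, c * d, b, x, ?_⟩
        rw [mul_assoc _ L.n, mul_assoc _ _ L.n, e, map_mul, map_mul, ← mul_assoc, ← mul_assoc, ← mul_assoc,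
          mul_assoc _ (L.h c), h.hu', ← mul_assoc, ← mul_assoc]
  have := (L.C_le (M := M) (fun p => key _ (tu p) (map_inv L.u p ▸ tu p⁻¹)) (fun c => key _ (th c) (map_inv L.h c ▸ th c⁻¹))
    (key _ tn (h.n_inv.symm ▸ tn)) hg 1).1 (.inl (one_mem _))
  rwa [one_mul] at this

theorem RC.bruhat' (h : RC L) {g : G} (hg : g ∈ L.C) :
    g ∈ L.B ∨ ∃ a v p c, g = L.u (w8 a v) * L.n * (L.u p * L.h c) := by
  rcases h.bruhat (inv_mem hg) with e | ⟨p, c, a, v, e⟩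
  · exact .inl (inv_mem_iff.1 e)
  · obtain ⟨p', c', e'⟩ := h.mem_B.1 (inv_mem (h.mem_B.2 ⟨p, c, rfl⟩))
    refine .inr ⟨a, a * s.σ a + v, p', c', ?_⟩
    rw [← inv_inv g, e, ← e', ← w8_inv, map_inv, mul_inv_rev, mul_inv_rev, h.n_inv, mul_assoc]

/-- A normal, `dh`-invariant coordinate subgroup is normal in `B`. -/
theorem RC.B_le_norm (h : RC L) {A : Subgroup (SG s)} (hn : ∀ p, ∀ a ∈ A, p * a * p⁻¹ ∈ A)
    (hd : ∀ (c : Kˣ), ∀ a ∈ A, dh (c : K) ((c⁻¹ : Kˣ) : K) a ∈ A) : L.B ≤ 𝐍[L.im A] := by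
  refine L.B_le (fun p => ?_) fun c => ?_ <;> refine mem_norm_of_cj_le (cj_le_iff.2 ?_) <;> rintro _ ⟨a, ha, rfl⟩
  · rw [← map_inv, ← map_mul, ← map_mul]; exact Lt.u_mem_im (hn p a ha)
  · rw [h.hu]; exact Lt.u_mem_im (hd c a ha)

theorem RC.C_le_norm (h : RC L) {A : Subgroup (SG s)} (hQ : A ≤ Qs s) (hn : ∀ p, ∀ a ∈ A, p * a * p⁻¹ ∈ A)
    (hd : ∀ (c : Kˣ), ∀ a ∈ A, dh (c : K) ((c⁻¹ : Kˣ) : K) a ∈ A) (hν : ∀ a ∈ A, SG.nu a ∈ A) : L.C ≤ 𝐍[L.im A] := by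
  refine sup_le (h.B_le_norm hn hd) (zpowers_le.2 (mem_norm_of_cj_le (cj_le_iff.2 ?_)))
  rintro _ ⟨a, ha, rfl⟩
  rw [h.n_conj (hQ ha)]
  exact Lt.u_mem_im (hν a ha)

theorem RC.B_le_norm_S (h : RC L) : L.B ≤ 𝐍[L.S] := sup_le le_normalizer h.H1_le_norm_S
theorem RC.B_le_norm_R (h : RC L) : L.B ≤ 𝐍[L.R] := h.B_le_norm Rs_conj fun c a ha => by simp_all
theorem RC.B_le_norm_Z (h : RC L) : L.B ≤ 𝐍[L.Z] := h.B_le_norm Zs_conj fun c a ha => by simp_all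
theorem RC.C_le_norm_Q (h : RC L) : L.C ≤ 𝐍[L.Q] :=
  h.C_le_norm le_rfl Qs_conj (fun c a ha => by simp_all) fun a _ => nu_mem a
theorem RC.C_le_norm_Y (h : RC L) : L.C ≤ 𝐍[L.Y] :=
  h.C_le_norm (fun a ha => by simp_all) Ys_conj (fun c a ha => by simp_all) fun a ha => by simp_all
theorem RC.C_le_norm_V (h : RC L) : L.C ≤ 𝐍[L.V] :=
  h.C_le_norm (fun a ha => by simp_all) Vs_conj (fun c a ha => by simp_all) fun a ha => by simp_all

theorem RC.C_le_cent_X (h : RC L) : L.C ≤ 𝐂[L.X] := by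
  refine L.C_le (fun p => ?_) (fun c => ?_) ?_ <;> rw [mem_cent] <;> rintro _ ⟨x, hx, rfl⟩ <;>
    obtain ⟨a, rfl⟩ := mem_Xs_iff.1 hx
  · rw [← map_mul, ← map_mul, w4_comm]
  · rw [h.hu', show (dU c (w4 0 a) : SG s) = w4 0 a by ext <;> simp]
  · rw [h.nu' (by simp), show (SG.nu (w4 0 a) : SG s) = w4 0 a by ext <;> simp]

theorem RC.C_le_cent_τ (h : RC L) : L.C ≤ 𝐂₁[L.τ] := fun _ hg =>
  mem_c1.2 (mem_cent.1 (h.C_le_cent_X hg) _ L.τ_mem_X).symm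

theorem RC.pg_S (_ : RC L) : IsPGroup 2 L.S := L.im_top ▸ (pg_SG.to_subgroup ⊤).map L.u

theorem RC.X_le_comm (_ : RC L) : L.X ≤ ⁅L.S, L.S⁆ := by
  rintro _ ⟨x, hx, rfl⟩
  obtain ⟨a, rfl⟩ := mem_Xs_iff.1 hx
  rw [← comm_x7_w2, map_commutatorElement]
  exact commutator_mem_commutator (L.u_mem_S _) (L.u_mem_S _)

/-- `C` is generated by two conjugates of `S`. -/
theorem RC.C_eq (h : RC L) : L.C = L.S ⊔ cj(L.n, L.S) := by
  refine le_antisymm ?_ (sup_le L.S_le_C (cj_le_of_mem L.S_le_C L.n_mem_C))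
  have hu : ∀ p, L.u p ∈ L.S ⊔ cj(L.n, L.S) := fun p => mem_sup_left (L.u_mem_S p)
  have key : ∀ N : Kˣ, L.h (N / s.σu N) * L.n ∈ L.S ⊔ cj(L.n, L.S) := fun N => by
    obtain ⟨v, hv⟩ := s.σ_surj (N : K)
    have h1 : L.n * L.u (w8 0 v) * L.n⁻¹ ∈ L.S ⊔ cj(L.n, L.S) := mem_sup_right (conj_mem_cj (L.u_mem_S _))
    rw [h.n_inv, h.r1 0 v N (by simp [hv]), mul_mem_cancel_right (hu _), mul_assoc, mul_mem_cancel_left (hu _)] at h1
    exact h1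
  have hn : L.n ∈ L.S ⊔ cj(L.n, L.S) := by simpa using key 1
  refine L.C_le hu (fun c => ?_) hn
  obtain ⟨N, hN⟩ := s.exists_wt (i := 1) (j := -1) (by norm_num) c
  have := (mul_mem_cancel_right hn).1 (key N)
  rwa [div_eq_mul_inv, show N * (s.σu N)⁻¹ = c by simpa using hN] at this

theorem RC.comm_Z_H1 (h : RC L) (hq : ∃ c : Kˣ, c ≠ 1) : ⁅L.Z, L.H1⁆ = L.V6 := by
  have key : ∀ (a b : K) (c : Kˣ), ⁅L.u (w4 0 a * w6 0 b), L.h c⁆ = L.u (w6 0 ((1 + c * s.σ c) * b)) := fun a b c => by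
    have e : (w4 0 a * w6 0 b : SG s) = w6 0 ((1 + c * s.σ c) * b) * dU c (w4 0 a * w6 0 b) := by
      ext <;> simp; grind
    rw [commutatorElement_def, mul_assoc, mul_assoc, ← mul_assoc (L.h c), ← conj_inv, h.hu, mul_inv_eq_iff_eq_mul,
      ← map_mul, ← e]
  refine le_antisymm (commutator_le.2 ?_) ?_
  · rintro _ ⟨x, hx, rfl⟩ _ ⟨c, rfl⟩
    obtain ⟨a, b, rfl⟩ := mem_Zs_iff.1 hx
    rw [key]
    exact Lt.u_mem_im (by simp)
  · rintro _ ⟨x, hx, rfl⟩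
    obtain ⟨b, rfl⟩ := mem_V6s_iff.1 hx
    obtain ⟨c, hc⟩ := hq
    have h1 : 1 + (c : K) * s.σ c ≠ 0 := fun e => hc (s.eq_one_of_wt' 1 1 (by norm_num) (by simp; grind))
    have := key 0 (b / (1 + c * s.σ c)) c
    rw [mul_div_cancel₀ _ h1] at this
    rw [← this]
    exact commutator_mem_commutator (Lt.u_mem_im (by simp)) (L.h_mem_H1 c)

theorem RC.conj_Z (h : RC L) {g : G} (hg : g ∈ L.Z) (hX : g ∉ L.X) :
    ∃ c ∈ L.B, c * g * c⁻¹ = L.u (w6 0 1) := by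
  obtain ⟨x, hx, rfl⟩ := hg
  obtain ⟨a, b, rfl⟩ := mem_Zs_iff.1 hx
  have hb : b ≠ 0 := by rintro rfl; exact hX (Lt.u_mem_im (by simp))
  obtain ⟨c, hc⟩ := s.exists_wt' 1 1 (by norm_num) (inv_ne_zero hb)
  refine ⟨L.u (x1 a) * L.h c, h.mem_B.2 ⟨_, _, rfl⟩, ?_⟩
  have e : (dU c (w4 0 a * w6 0 b) : SG s) = w4 0 a * w6 0 1 := by
    ext <;> simp
    rw [pow_one, pow_one] at hc
    rw [hc, inv_mul_cancel₀ hb]
  rw [h.conjB, e, ← mul_assoc, w4_comm, mul_assoc, mul_assoc, ← mul_assoc (x1 a), conj_w6, x1_a1, one_mul, ← mul_assoc,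
    w4_sq, one_mul]

/-- Twisting the letters by a diagonal automorphism that fixes `U₈`. -/
@[simps] def Lt.tw (L : Lt s G) (α : Kˣ) : Lt s G := ⟨L.u.comp (dlE s α 1).toMonoidHom, L.h, L.n⟩

theorem Lt.tw_u' (L : Lt s G) (α : Kˣ) (p : SG s) : (L.tw α).u p = L.u (dl (α : K) 1 p) := rfl

theorem RC.tw (h : RC L) (α : Kˣ) : RC (L.tw α) where
  nn := h.nn
  nu p h1 h2 := by
    have := nu_dl α 1 (p := p) ⟨h1, h2⟩
    simp only [one_pow, mul_one, map_one, inv_one, Units.val_one] at this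
    rw [Lt.tw_u', Lt.tw_u', ← this]
    exact h.nu _ (by simp [h1]) (by simp [h2])
  hu c p := by
    rw [Lt.tw_u', Lt.tw_u', ← dU_dl]
    exact h.hu c _
  nh := h.nh
  r1 a v N e := by
    have key : ∀ a v : K, (L.tw α).u (w8 a v) = L.u (w8 a v) := fun a v => by
      rw [Lt.tw_u']; congr 1; ext <;> simp
    rw [key, key, key]
    exact h.r1 a v N e

theorem OC.tw (h : OC L) (α : Kˣ) : OC (L.tw α) := ⟨h.toRC.tw α, h.inj.comp (dlE s α 1).injective⟩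

theorem Lt.tw_S (L : Lt s G) (α : Kˣ) : (L.tw α).S = L.S := by
  refine le_antisymm (by rintro _ ⟨p, rfl⟩; exact ⟨_, rfl⟩) ?_
  rintro _ ⟨p, rfl⟩
  obtain ⟨r, rfl⟩ := (dlE s α 1).surjective p
  exact ⟨r, rfl⟩

theorem Lt.tw_C (L : Lt s G) (α : Kˣ) : (L.tw α).C = L.C := by
  rw [Lt.C, Lt.B, L.tw_S]; rfl

/-- Every involution of `X` is the `τ` of twisted letters. -/
theorem Lt.exists_tw (L : Lt s G) {x : G} (hx : x ∈ L.X) (h1 : x ≠ 1) : ∃ α, (L.tw α).τ = x := by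
  obtain ⟨p, hp, rfl⟩ := hx
  obtain ⟨a, rfl⟩ := mem_Xs_iff.1 hp
  have ha : a ≠ 0 := by rintro rfl; exact h1 (map_one L.u)
  obtain ⟨α, hα⟩ := s.exists_wt' 2 1 (by norm_num) ha
  refine ⟨α, congrArg L.u ?_⟩
  change dl (α : K) 1 (w4 0 1) = _
  ext <;> simp
  simpa using hα

theorem OC.uh_inj (h : OC L) {p p' : SG s} {c c' : Kˣ} (e : L.u p * L.h c = L.u p' * L.h c') :
    p = p' ∧ c = c' := by
  have e1 : L.u (p'⁻¹ * p) = L.h (c' * c⁻¹) := by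
    rw [map_mul, map_mul, map_inv, map_inv, inv_mul_eq_iff_eq_mul, ← mul_assoc, ← e, mul_inv_cancel_right]
  have e2 := h.hu (c' * c⁻¹) (w8 1 0)
  rw [← e1, ← map_inv, ← map_mul, ← map_mul, h.u_inj] at e2
  have e3 : s.σ ((c' * c⁻¹ : Kˣ) : K) = s.σ 1 := by
    have := congrArg SG.a8 e2
    simp only [mul_a8, inv_a8, w8_a8, dh_a8, mul_one] at this
    rw [← this, map_one]; grind
  have e4 : c' = c := mul_inv_eq_one.1 (Units.ext (s.σ_inj e3))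
  subst e4
  exact ⟨h.inj (mul_right_cancel e), rfl⟩

theorem OC.h_inj (h : OC L) : Function.Injective L.h := fun c c' e =>
  (h.uh_inj (p := 1) (p' := 1) (by rw [e])).2

theorem OC.n_not_norm_R (h : OC L) : L.n ∉ 𝐍[L.R] := fun hn => by
  have := conj_mem_of_norm hn (Lt.u_mem_im (p := x7 1) (by simp))
  rw [h.toRC.n_conj (by simp), h.u_mem_im] at this
  simp at this

theorem OC.n_not_norm_Z (h : OC L) : L.n ∉ 𝐍[L.Z] := fun hn => by
  have := conj_mem_of_norm hn (Lt.u_mem_im (p := w6 0 1) (by simp))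
  rw [h.toRC.n_conj (by simp), h.u_mem_im] at this
  simp at this

theorem OC.n_not_mem_B (h : OC L) : L.n ∉ L.B := fun hn => h.n_not_norm_R (h.toRC.B_le_norm_R hn)

theorem n_mem_of_big {M : Subgroup G} (hM : L.B ≤ M) {p w : SG s} {c : Kˣ} (hg : L.u p * L.h c * L.n * L.u w ∈ M) :
    L.n ∈ M := by
  rwa [mul_mem_cancel_right (hM (L.u_mem_B w)), mul_mem_cancel_left (mul_mem (hM (L.u_mem_B p)) (hM (L.h_mem_B c)))] at hg

theorem OC.big_not_mem_B (h : OC L) (p w : SG s) (c : Kˣ) : L.u p * L.h c * L.n * L.u w ∉ L.B := fun hg =>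
  h.n_not_mem_B (n_mem_of_big le_rfl hg)

theorem OC.nwn (h : OC L) {a v : K} (e : L.n * L.u (w8 a v) * L.n ∈ L.B) : a = 0 ∧ v = 0 := by
  by_contra h0
  obtain ⟨w, d, b, x, e'⟩ := h.toRC.r1' h0
  exact h.big_not_mem_B _ _ _ (e' ▸ e)

/-- Uniqueness in the big cell. -/
theorem OC.big_inj (h : OC L) {p p' : SG s} {c c' : Kˣ} {a v a' v' : K}
    (e : L.u p * L.h c * L.n * L.u (w8 a v) = L.u p' * L.h c' * L.n * L.u (w8 a' v')) :
    p = p' ∧ c = c' ∧ a = a' ∧ v = v' := by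
  have e1 : L.n * L.u (w8 a v * (w8 a' v')⁻¹) * L.n = (L.u p * L.h c)⁻¹ * (L.u p' * L.h c') := by
    rw [map_mul, map_inv, eq_inv_mul_iff_mul_eq, ← mul_assoc, ← mul_assoc, ← mul_assoc, e, mul_inv_cancel_right,
      mul_assoc _ L.n, h.nn, mul_one]
  rw [w8_inv, w8_mul] at e1
  obtain ⟨h1, h2⟩ := h.nwn (e1 ▸ mul_mem (inv_mem (h.toRC.mem_B.2 ⟨_, _, rfl⟩)) (h.toRC.mem_B.2 ⟨_, _, rfl⟩))
  obtain rfl : a = a' := by grind
  obtain rfl : v = v' := by grind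
  obtain ⟨h3, h4⟩ := h.uh_inj (mul_right_cancel (mul_right_cancel e))
  exact ⟨h3, h4, rfl, rfl⟩

theorem RC.inf_eq_B (h : RC L) {M : Subgroup G} (hM : L.B ≤ M) (hn : L.n ∉ M) : L.C ⊓ M = L.B :=
  le_antisymm (fun _ hg => (h.bruhat hg.1).resolve_right fun ⟨_, _, _, _, e⟩ => hn (n_mem_of_big hM (e ▸ hg.2)))
    (le_inf L.B_le_C hM)

theorem OC.orderOf_τ (h : OC L) : orderOf L.τ = 2 := by
  refine orderOf_eq_prime ?_ fun e => ?_
  · rw [pow_two, Lt.τ, ← map_mul, w4_sq, map_one]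
  · have := congrArg SG.u4 (h.inj (e.trans (map_one L.u).symm))
    simp at this

theorem OC.card_S (h : OC L) : Nat.card L.S = Nat.card K ^ 12 :=
  (Nat.card_congr (MonoidHom.ofInjective h.inj).toEquiv).symm.trans card_SG

theorem OC.card_H1 (h : OC L) : Nat.card L.H1 = Nat.card Kˣ :=
  (Nat.card_congr (MonoidHom.ofInjective h.h_inj).toEquiv).symm

theorem RC.uh_pow (h : RC L) (p : SG s) (c : Kˣ) (m : ℕ) : ∃ r, (L.u p * L.h c) ^ m = L.u r * L.h (c ^ m) := by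
  induction m with
  | zero => exact ⟨1, by simp⟩
  | succ m ih =>
    obtain ⟨r, e⟩ := ih
    refine ⟨r * dU (c ^ m) p, ?_⟩
    rw [pow_succ, e, pow_succ, map_mul, map_mul, ← mul_assoc, mul_assoc _ (L.h _), h.hu', ← mul_assoc, ← mul_assoc]

/-- The `2`-elements of `B` lie in `S`. -/
theorem OC.mem_S_of_pow (h : OC L) {g : G} (hg : g ∈ L.B) {k : ℕ} (h2 : g ^ 2 ^ k = 1) : g ∈ L.S := by
  obtain ⟨p, c, rfl⟩ := h.toRC.mem_B.1 hg
  obtain ⟨r, e⟩ := h.toRC.uh_pow p c (2 ^ k)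
  have h3 : c ^ 2 ^ k = 1 := (h.uh_inj (p' := 1) (c' := 1) (by rw [← e, h2, map_one, map_one, mul_one])).2
  have h4 : ∀ k : ℕ, c ^ 2 ^ k = 1 → c = 1 := fun k => by
    induction k with
    | zero => simp
    | succ k ih => exact fun e => ih (Sg.eq_one_of_sq (by rw [← pow_mul, ← pow_succ, e]))
  rw [h4 k h3, map_one, mul_one]
  exact L.u_mem_S p

theorem OC.S_inf_cj (h : OC L) : L.S ⊓ cj(L.n, L.S) = L.Q := by
  refine le_antisymm ?_ (le_inf (L.im_le_S _) ?_)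
  · rintro _ ⟨⟨p, rfl⟩, hp⟩
    obtain ⟨q, hq, e⟩ := exists_Q_mul p
    replace hp := mem_cj.1 hp
    rw [h.toRC.n_inv, e, map_mul, ← mul_assoc, h.toRC.nu' hq, mul_assoc, mul_assoc,
      mul_mem_cancel_left (L.u_mem_S _), ← mul_assoc] at hp
    exact Lt.u_mem_im (h.nwn (L.S_le_B hp))
  · exact (cj_of_norm (h.toRC.C_le_norm_Q L.n_mem_C)).ge.trans (cj_mono _ (L.im_le_S _))

/-- `C/Q` acts faithfully on `Q/V` (even on `Q/Y`). -/
theorem OC.mem_Q_of_comm (h : OC L) {g : G} (hg : g ∈ L.C) (hc : ∀ x ∈ L.Q, ⁅g, x⁆ ∈ L.Y) : g ∈ L.Q := by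
  rcases h.toRC.bruhat hg with e | ⟨p, c, a, v, rfl⟩
  · obtain ⟨p, c, rfl⟩ := h.toRC.mem_B.1 e
    have := hc _ (Lt.u_mem_im (p := x1 1) (by simp))
    rw [commutatorElement_def, h.toRC.conjB, ← map_inv, ← map_mul, h.u_mem_im] at this
    obtain ⟨rfl, hp⟩ := mem_Qs_of_comm this
    rw [map_one, mul_one]
    exact Lt.u_mem_im hp
  · have := hc _ (Lt.u_mem_im (p := x7 1) (by simp))
    rw [commutatorElement_def, h.toRC.conjN _ _ _ (by simp), ← map_inv, ← map_mul, h.u_mem_im, w8_x7] at this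
    have h1 := this.1
    rw [mul_a1, conj_a1] at h1
    simp at h1

theorem OC.cent_Q (h : OC L) : L.C ⊓ 𝐂[L.Q] = L.X := by
  refine le_antisymm (fun g hg => ?_) (le_inf (L.im_le_C _) (cent_comm ((L.im_le_C _).trans h.toRC.C_le_cent_X)))
  obtain ⟨p, -, rfl⟩ := h.mem_Q_of_comm hg.1 fun x hx => by
    rw [commutatorElement_eq_one_iff_mul_comm.2 (mem_cent.1 hg.2 x hx).symm]; exact one_mem _
  exact Lt.u_mem_im (mem_Xs_of_comm fun r hr => h.inj (by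
    rw [map_mul, map_mul]; exact mem_cent.1 hg.2 _ (Lt.u_mem_im hr)))

theorem OC.cent_S (h : OC L) : L.S ⊓ 𝐂[L.S] = L.X :=
  le_antisymm ((inf_le_inf L.S_le_C (cent_anti (L.im_le_S _))).trans h.cent_Q.le)
    (le_inf (L.im_le_S _) (cent_comm (L.S_le_C.trans h.toRC.C_le_cent_X)))

theorem OC.cent_C (h : OC L) : L.C ⊓ 𝐂[L.C] = L.X :=
  le_antisymm ((inf_le_inf le_rfl (cent_anti (L.im_le_C _))).trans h.cent_Q.le)
    (le_inf (L.im_le_C _) (cent_comm h.toRC.C_le_cent_X))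

theorem Lt.R_le_cent_Z (L : Lt s G) : L.R ≤ 𝐂[L.Z] := by
  rintro _ ⟨r, hr, rfl⟩
  rw [mem_cent]
  rintro _ ⟨p, hp, rfl⟩
  rw [← map_mul, ← map_mul, Zs_comm_Rs hp hr]

theorem OC.cent_R (h : OC L) : L.R ⊓ 𝐂[L.R] = L.Z := by
  refine le_antisymm ?_ (le_inf (Lt.im_mono fun p hp => hp.1) (cent_comm L.R_le_cent_Z))
  rintro _ ⟨⟨p, hp, rfl⟩, hc⟩
  exact Lt.u_mem_im (mem_Zs_of_comm hp fun r hr => h.inj (by
    rw [map_mul, map_mul]; exact mem_cent.1 hc _ (Lt.u_mem_im hr)))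

/-- `Z` is the second centre of `S`. -/
theorem OC.mem_Z_iff (h : OC L) {g : G} : g ∈ L.Z ↔ g ∈ L.S ∧ ∀ x ∈ L.S, ⁅g, x⁆ ∈ L.X := by
  constructor
  · rintro ⟨p, hp, rfl⟩
    refine ⟨L.u_mem_S p, ?_⟩
    rintro _ ⟨r, rfl⟩
    rw [← map_commutatorElement]
    exact Lt.u_mem_im (comm_Zs hp r)
  · rintro ⟨⟨p, rfl⟩, hc⟩
    refine Lt.u_mem_im (mem_Zs_of_comm' fun r => h.u_mem_im.1 ?_)
    rw [map_commutatorElement]
    exact hc _ (L.u_mem_S r)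

theorem OC.norm_S (h : OC L) : L.C ⊓ 𝐍[L.S] = L.B :=
  h.toRC.inf_eq_B h.toRC.B_le_norm_S fun hn => by
    have := conj_mem_of_norm hn (L.u_mem_S (w8 1 0))
    rw [h.toRC.n_inv] at this
    exact one_ne_zero (h.nwn (L.S_le_B this)).1

theorem OC.norm_Z (h : OC L) : L.C ⊓ 𝐍[L.Z] = L.B := h.toRC.inf_eq_B h.toRC.B_le_norm_Z h.n_not_norm_Z

theorem OC.norm_R (h : OC L) : L.C ⊓ 𝐍[L.R] = L.B := h.toRC.inf_eq_B h.toRC.B_le_norm_R h.n_not_norm_R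

theorem OC.cent_Z (h : OC L) : L.C ⊓ 𝐂[L.Z] = L.R := by
  refine le_antisymm (fun g hg => ?_) (le_inf (L.im_le_C _) L.R_le_cent_Z)
  obtain ⟨p, c, rfl⟩ := h.toRC.mem_B.1 (h.norm_Z.le ⟨hg.1, cent_le_norm _ hg.2⟩)
  have e := mem_cent.1 hg.2 _ (Lt.u_mem_im (p := w6 0 1) (by simp))
  rw [eq_comm, ← mul_inv_eq_iff_eq_mul, h.toRC.conjB, h.u_inj] at e
  obtain ⟨rfl, hp⟩ := cent_w6 e
  rw [map_one, mul_one]
  exact Lt.u_mem_im hp

theorem OC.syl_C (h : OC L) : Syl 2 L.S L.C :=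
  Syl.of_norm h.toRC.pg_S L.S_le_C fun _ hP _ h1 h2 g hg =>
    (pg_iff.1 hP g hg).elim fun _ hk => h.mem_S_of_pow (h.norm_S.le ⟨h1 hg, h2 hg⟩) hk

theorem OC.core_C (h : OC L) : pCoreOf 2 L.C = L.Q :=
  le_antisymm ((le_inf h.syl_C.core_le (h.syl_C.cj_mem L.n_mem_C).core_le).trans h.S_inf_cj.le)
    (le_core_of_subnormal (GT.SubnormalIn.of_le_normalizer (L.im_le_C _) h.toRC.C_le_norm_Q)
      (h.toRC.pg_S.to_le (L.im_le_S _)))

/-- A normal subgroup of `C` not inside `X` meets `Z - X`. -/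
theorem OC.normal_meet (h : OC L) {N : Subgroup G} (hN : N ≤ L.C) (hn : L.C ≤ 𝐍[N]) (hX : ¬ N ≤ L.X) :
    ∃ z ∈ N, z ∈ L.Z ∧ z ∉ L.X := by
  have h1 : ¬ N ⊓ L.S ≤ L.X := fun hle => hX fun g hg => by
    refine hle ⟨hg, L.im_le_S _ (h.mem_Q_of_comm (hN hg) fun x hx => ?_)⟩
    refine Lt.im_mono (fun p hp => by simp_all) (hle ⟨?_, L.im_le_S (Qs s) ?_⟩)
    · exact comm_le_left hn (commutator_mem_commutator hg (L.im_le_C _ hx))
    · exact comm_le_right h.toRC.C_le_norm_Q (commutator_mem_commutator (hN hg) hx)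
  obtain ⟨M, hM, ⟨h2, h3, h4⟩, h5⟩ := GT.exists_minimal_le
    (P := fun M : Subgroup G => M ≤ L.S ∧ L.S ≤ 𝐍[M] ∧ ¬ M ≤ L.X) (H := N ⊓ L.S)
    ⟨inf_le_right, norm_inf (L.S_le_C.trans hn) le_normalizer, h1⟩
  have h6 := GT.PG.commutator_lt_of_isPGroup (h.toRC.pg_S.to_le h2) h.toRC.pg_S h3 (by rintro rfl; exact h4 bot_le)
  have h7 : ⁅M, L.S⁆ ≤ L.X := by
    by_contra h7
    exact h6.ne (h5 _ ⟨h6.le.trans h2, norm_comm h3 le_normalizer, h7⟩ h6.le)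
  obtain ⟨z, hz, hzX⟩ := SetLike.not_le_iff_exists.1 h4
  exact ⟨z, (hM hz).1, h.mem_Z_iff.2 ⟨h2 hz, fun x hx => h7 (commutator_mem_commutator hz hx)⟩, hzX⟩

/-- The centralizer in `C` of a non-trivial element of `H₁` is `U₄ H₁`. -/
theorem OC.cent_h (h : OC L) {c : Kˣ} (hc : c ≠ 1) {g : G} (hg : g ∈ L.C) (e : g * L.h c = L.h c * g) :
    ∃ a v d, g = L.u (w4 a v) * L.h d := by
  rcases h.toRC.bruhat hg with e' | ⟨p, d, a, v, rfl⟩
  · obtain ⟨p, d, rfl⟩ := h.toRC.mem_B.1 e'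
    rw [mul_assoc, ← map_mul, ← mul_assoc, h.toRC.hu', mul_assoc, ← map_mul] at e
    obtain ⟨a, v, rfl⟩ := mem_U4s_iff.1 (mem_U4s_of_fix hc (h.uh_inj e).1.symm)
    exact ⟨a, v, d, rfl⟩
  · rw [mul_assoc _ (L.u _), h.toRC.uh' c, dU_w8, ← mul_assoc, mul_assoc _ L.n, h.toRC.nh', ← mul_assoc,
      mul_assoc _ (L.h d), ← map_mul, ← mul_assoc, ← mul_assoc, ← mul_assoc, h.toRC.hu' c, mul_assoc _ (L.h c),
      ← map_mul] at e
    have h1 := (h.big_inj e).2.1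
    rw [mul_comm c, mul_right_inj, inv_eq_iff_mul_eq_one, ← pow_two] at h1
    exact absurd (Sg.eq_one_of_sq h1) hc

theorem RC.exists_equiv (h : RC L) {G' : Type*} [Group G'] [Finite G'] (f : G →* G') (h' : OC (L.map f)) :
    ∃ e : L.C ≃* (L.map f).C, ∀ x, (e x : G') = f x := by
  let φ : L.C →* (L.map f).C := (f.comp L.C.subtype).codRestrict _ fun x => L.map_C f ▸ mem_map_of_mem f x.2
  refine ⟨MulEquiv.ofBijective φ ⟨(injective_iff_map_eq_one _).2 fun x hx => ?_, fun y => ?_⟩, fun _ => rfl⟩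
  · have h1 : f x = 1 := congrArg Subtype.val hx
    rcases h.bruhat x.2 with e | ⟨p, c, a, v, e⟩
    · obtain ⟨p, c, e⟩ := h.mem_B.1 e
      rw [e, map_mul] at h1
      obtain ⟨rfl, rfl⟩ := h'.uh_inj (p := p) (c := c) (p' := 1) (c' := 1) (h1.trans (by simp))
      exact Subtype.ext (by simpa using e)
    · rw [e, map_mul, map_mul, map_mul] at h1
      exact absurd (h1.symm ▸ one_mem _) (h'.big_not_mem_B p (w8 a v) c)
  · obtain ⟨x, hx, e⟩ := (L.map_C f).le y.2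
    exact ⟨⟨x, hx⟩, Subtype.ext e⟩

/-- The relations determine `C`. -/
theorem OC.iso {G' : Type*} [Group G'] [Finite G'] {L' : Lt s G'} (h : OC L) (h' : OC L') :
    ∃ e : L.C ≃* L'.C, (∀ p, (e ⟨L.u p, L.u_mem_C p⟩ : G') = L'.u p) ∧
      (∀ c, (e ⟨L.h c, L.h_mem_C c⟩ : G') = L'.h c) ∧ (e ⟨L.n, L.n_mem_C⟩ : G') = L'.n := by
  let M : Lt s (G × G') := ⟨L.u.prod L'.u, L.h.prod L'.h, (L.n, L'.n)⟩
  have hM : RC M :=
    ⟨Prod.ext h.nn h'.nn, fun p a b => Prod.ext (h.nu p a b) (h'.nu p a b), fun c p => Prod.ext (h.hu c p) (h'.hu c p),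
      fun c => Prod.ext (h.nh c) (h'.nh c), fun a v N e => Prod.ext (h.r1 a v N e) (h'.r1 a v N e)⟩
  obtain ⟨e1, h1⟩ := hM.exists_equiv (MonoidHom.fst G G') h
  obtain ⟨e2, h2⟩ := hM.exists_equiv (MonoidHom.snd G G') h'
  have key : ∀ (x : M.C) (y : L.C), (x : G × G').1 = y → ((e1.symm.trans e2) y : G') = (x : G × G').2 := fun x y e => by
    have : e1 x = y := Subtype.ext ((h1 x).trans e)
    rw [← this]
    exact (congrArg (fun t => (e2 t : G')) (e1.symm_apply_apply x)).trans (h2 x)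
  exact ⟨e1.symm.trans e2, fun p => key ⟨M.u p, M.u_mem_C p⟩ _ rfl, fun c => key ⟨M.h c, M.h_mem_C c⟩ _ rfl,
    key ⟨M.n, M.n_mem_C⟩ _ rfl⟩

end Cfsg.Agent.Og
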