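import Mathlib
import Cfsg.Agent.Og.Kit

set_option autoImplicit false
set_option linter.unusedSectionVars false
set_option linter.unusedSimpArgs false
set_option linter.unnecessarySeqFocus false

namespace Cfsg.Agent.Og

open Cfsg.Agent.Loc.Mss Subgroup SG
open scoped commutatorElement

variable {K : Type*} [Field K] [CharP K 2] [Finite K] {s : Sg K} {G : Type*} [Group G] [Finite G]

/-! The involutions of `C` and their centralizers. -/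

variable {L : Lt s G}

namespace K2

/-- Conjugacy in `C`. -/
def Cj (L : Lt s G) (p r : SG s) : Prop := ∃ c ∈ L.C, c * L.u p * c⁻¹ = L.u r

theorem Cj.trans {p r t : SG s} (h : Cj L p r) (h' : Cj L r t) : Cj L p t := by
  obtain ⟨c, hc, e⟩ := h
  obtain ⟨d, hd, e'⟩ := h'
  exact ⟨d * c, mul_mem hd hc, by rw [← e', ← e]; group⟩

theorem cj_u (t : SG s) {p r : SG s} (e : t * p * t⁻¹ = r) : Cj L p r :=
  ⟨L.u t, L.u_mem_C t, by rw [← e, map_mul, map_mul, map_inv]⟩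

theorem cj_h (h : RC L) (c : Kˣ) {p r : SG s} (e : dh (c : K) ((c⁻¹ : Kˣ) : K) p = r) : Cj L p r :=
  ⟨L.h c, L.h_mem_C c, e ▸ h.hu c p⟩

theorem cj_n (h : RC L) {p r : SG s} (h1 : p.a8 = 0) (h2 : p.u8 = 0) (e : nu p = r) : Cj L p r :=
  ⟨L.n, L.n_mem_C, by rw [h.n_inv, h.nu p h1 h2, e]⟩

/-- Types 2 and 3. -/
def Gd (L : Lt s G) (p : SG s) : Prop := Cj L p (w6 0 1) ∨ Cj L p (x5 1)

theorem Cj.gd {p r : SG s} (h : Cj L p r) (h' : Gd L r) : Gd L p := h'.imp h.trans h.trans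

/-- All types. -/
def Gd' (L : Lt s G) (p : SG s) : Prop :=
  Gd L p ∨ Cj L p (x7 1) ∨ ∃ e, Cj L p (w4 0 e * w8 0 1)

theorem Cj.gd' {p r : SG s} (h : Cj L p r) (h' : Gd' L r) : Gd' L p :=
  h'.imp h.gd (Or.imp h.trans fun ⟨e, he⟩ => ⟨e, h.trans he⟩)

theorem exists_σ {a : K} (ha : a ≠ 0) (b : K) : ∃ t, s.σ t * a = b := by
  obtain ⟨t, ht⟩ := s.σ_surj (b / a)
  exact ⟨t, by rw [ht, div_mul_cancel₀ _ ha]⟩

theorem exists_c {a : K} (ha : a ≠ 0) : ∃ c : Kˣ, (c : K) * s.σ c * a = 1 := by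
  obtain ⟨c, hc⟩ := s.exists_wt' 1 1 (by norm_num) (inv_ne_zero ha)
  exact ⟨c, by rw [← inv_mul_cancel₀ ha, ← hc, pow_one, pow_one]⟩

theorem gZ (h : RC L) (u4 : K) {u6 : K} (h6 : u6 ≠ 0) :
    Gd L ⟨0, 0, 0, 0, 0, u4, 0, 0, u6, 0, 0, 0⟩ := by
  obtain ⟨c, hc⟩ := exists_c (s := s) h6
  exact .inl ((cj_u (x1 (u4 / u6)) (r := w6 0 u6) (by ext <;> simp <;> grind)).trans
    (cj_h h c (by ext <;> simp [hc])))

theorem g5 (h : RC L) (u4 u6 : K) {a5 : K} (h5 : a5 ≠ 0) :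
    Gd L ⟨0, 0, 0, 0, 0, u4, a5, 0, u6, 0, 0, 0⟩ :=
  .inr (((cj_u (w8 (u6 / a5) 0) (r := ⟨0, 0, 0, 0, 0, u4, a5, 0, 0, 0, 0, 0⟩)
    (by ext <;> simp <;> grind)).trans
    (cj_u (w2 (u4 / a5) 0) (r := x5 a5) (by ext <;> simp <;> grind))).trans
    (cj_h h (Units.mk0 a5 h5)⁻¹ (by ext <;> simp [h5])))

theorem g3 (h : RC L) (u4 a5 u6 : K) {a3 : K} (h3 : a3 ≠ 0) :
    Gd L ⟨0, 0, 0, a3, 0, u4, a5, 0, u6, 0, 0, 0⟩ := by
  obtain ⟨a, ha⟩ := exists_σ (s := s) h3 a5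
  exact (((cj_u (w8 a 0) (r := ⟨0, 0, 0, a3, 0, u4 + a * s.σ a3, 0, 0, u6 + a * a5, 0, 0, 0⟩)
    (by ext <;> simp <;> grind)).trans
    (cj_u (w8 0 ((u6 + a * a5) / a3)) (r := ⟨0, 0, 0, a3, 0, u4 + a * s.σ a3, 0, 0, 0, 0, 0, 0⟩)
    (by ext <;> simp <;> grind))).trans
    (cj_n h rfl rfl (by ext <;> simp))).gd (g5 h (u4 + a * s.σ a3) 0 h3)

theorem gV0 (h : RC L) (a3 u4 a5 u6 : K) (hn : ¬ (a3 = 0 ∧ a5 = 0 ∧ u6 = 0)) :
    Gd L ⟨0, 0, 0, a3, 0, u4, a5, 0, u6, 0, 0, 0⟩ := by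
  by_cases h3 : a3 = 0
  · subst h3
    by_cases h5 : a5 = 0
    · subst h5
      exact gZ h u4 fun e => hn ⟨rfl, rfl, e⟩
    · exact g5 h u4 u6 h5
  · exact g3 h u4 a5 u6 h3

theorem g2' (h : RC L) (u4 a5 u6 : K) {u2 : K} (h2 : u2 ≠ 0) :
    Gd L ⟨0, 0, u2, 0, 0, u4, a5, 0, u6, 0, 0, 0⟩ := by
  obtain ⟨b, hb⟩ := exists_σ (s := s) h2 u6
  exact ((cj_u (w8 0 b) (r := ⟨0, 0, u2, 0, 0, u4 + b * s.σ u2, a5 + b * u2, 0, 0, 0, 0, 0⟩)
    (by ext <;> simp <;> grind)).trans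
    (cj_n h rfl rfl (by ext <;> simp))).gd
    (gV0 h (a5 + b * u2) (u4 + b * s.σ u2) 0 u2 fun e => h2 e.2.2)

theorem gV (h : RC L) {p : SG s} (hp : p ∈ Vs s) (hX : p ∉ Xs s) : Gd L p := by
  obtain ⟨a1, a2, u2, a3, a4, u4, a5, a6, u6, a7, a8, u8⟩ := p
  obtain ⟨rfl, rfl, rfl, rfl, rfl, rfl, rfl⟩ : a1 = 0 ∧ a2 = 0 ∧ a4 = 0 ∧ a6 = 0 ∧ a7 = 0 ∧ a8 = 0 ∧
    u8 = 0 := hp
  by_cases h2 : u2 = 0
  · subst h2
    exact gV0 h _ _ _ _ (by simpa using hX)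
  · obtain ⟨a, ha⟩ : ∃ a, a * u2 = a3 := ⟨a3 / u2, div_mul_cancel₀ _ h2⟩
    exact (cj_u (w8 a 0) (by ext <;> simp <;> grind)).gd
      (g2' h (u4 + a * s.σ a3) (a5 + s.σ a * a3 + a * s.σ a * u2)
        (u6 + a * a5 + a ^ 2 * s.σ a * u2) h2)

theorem g7 (h : RC L) (a3 u4 a5 u6 : K) {a7 : K} (h7 : a7 ≠ 0) :
    Cj L ⟨0, 0, 0, a3, 0, u4, a5, 0, u6, a7, 0, 0⟩ (x7 1) := by
  have k1 : ∀ u4 u6, Cj L ⟨0, 0, 0, 0, 0, u4, 0, 0, u6, a7, 0, 0⟩ (x7 1) := fun u4 u6 => by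
    obtain ⟨c, hc⟩ := exists_c (s := s) h7
    exact ((cj_u (w4 (u6 / a7) 0) (r := ⟨0, 0, 0, 0, 0, u4, 0, 0, 0, a7, 0, 0⟩)
      (by ext <;> simp <;> grind)).trans
      (cj_u (w2 0 (u4 / a7)) (r := x7 a7) (by ext <;> simp <;> grind))).trans
      (cj_h h c (by ext <;> simp [hc]))
  have k2 : ∀ u4 a5 u6, Cj L ⟨0, 0, 0, 0, 0, u4, a5, 0, u6, a7, 0, 0⟩ (x7 1) := fun u4 a5 u6 => by
    obtain ⟨b, hb⟩ := exists_σ (s := s) h7 a5
    exact (cj_u (w2 b 0) (by ext <;> simp <;> grind)).trans (k1 (u4 + a5 * b) (u6 + s.σ a7 * b))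
  obtain ⟨b, hb⟩ := exists_σ (s := s) h7 a3
  exact (cj_u (x1 b) (by ext <;> simp <;> grind)).trans (k2 (u4 + b * u6) (a5 + s.σ a7 * b) u6)

theorem g8 (u4 a5 u6 a7 : K) :
    ∃ e, Cj L ⟨0, 0, 0, 0, 0, u4, a5, 0, u6, a7, 0, 1⟩ (w4 0 e * w8 0 1) := by
  have k1 : ∀ u4 a5 u6, ∃ e, Cj L ⟨0, 0, 0, 0, 0, u4, a5, 0, u6, 0, 0, 1⟩ (w4 0 e * w8 0 1) :=
    fun u4 a5 u6 => ⟨s.σ a5 + u4, (cj_u (w2 0 a5)
      (r := ⟨0, 0, 0, 0, 0, s.σ a5 + u4, 0, 0, a5 + u6, 0, 0, 1⟩) (by ext <;> simp <;> grind)).trans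
      (cj_u (x3 (a5 + u6)) (by ext <;> simp <;> grind))⟩
  obtain ⟨e, he⟩ := k1 (u4 + a5 * a7 + a7 ^ 2 * s.σ a7) a5 (u6 + s.σ a7 * a7)
  exact ⟨e, (cj_u (w2 a7 0) (by ext <;> simp <;> grind)).trans he⟩

/-- Involutions with `a₁ = 0` in `Q`. -/
theorem gR (h : RC L) {p : SG s} (h1 : p.a1 = 0) (h8 : p.a8 = 0) (h8' : p.u8 = 0) (h2 : p * p = 1)
    (hX : p ∉ Xs s) : Gd' L p := by
  obtain ⟨a1, a2, u2, a3, a4, u4, a5, a6, u6, a7, a8, u8⟩ := p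
  obtain rfl : a1 = 0 := h1
  obtain rfl : a8 = 0 := h8
  obtain rfl : u8 = 0 := h8'
  obtain rfl : a2 = 0 := by
    have e := congrArg SG.u2 h2
    have : a2 * s.σ a2 = 0 := by simp at e; grind
    simpa using this
  have e4 : a3 * a6 + a4 * s.σ a4 + a7 * u2 = 0 := by
    have e := congrArg SG.u4 h2
    simp at e; grind
  have e5 : a4 * a6 = 0 := by
    have e := congrArg SG.a5 h2
    simp at e; grind
  have e6 : a4 * a7 + a6 * s.σ a6 = 0 := by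
    have e := congrArg SG.u6 h2
    simp at e; grind
  obtain rfl : a6 = 0 := by
    rcases mul_eq_zero.1 e5 with rfl | rfl
    · simpa using e6
    · rfl
  by_cases h7 : a7 = 0
  · subst h7
    obtain rfl : a4 = 0 := by simpa using e4
    exact .inl (gV h (by simp) hX)
  · obtain rfl : a4 = 0 := by simpa [h7] using e6
    obtain rfl : u2 = 0 := by simpa [h7] using e4
    exact .inr (.inl (g7 h _ _ _ _ h7))

theorem sq_conj {p : SG s} (h : p * p = 1) (t : SG s) : t * p * t⁻¹ * (t * p * t⁻¹) = 1 := by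
  rw [conj_mul, h, mul_one, mul_inv_cancel]

/-- Involutions in `Q`. -/
theorem gQ (h : RC L) {p : SG s} (h8 : p.a8 = 0) (h8' : p.u8 = 0) (h2 : p * p = 1)
    (hX : p ∉ Xs s) : Gd' L p := by
  by_cases h1 : p.a1 = 0
  · exact gR h h1 h8 h8' h2 hX
  have k1 : ∀ p : SG s, p.a1 ≠ 0 → p.a2 = 0 → p.a6 = 0 → p.a8 = 0 → p.u8 = 0 → p * p = 1 →
      Gd' L p := fun p h1 e2 e6 h8 h8' h2 => by
    have e7 : p.a7 = 0 := by
      have e := congrArg SG.a3 h2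
      have : s.σ p.a1 * p.a7 = 0 := by simp [e2, e6, h8, h8'] at e; grind
      simpa [h1] using this
    refine (cj_n h h8 h8' rfl).gd' (gR h e7 rfl rfl ?_ fun hx => h1 hx.2.2.2.2.2.2.2.2.1)
    rw [← nu_mul ⟨h8, h8'⟩ ⟨h8, h8'⟩, h2]
    ext <;> simp
  have k2 : ∀ p : SG s, p.a1 ≠ 0 → p.a2 = 0 → p.a8 = 0 → p.u8 = 0 → p * p = 1 → Gd' L p :=
    fun p h1 e2 h8 h8' h2 => (cj_u (w8 0 (p.a6 / p.a1)) rfl).gd'
      (k1 _ (by simpa using h1) (by simp [e2, h8]) (by simp [e2, h8, h8']; grind) (by simp [h8])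
        (by simp [h8, h8']; grind) (sq_conj h2 _))
  exact (cj_u (w8 (p.a2 / p.a1) 0) rfl).gd'
    (k2 _ (by simpa using h1) (by simp [h8]; grind) (by simp [h8]; grind)
      (by simp [h8, h8']; grind) (sq_conj h2 _))

/-- Involutions with `u₈ = 1`. -/
theorem gU (p : SG s) (h8 : p.a8 = 0) (h8' : p.u8 = 1) (h2 : p * p = 1) :
    ∃ e, Cj L p (w4 0 e * w8 0 1) := by
  have k0 : ∀ p : SG s, p.a8 = 0 → p.u8 = 1 → p * p = 1 → p.a1 = 0 ∧ p.a2 = 0 ∧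
      p.u2 = p.a4 * p.a6 ∧ p.a3 = p.a4 * p.a7 + p.a6 * s.σ p.a6 + p.u2 ∧ p.a4 = s.σ p.a6 := by
    intro p h8 h8' h2
    have e1 : p.a1 = 0 := by
      have e := congrArg SG.a6 h2
      simp [h8, h8'] at e; grind
    have e2 : p.a2 = 0 := by
      have e := congrArg SG.a7 h2
      simp [h8, h8', e1] at e; grind
    have e3 : p.u2 = p.a4 * p.a6 := by
      have e := congrArg SG.a5 h2
      simp [h8, h8', e1, e2] at e; grind
    have e4 : p.a3 = p.a4 * p.a7 + p.a6 * s.σ p.a6 + p.u2 := by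
      have e := congrArg SG.u6 h2
      simp [h8, h8', e1, e2] at e; grind
    refine ⟨e1, e2, e3, e4, ?_⟩
    have e5 : (p.a4 - s.σ p.a6) * s.σ (p.a4 - s.σ p.a6) = 0 := by
      have e := congrArg SG.u4 h2
      simp [h8, h8', e1, e2, e4, e3] at e
      simp
      grind
    exact sub_eq_zero.1 ((mul_eq_zero.1 e5).elim id (s.σ_eq_zero).1)
  obtain ⟨e1, e2, -, -, e5⟩ := k0 p h8 h8' h2
  obtain ⟨r, hr⟩ : ∃ r, x1 p.a6 * p * (x1 p.a6)⁻¹ = r := ⟨_, rfl⟩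
  have r8 : r.a8 = 0 := by simp [← hr, h8]
  have r8' : r.u8 = 1 := by simp [← hr, h8, h8']
  have r6 : r.a6 = 0 := by simp [← hr, h8, h8', e1, e2]; grind
  obtain ⟨f1, f2, f3, f4, f5⟩ := k0 r r8 r8' (hr ▸ sq_conj h2 _)
  obtain ⟨e, he⟩ := g8 (L := L) r.u4 r.a5 r.u6 r.a7
  refine ⟨e, (cj_u _ (hr.trans ?_)).trans he⟩
  ext <;> simp_all

theorem gS (h : RC L) {p : SG s} (h2 : p * p = 1) (hX : p ∉ Xs s) : Gd' L p := by
  have h8 : p.a8 = 0 := by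
    have e := congrArg SG.u8 h2
    have : p.a8 * s.σ p.a8 = 0 := by simp at e; grind
    simpa using this
  by_cases h8' : p.u8 = 0
  · exact gQ h h8 h8' h2 hX
  obtain ⟨c, hc⟩ := s.exists_wt' 2 1 (by norm_num) (inv_ne_zero h8')
  obtain ⟨e, he⟩ := gU (L := L) (dh (c : K) ((c⁻¹ : Kˣ) : K) p) (by simp [h8])
    (by rw [dh_u8, ← inv_mul_cancel₀ h8', ← hc, pow_one]) (by rw [dh_eq, ← dl_mul, h2, dl_one])
  exact .inr (.inr ⟨e, (cj_h h c rfl).trans he⟩)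

theorem small (h : OC L) {p d : SG s} {c : Kˣ} (e : L.u p * L.h c * L.u d = L.u d * (L.u p * L.h c)) :
    p * dh (c : K) ((c⁻¹ : Kˣ) : K) d = d * p := by
  rw [← h.u_inj, map_mul, map_mul, ← h.hu]
  calc L.u p * (L.h c * L.u d * (L.h c)⁻¹) = L.u p * L.h c * L.u d * (L.h c)⁻¹ := by group
    _ = _ := by rw [e]; group

theorem big (h : OC L) {p d w : SG s} {c : Kˣ} (h1 : (w * d * w⁻¹).a8 = 0) (h2 : (w * d * w⁻¹).u8 = 0)
    (e : L.u p * L.h c * L.n * L.u w * L.u d = L.u d * (L.u p * L.h c * L.n * L.u w)) :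
    p * dh (c : K) ((c⁻¹ : Kˣ) : K) (nu (w * d * w⁻¹)) = d * p := by
  rw [← h.u_inj, map_mul, map_mul, ← h.hu, ← h.nu _ h1 h2, map_mul, map_mul, map_inv]
  nth_rewrite 2 [← h.toRC.n_inv]
  calc L.u p * (L.h c * (L.n * (L.u w * L.u d * (L.u w)⁻¹) * L.n⁻¹) * (L.h c)⁻¹)
      = L.u p * L.h c * L.n * L.u w * L.u d * (L.h c * L.n * L.u w)⁻¹ := by group
    _ = _ := by rw [e]; group

theorem cent (h : OC L) {d : SG s} {T : Subgroup (SG s)} (h1 : ∀ p ∈ T, p * d = d * p)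
    (h2 : ∀ p (c : Kˣ), p * dh (c : K) ((c⁻¹ : Kˣ) : K) d = d * p → c = 1) (h3 : ∀ p, p * d = d * p → p ∈ T)
    (h4 : ∀ p c a v, L.u p * L.h c * L.n * L.u (w8 a v) * L.u d ≠
      L.u d * (L.u p * L.h c * L.n * L.u (w8 a v))) : L.C ⊓ 𝐂₁[L.u d] = L.im T := by
  refine le_antisymm ?_ ?_
  · rintro g ⟨hg, hc⟩
    have e := mem_c1.1 hc
    rcases h.toRC.bruhat hg with hB | ⟨p, c, a, v, rfl⟩
    · obtain ⟨p, c, rfl⟩ := h.toRC.mem_B.1 hB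
      obtain rfl := h2 p c (small h e)
      rw [map_one, mul_one] at e ⊢
      exact Lt.u_mem_im (h3 p (h.u_inj.1 (by rw [map_mul, map_mul, e])))
    · exact (h4 p c a v e).elim
  · rintro _ ⟨p, hp, rfl⟩
    exact ⟨L.u_mem_C p, mem_c1.2 (by rw [← map_mul, ← map_mul, h1 p hp])⟩

theorem cj_cent {c : G} (hc : c ∈ L.C) (x : G) : cj(c, L.C ⊓ 𝐂₁[x]) = L.C ⊓ 𝐂₁[c * x * c⁻¹] := by
  rw [cj_inf, cj_of_mem hc]
  congr 1
  ext y
  rw [mem_cj, mem_c1, mem_c1]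
  constructor
  · intro e
    calc y * (c * x * c⁻¹) = c * (c⁻¹ * y * c * x) * c⁻¹ := by group
      _ = _ := by rw [e]; group
  · intro e
    calc c⁻¹ * y * c * x = c⁻¹ * (y * (c * x * c⁻¹)) * c := by group
      _ = _ := by rw [e]; group

end K2

theorem RC.conj_V (h : RC L) {g : G} (hg : g ∈ L.V) (hX : g ∉ L.X) :
    ∃ c ∈ L.C, c * g * c⁻¹ = L.u (w6 0 1) ∨ c * g * c⁻¹ = L.u (x5 1) := by
  obtain ⟨p, hp, rfl⟩ := hg
  rcases K2.gV h hp fun hx => hX (Lt.u_mem_im hx) with ⟨c, hc, e⟩ | ⟨c, hc, e⟩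
  exacts [⟨c, hc, .inl e⟩, ⟨c, hc, .inr e⟩]

theorem OC.conj_inv (h : OC L) {g : G} (hg : g ∈ L.C) (h2 : g * g = 1) (hX : g ∉ L.X) :
    ∃ c ∈ L.C, c * g * c⁻¹ = L.u (w6 0 1) ∨ c * g * c⁻¹ = L.u (x5 1) ∨ c * g * c⁻¹ = L.u (x7 1) ∨
      ∃ e, c * g * c⁻¹ = L.u (w4 0 e * w8 0 1) := by
  have hp : IsPGroup 2 (zpowers g) := pg_iff.2 fun x hx => by
    obtain ⟨j, rfl⟩ := mem_zpowers_iff.1 hx
    exact ⟨1, by rw [← zpow_natCast, ← zpow_mul, mul_comm, zpow_mul, zpow_natCast, pow_one, pow_two,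
      h2, one_zpow]⟩
  obtain ⟨x, hx, hle⟩ := h.syl_C.conj_le hp (zpowers_le.2 hg)
  obtain ⟨p, ep⟩ := hle (conj_mem_cj (mem_zpowers g))
  have h3 : p * p = 1 := h.u_inj.1 (by rw [map_mul, ep, conj_mul, h2, map_one, mul_one, mul_inv_cancel])
  have h4 : p ∉ Xs s := fun hx' => hX (by
    have := conj_mem_of_norm' (norm_of_cent h.toRC.C_le_cent_X hx) (Lt.u_mem_im (L := L) hx')
    rwa [ep, show x⁻¹ * (x * g * x⁻¹) * x = g by group] at this)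
  have e : ∀ c : G, c * x * g * (c * x)⁻¹ = c * L.u p * c⁻¹ := fun c => by rw [ep]; group
  rcases K2.gS h.toRC h3 h4 with (⟨c, hc, e'⟩ | ⟨c, hc, e'⟩) | ⟨c, hc, e'⟩ | ⟨a, c, hc, e'⟩ <;>
    refine ⟨c * x, mul_mem hc hx, ?_⟩ <;> rw [e]
  exacts [.inl e', .inr (.inl e'), .inr (.inr (.inl e')), .inr (.inr (.inr ⟨a, e'⟩))]

theorem OC.cent2 (h : OC L) : L.C ⊓ 𝐂₁[L.u (w6 0 1)] = L.R := by
  refine K2.cent h (fun p hp => ?_) (fun p c e => ?_) (fun p e => ?_) fun p c a v e => ?_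
  · ext <;> simp_all <;> grind
  · have e1 := congrArg SG.u6 e
    exact s.eq_one_of_wt' 1 1 (by norm_num) (by simp at e1 ⊢; grind)
  · have e1 := congrArg SG.u4 e
    simp at e1 ⊢
    grind
  · have e1 := congrArg SG.u2 (K2.big h (by simp; grind) (by simp; grind) e)
    simp at e1

theorem OC.cent3 (h : OC L) : L.C ⊓ 𝐂₁[L.u (x5 1)] = L.im (T3s s) := by
  refine K2.cent h (fun p hp => ?_) (fun p c e => ?_) (fun p e => ?_) fun p c a v e => ?_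
  · ext <;> simp_all <;> grind
  · have e1 := congrArg SG.a5 e
    have : (c : K) = 1 := by simp at e1; grind
    exact Units.ext this
  · have e1 := congrArg SG.u4 e
    have e2 := congrArg SG.u6 e
    simp at e1 e2 ⊢
    grind
  · have e0 := K2.big h (by simp; grind) (by simp; grind) e
    rw [show (w8 a v * x5 1 * (w8 a v)⁻¹ : SG s) = x5 1 * w6 0 a by ext <;> simp <;> grind] at e0
    have e1 := congrArg SG.u2 e0
    have e2 := congrArg SG.a3 e0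
    simp at e1 e2
    simp [e1] at e2

theorem OC.cent4 (h : OC L) : L.C ⊓ 𝐂₁[L.u (x7 1)] = L.im (T4s s) := by
  refine K2.cent h (fun p hp => ?_) (fun p c e => ?_) (fun p e => ?_) fun p c a v e => ?_
  · ext <;> simp_all <;> grind
  · have e1 := congrArg SG.a7 e
    exact s.eq_one_of_wt' 1 1 (by norm_num) (by simp at e1 ⊢; grind)
  · have e1 : p.a1 = 0 := by
      have e1 := congrArg SG.a3 e
      have : s.σ p.a1 = 0 := by simp at e1; grind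
      simpa using this
    have e2 : p.a2 = 0 := by
      have e2 := congrArg SG.a5 e
      have : s.σ p.a2 = 0 := by simp [e1] at e2; grind
      simpa using this
    have e3 := congrArg SG.u4 e
    have e4 := congrArg SG.u6 e
    simp [e1, e2] at e3 e4 ⊢
    grind
  · have e1 := congrArg SG.a1 (K2.big h (by simp; grind) (by simp; grind) e)
    simp at e1

theorem OC.cent5 (h : OC L) (e : K) : L.C ⊓ 𝐂₁[L.u (w4 0 e * w8 0 1)] = L.im (T5s s) := by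
  refine K2.cent h (fun p hp => ?_) (fun p c e => ?_) (fun p e => ?_) fun p c a v e0 => ?_
  · ext <;> simp_all <;> grind
  · have e1 := congrArg SG.u8 e
    exact s.eq_one_of_wt' 2 1 (by norm_num) (by simp at e1 ⊢; grind)
  · have e1 : p.a1 = 0 := by
      have e1 := congrArg SG.a6 e
      simp at e1; grind
    have e2 : p.a2 = 0 := by
      have e2 := congrArg SG.a7 e
      simp [e1] at e2; grind
    have e3 := congrArg SG.a5 e
    have e4 := congrArg SG.u6 e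
    simp [e1, e2] at e3 e4 ⊢
    grind
  · have e1 : L.u (w8 a v) * L.u (w4 0 e * w8 0 1) = L.u (w4 0 e * w8 0 1) * L.u (w8 a v) := by
      rw [← map_mul, ← map_mul]
      congr 1
      ext <;> simp <;> grind
    have e2 : L.n * L.u (w4 0 e * w8 0 1) * L.n ∈ L.B := by
      have : L.n * L.u (w4 0 e * w8 0 1) * L.n =
          (L.u p * L.h c)⁻¹ * L.u (w4 0 e * w8 0 1) * (L.u p * L.h c) := by
        nth_rewrite 2 [← h.toRC.n_inv]
        calc L.n * L.u (w4 0 e * w8 0 1) * L.n⁻¹ = (L.u p * L.h c)⁻¹ * (L.u p * L.h c * L.n *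
            (L.u (w4 0 e * w8 0 1) * L.u (w8 a v))) * (L.n * L.u (w8 a v))⁻¹ := by group
          _ = _ := by rw [← e1, ← mul_assoc _ (L.u (w8 a v)), e0]; group
      have hb := mul_mem (L.u_mem_B p) (L.h_mem_B c)
      exact this ▸ mul_mem (mul_mem (inv_mem hb) (L.u_mem_B _)) hb
    have e3 : L.n * L.u (w4 0 e * w8 0 1) * L.n =
        L.n * L.u (w4 0 e) * L.n * (L.n * L.u (w8 0 1) * L.n) := by
      rw [map_mul]
      calc L.n * (L.u (w4 0 e) * L.u (w8 0 1)) * L.n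
          = L.n * L.u (w4 0 e) * (L.n * L.n) * L.u (w8 0 1) * L.n := by rw [h.nn]; group
        _ = _ := by group
    rw [e3, h.nu _ rfl rfl, h.r1 0 1 1 (by simp), mul_mem_cancel_left (L.u_mem_B _),
      mul_mem_cancel_right (L.u_mem_B _),
      mul_mem_cancel_left (mul_mem (L.u_mem_B _) (L.h_mem_B _))] at e2
    exact h.n_not_mem_B e2

/-- The centralizer in `C` of an involution outside `X` is a `2`-group of order at most `q ^ 11`. -/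
theorem OC.pg_cent (h : OC L) {g : G} (hg : g ∈ L.C) (h2 : g * g = 1) (hX : g ∉ L.X) :
    IsPGroup 2 ↥(L.C ⊓ 𝐂₁[g]) ∧ Nat.card ↥(L.C ⊓ 𝐂₁[g]) < Nat.card K ^ 12 := by
  obtain ⟨c, hc, e⟩ := h.conj_inv hg h2 hX
  have key : ∀ T : Subgroup (SG s), ∀ k < 12, Nat.card T = Nat.card K ^ k →
      L.C ⊓ 𝐂₁[c * g * c⁻¹] = L.im T →
      IsPGroup 2 ↥(L.C ⊓ 𝐂₁[g]) ∧ Nat.card ↥(L.C ⊓ 𝐂₁[g]) < Nat.card K ^ 12 := fun T k hk e1 e2 => by
    rw [← K2.cj_cent hc] at e2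
    constructor
    · have := pg_cj (h.toRC.pg_S.to_le (L.im_le_S T)) c⁻¹
      rwa [← e2, cj_inv_cj] at this
    · rw [← card_cj _ c, e2, h.card_im, e1]
      exact Nat.pow_lt_pow_right Finite.one_lt_card hk
  rcases e with e | e | e | ⟨a, e⟩
  · exact key _ 11 (by norm_num) card_Rs (e ▸ h.cent2)
  · exact key _ 10 (by norm_num) card_T3s (e ▸ h.cent3)
  · exact key _ 8 (by norm_num) card_T4s (e ▸ h.cent4)
  · exact key _ 8 (by norm_num) card_T5s (e ▸ h.cent5 a)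

end Cfsg.Agent.Og
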