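import Mathlib
import Cfsg.Agent.Og.K2
import Cfsg.Agent.Og.KitS

/-! The Bruhat decomposition of the group given by the relations `RF`. -/

set_option autoImplicit false
set_option linter.unusedSectionVars false

namespace Cfsg.Agent.Og

open Cfsg.Agent.Loc.Mss Subgroup SG
open scoped commutatorElement

variable {K : Type*} [Field K] [CharP K 2] [Finite K] {s : Sg K} {G : Type*} [Group G] [Finite G]

namespace Ft

variable (F : Ft s G)

/-- The Borel subgroup. -/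
def BF : Subgroup G := F.lt.S ⊔ F.H
/-- The two reflections. -/
def gn (b : Bool) : G := if b then F.n else F.m
/-- The alternating word of length `k` ending in `gn b`. -/
def aw : Bool → ℕ → G
  | _, 0 => 1
  | b, k + 1 => aw (!b) k * F.gn b

@[simp] theorem gn_true : F.gn true = F.n := rfl
@[simp] theorem gn_false : F.gn false = F.m := rfl
@[simp] theorem aw_zero (b : Bool) : F.aw b 0 = 1 := by cases b <;> rfl
theorem aw_succ (b : Bool) (k : ℕ) : F.aw b (k + 1) = F.aw (!b) k * F.gn b := by cases b <;> rfl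

theorem u_mem_BF (p : SG s) : F.u p ∈ F.BF := (le_sup_left : F.lt.S ≤ F.BF) ⟨p, rfl⟩
theorem t_mem_BF (x : Kˣ × Kˣ) : F.t x ∈ F.BF := (le_sup_right : F.H ≤ F.BF) ⟨x, rfl⟩
theorem BF_le {M : Subgroup G} (hu : ∀ p, F.u p ∈ M) (ht : ∀ x, F.t x ∈ M) : F.BF ≤ M :=
  sup_le (by rintro _ ⟨p, rfl⟩; exact hu p) (by rintro _ ⟨p, rfl⟩; exact ht p)

/-- The union of the double cosets. -/
def InC (g : G) : Prop := ∃ (b : Bool) (k : ℕ), k ≤ 8 ∧ ∃ b1 ∈ F.BF, ∃ b2 ∈ F.BF, g = b1 * F.aw b k * b2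

end Ft

variable (s) in
/-- The simple root subgroups. -/
def Ur (b : Bool) : Subgroup (SG s) := if b then U8s s else U1s s

variable (s) in
/-- Their complements. -/
def Sr (b : Bool) : Subgroup (SG s) := if b then Qs s else Rs s

variable {F : Ft s G}

namespace RF0

variable (h : RF0 F)
include h

theorem nn : F.n * F.n = 1 := h.rc.nn
theorem n_u {p : SG s} (hp : p ∈ Qs s) : F.n * F.u p * F.n = F.u (nu p) := h.rc.nu p hp.1 hp.2
theorem m_u {p : SG s} (hp : p ∈ Rs s) : F.m * F.u p * F.m = F.u (SG.mu p) := h.mu p hp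
theorem gg (b : Bool) : F.gn b * F.gn b = 1 := by cases b; exacts [h.mm, h.nn]
theorem g_inv (b : Bool) : (F.gn b)⁻¹ = F.gn b := inv_eq_of_mul_eq_one_right (h.gg b)
theorem n_inv : F.n⁻¹ = F.n := h.g_inv true
theorem m_inv : F.m⁻¹ = F.m := h.g_inv false

theorem t_norm {A : Subgroup (SG s)} (hA : ∀ (α β : Kˣ), ∀ p ∈ A, dl (α : K) (β : K) p ∈ A) :
    F.H ≤ 𝐍[F.lt.im A] := norm_of_forall_cj_le (by
  rintro _ ⟨⟨α, β⟩, rfl⟩
  refine cj_le_iff.2 ?_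
  rintro _ ⟨p, hp, rfl⟩
  exact ⟨_, hA α β p hp, (h.tu α β p).symm⟩)

theorem BF_norm {A : Subgroup (SG s)} (hn : ∀ p, ∀ a ∈ A, p * a * p⁻¹ ∈ A)
    (hA : ∀ (α β : Kˣ), ∀ p ∈ A, dl (α : K) (β : K) p ∈ A) : F.BF ≤ 𝐍[F.lt.im A] :=
  sup_le (norm_of_forall_cj_le (by
    rintro _ ⟨r, rfl⟩
    refine cj_le_iff.2 ?_
    rintro _ ⟨p, hp, rfl⟩
    exact ⟨_, hn r p hp, by simp⟩)) (h.t_norm hA)

theorem BF_norm_S : F.BF ≤ 𝐍[F.lt.S] := by
  rw [← F.lt.im_top]; exact h.BF_norm (fun _ _ _ => mem_top _) fun _ _ _ _ => mem_top _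

theorem BF_norm_X : F.BF ≤ 𝐍[F.lt.X] :=
  h.BF_norm (fun p a ha => by
    obtain ⟨c, rfl⟩ := mem_Xs_iff.1 ha
    rw [w4_comm, mul_inv_cancel_right]; exact ha) fun α β p hp => by simp_all

theorem mem_BF {g : G} : g ∈ F.BF ↔ ∃ p x, g = F.u p * F.t x := by
  rw [Ft.BF, mem_sup_norm (le_sup_right.trans h.BF_norm_S)]
  exact ⟨fun ⟨_, ⟨p, rfl⟩, _, ⟨x, rfl⟩, e⟩ => ⟨p, x, e.symm⟩, fun ⟨p, x, e⟩ => ⟨_, ⟨p, rfl⟩, _, ⟨x, rfl⟩, e.symm⟩⟩

theorem g_t (b : Bool) (x : Kˣ × Kˣ) : ∃ y, F.gn b * F.t x * F.gn b = F.t y := by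
  cases b; exacts [⟨_, h.mt x.1 x.2⟩, ⟨_, h.nt x.1 x.2⟩]

theorem aw_t (b : Bool) (k : ℕ) (x : Kˣ × Kˣ) : ∃ y, F.aw b k * F.t x * (F.aw b k)⁻¹ = F.t y := by
  induction k generalizing b x with
  | zero => exact ⟨x, by simp⟩
  | succ k ih =>
    obtain ⟨y, hy⟩ := h.g_t b x
    obtain ⟨z, hz⟩ := ih (!b) y
    exact ⟨z, by rw [← hz, ← hy, F.aw_succ, mul_inv_rev, h.g_inv]; group⟩

theorem g_u (b : Bool) {p : SG s} (hp : p ∈ Sr s b) : F.gn b * F.u p * F.gn b ∈ F.BF := by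
  cases b
  · exact (h.m_u hp).symm ▸ F.u_mem_BF _
  · exact (h.n_u hp).symm ▸ F.u_mem_BF _

/-- `B = U_r (S_r H)`. -/
theorem split (b : Bool) {g : G} (hg : g ∈ F.BF) :
    ∃ y ∈ Ur s b, ∃ g' ∈ F.BF, g * F.gn b = F.u y * F.gn b * g' := by
  obtain ⟨p, x, rfl⟩ := h.mem_BF.1 hg
  obtain ⟨y, hy, r, hr, rfl⟩ : ∃ y ∈ Ur s b, ∃ r ∈ Sr s b, p = y * r := by
    cases b
    · obtain ⟨r, hr, e⟩ := exists_mul_R p
      exact ⟨_, mem_U1s_iff.2 ⟨_, rfl⟩, r, hr, e⟩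
    · obtain ⟨r, hr, e⟩ := exists_Q_mul p
      refine ⟨w8 p.a8 p.u8, mem_U8s_iff.2 ⟨_, _, rfl⟩, _, Qs_conj (w8 p.a8 p.u8)⁻¹ r hr, ?_⟩
      rw [inv_inv, ← mul_assoc, mul_inv_cancel_left, ← e]
  obtain ⟨z, hz⟩ := h.g_t b x
  refine ⟨y, hy, _, mul_mem (h.g_u b hr) (F.t_mem_BF z), ?_⟩
  rw [← hz, map_mul]
  calc F.u y * F.u r * F.t x * F.gn b
      = F.u y * (F.gn b * F.gn b) * F.u r * (F.gn b * F.gn b) * F.t x * F.gn b := by rw [h.gg]; group
    _ = _ := by group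

/-- The rank one relation. -/
theorem rk1 (b : Bool) {y : SG s} (hy : y ∈ Ur s b) (h1 : y ≠ 1) :
    ∃ y1 ∈ Ur s b, ∃ x, ∃ y2 ∈ Ur s b, F.gn b * F.u y * F.gn b = F.u y1 * F.t x * F.gn b * F.u y2 := by
  cases b
  · obtain ⟨a, rfl⟩ := mem_U1s_iff.1 hy
    have a0 : a ≠ 0 := fun e => h1 (by rw [e]; rfl)
    have x2 : F.u (x1 1) * F.u (x1 1) = 1 := by
      rw [← map_mul, show (x1 1 * x1 1 : SG s) = 1 by ext <;> simp [CharTwo.add_self_eq_zero], map_one]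
    have e1 : F.m * F.u (x1 1) * F.m = F.u (x1 1) * F.m * F.u (x1 1) := by
      have := h.m3
      rw [pow_succ, pow_two] at this
      calc F.m * F.u (x1 1) * F.m = F.m * F.u (x1 1) * F.m * (F.u (x1 1) * F.m * F.u (x1 1)) *
            (F.u (x1 1) * F.m * F.u (x1 1))⁻¹ := by group
        _ = F.m * F.u (x1 1) * (F.m * F.u (x1 1)) * (F.m * F.u (x1 1)) *
            (F.u (x1 1) * F.m * F.u (x1 1))⁻¹ := by group
        _ = (F.u (x1 1) * F.m * F.u (x1 1))⁻¹ := by rw [this, one_mul]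
        _ = _ := by rw [mul_inv_rev, mul_inv_rev, inv_eq_of_mul_eq_one_right x2, h.m_inv, mul_assoc]
    set α := Units.mk0 a a0
    have e2 : F.t (α, 1) * F.u (x1 1) * (F.t (α, 1))⁻¹ = F.u (x1 a) := by
      rw [h.tu]; congr 1; ext <;> simp [α]
    have e3 := h.mt α 1
    obtain ⟨z, e4⟩ := h.g_t false (α⁻¹, α * 1)⁻¹
    have e5 := h.tu α⁻¹ (α * 1) (x1 1)
    refine ⟨dl (α⁻¹ : Kˣ) (α * 1 : Kˣ) (x1 1), by simp [Ur], (α⁻¹, α * 1) * z,
      dl (α⁻¹ : Kˣ) (α * 1 : Kˣ) (x1 1), by simp [Ur], ?_⟩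
    rw [map_mul, ← e4, ← e5, map_inv, Ft.gn_false, ← e2]
    generalize F.t (α⁻¹, α * 1) = t' at *
    calc F.m * (F.t (α, 1) * F.u (x1 1) * (F.t (α, 1))⁻¹) * F.m
        = F.m * F.t (α, 1) * (F.m * F.m) * F.u (x1 1) * (F.m⁻¹ * F.m) * (F.t (α, 1))⁻¹ * F.m⁻¹ := by
          rw [h.mm, h.m_inv, h.mm]; group
      _ = F.m * F.t (α, 1) * F.m * (F.m * F.u (x1 1) * F.m) * (F.m * F.t (α, 1) * F.m)⁻¹ := by
          nth_rewrite 1 [h.m_inv]; rw [mul_inv_rev, mul_inv_rev, h.m_inv]; group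
      _ = t' * F.u (x1 1) * F.m * (t'⁻¹ * t') * F.u (x1 1) * t'⁻¹ := by rw [e3, e1]; group
      _ = t' * F.u (x1 1) * F.m * (t'⁻¹ * (F.m * F.m) * t') * F.u (x1 1) * t'⁻¹ := by rw [h.mm]; group
      _ = _ := by group
  · obtain ⟨a, v, rfl⟩ := mem_U8s_iff.1 hy
    have N0 : a ^ 2 * s.σ a + a * v + s.σ v ≠ 0 := fun e => h1 (by
      obtain ⟨rfl, rfl⟩ := s.nrm_eq_zero e; rfl)
    exact ⟨_, mem_U8s_iff.2 ⟨_, _, rfl⟩, _, _, mem_U8s_iff.2 ⟨_, _, rfl⟩, h.rc.r1 a v (Units.mk0 _ N0) rfl⟩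

theorem chain {b : Bool} {j : ℕ} {A A' : Subgroup (SG s)} (h1 : ∀ p ∈ A, ∃ p' ∈ A', F.gn b * F.u p * F.gn b = F.u p')
    (h2 : ∀ k ≤ j, ∀ p ∈ A', F.aw (!b) k * F.u p * (F.aw (!b) k)⁻¹ ∈ F.lt.S) :
    ∀ k ≤ j + 1, ∀ p ∈ A, F.aw b k * F.u p * (F.aw b k)⁻¹ ∈ F.lt.S := by
  rintro (_ | k) hk p hp
  · simpa using F.lt.u_mem_S p
  · obtain ⟨p', hp', e⟩ := h1 p hp
    have := h2 k (by omega) p' hp'
    rw [← e] at this
    rw [F.aw_succ, mul_inv_rev, h.g_inv]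
    simpa [mul_assoc] using this

theorem stepn {A A' : Subgroup (SG s)} (h1 : ∀ p ∈ A, p ∈ Qs s ∧ nu p ∈ A') :
    ∀ p ∈ A, ∃ p' ∈ A', F.gn true * F.u p * F.gn true = F.u p' := fun p hp => ⟨_, (h1 p hp).2, h.n_u (h1 p hp).1⟩

theorem stepm {A A' : Subgroup (SG s)} (h1 : ∀ p ∈ A, p ∈ Rs s ∧ SG.mu p ∈ A') :
    ∀ p ∈ A, ∃ p' ∈ A', F.gn false * F.u p * F.gn false = F.u p' := fun p hp => ⟨_, (h1 p hp).2, h.m_u (h1 p hp).1⟩

/-- A word of length at most seven not ending in `r` sends `U_r` into `S`. -/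
theorem aw_U (b : Bool) {k : ℕ} (hk : k ≤ 7) {p : SG s} (hp : p ∈ Ur s b) :
    F.aw (!b) k * F.u p * (F.aw (!b) k)⁻¹ ∈ F.lt.S := by
  have z : ∀ (c : Bool) (A : Subgroup (SG s)), ∀ k ≤ 0, ∀ p ∈ A, F.aw c k * F.u p * (F.aw c k)⁻¹ ∈ F.lt.S :=
    fun c A k hk p _ => by
      rw [Nat.le_zero.1 hk]; simpa using F.lt.u_mem_S p
  cases b
  · refine h.chain (h.stepn (A := U1s s) (A' := U7s s) fun p hp => by simp_all) ?_ k hk p hp
    refine h.chain (h.stepm (A' := U3s s) fun p hp => by simp_all) ?_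
    refine h.chain (h.stepn (A' := U5s s) fun p hp => by simp_all) ?_
    refine h.chain (h.stepm (A' := U5s s) fun p hp => by simp_all) ?_
    refine h.chain (h.stepn (A' := U3s s) fun p hp => by simp_all) ?_
    refine h.chain (h.stepm (A' := U7s s) fun p hp => by simp_all) ?_
    exact h.chain (h.stepn (A' := U1s s) fun p hp => by simp_all) (z _ _)
  · refine h.chain (h.stepm (A := U8s s) (A' := U2s s) fun p hp => by simp_all) ?_ k hk p hp
    refine h.chain (h.stepn (A' := U6s s) fun p hp => by simp_all) ?_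
    refine h.chain (h.stepm (A' := U4s s) fun p hp => by simp_all) ?_
    refine h.chain (h.stepn (A' := U4s s) fun p hp => by simp_all) ?_
    refine h.chain (h.stepm (A' := U6s s) fun p hp => by simp_all) ?_
    refine h.chain (h.stepn (A' := U2s s) fun p hp => by simp_all) ?_
    exact h.chain (h.stepm (A' := U8s s) fun p hp => by simp_all) (z _ _)

theorem aw_U' (b : Bool) {k : ℕ} (hk : k ≤ 7) {p : SG s} (hp : p ∈ Ur s b) :
    F.aw (!b) k * F.u p * (F.aw (!b) k)⁻¹ ∈ F.BF := (le_sup_left : F.lt.S ≤ F.BF) (h.aw_U b hk hp)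

theorem aw_t' (b : Bool) (k : ℕ) (x : Kˣ × Kˣ) : F.aw b k * F.t x * (F.aw b k)⁻¹ ∈ F.BF := by
  obtain ⟨y, hy⟩ := h.aw_t b k x
  exact hy ▸ F.t_mem_BF y

/-- A non-empty word in `B` forces a reflection into `B`. -/
theorem gn_mem (b : Bool) {k : ℕ} (hk : k ≤ 7) (hw : F.aw b (k + 1) ∈ F.BF) : F.gn b ∈ F.BF := by
  obtain ⟨y, hy, h1⟩ : ∃ y ∈ Ur s b, y ≠ 1 := by
    cases b
    · exact ⟨x1 1, mem_U1s_iff.2 ⟨_, rfl⟩, fun e => one_ne_zero (congrArg SG.a1 e)⟩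
    · exact ⟨w8 1 0, mem_U8s_iff.2 ⟨_, _, rfl⟩, fun e => one_ne_zero (congrArg SG.a8 e)⟩
  obtain ⟨y1, -, x, y2, -, e⟩ := h.rk1 b hy h1
  have h2 := mul_mem (mul_mem (inv_mem hw) (h.aw_U' b hk hy)) hw
  have : (F.aw b (k + 1))⁻¹ * (F.aw (!b) k * F.u y * (F.aw (!b) k)⁻¹) * F.aw b (k + 1) =
      F.u y1 * F.t x * F.gn b * F.u y2 := by
    rw [← e, F.aw_succ, mul_inv_rev, h.g_inv]; group
  rw [this, mul_mem_cancel_right (F.u_mem_BF _), mul_mem_cancel_left (mul_mem (F.u_mem_BF _) (F.t_mem_BF _))] at h2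
  exact h2

theorem gn_not_mem (hi : Function.Injective F.u) (b : Bool) : F.gn b ∉ F.BF := fun hb => by
  cases b
  · have h1 := h.BF_norm (A := Qs s) Qs_conj (fun α β p hp => by simp_all) hb
    have h2 := conj_mem_of_norm h1 (Lt.u_mem_im (L := F.lt) (p := w2 0 1) (by simp))
    rw [h.g_inv, Ft.gn_false, Ft.lt_u, h.m_u (by simp)] at h2
    have := (mem_map_iff_mem hi).1 h2
    simp at this
  · have h1 := h.BF_norm (A := Rs s) Rs_conj (fun α β p hp => by simp_all) hb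
    have h2 := conj_mem_of_norm h1 (Lt.u_mem_im (L := F.lt) (p := x7 1) (by simp))
    rw [h.g_inv, Ft.gn_true, Ft.lt_u, h.n_u (by simp)] at h2
    have := (mem_map_iff_mem hi).1 h2
    simp at this

theorem aw_not_mem (hi : Function.Injective F.u) (b : Bool) {k : ℕ} (hk : k ≤ 7) : F.aw b (k + 1) ∉ F.BF :=
  fun hw => h.gn_not_mem hi b (h.gn_mem b hk hw)

theorem ut_inj (hi : Function.Injective F.u) {p : SG s} {x : Kˣ × Kˣ} (e : F.u p * F.t x = 1) : p = 1 ∧ x = 1 := by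
  obtain ⟨α, β⟩ := x
  have e1 : F.t (α, β) = F.u p⁻¹ := by rw [map_inv]; exact eq_inv_of_mul_eq_one_right e
  have k : ∀ r, dl (α : K) (β : K) r = p⁻¹ * r * p⁻¹⁻¹ := fun r => hi (by
    rw [← h.tu, e1, map_mul, map_mul, map_inv F.u p⁻¹])
  have a1 := congrArg SG.a1 (k (x1 1))
  have a8 := congrArg SG.a8 (k (w8 1 0))
  rw [conj_a1] at a1
  have hα : α = 1 := Units.ext (by simpa using a1)
  have hβ : β = 1 := Units.ext (by
    simp only [dl_a8, w8_a8, mul_one, inv_inv, mul_a8, inv_a8] at a8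
    rw [a8, add_right_comm, CharTwo.add_self_eq_zero, zero_add, Units.val_one])
  subst hα hβ
  rw [show ((1, 1) : Kˣ × Kˣ) = 1 from rfl, map_one, mul_one] at e
  exact ⟨hi (e.trans (map_one _).symm), rfl⟩

end RF0

namespace RF

variable (h : RF F)
include h

theorem aw_eight (b : Bool) : F.aw (!b) 8 = F.aw b 8 := by
  have e : (F.n * F.m) ^ 4 = (F.m * F.n) ^ 4 := by
    have h1 : (F.n * F.m) ^ 4 * (F.n * F.m) ^ 4 = 1 := by rw [← pow_add]; exact h.br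
    rw [eq_inv_of_mul_eq_one_left h1, ← inv_pow, mul_inv_rev, h.n_inv, h.m_inv]
  have e1 : F.aw true 8 = (F.m * F.n) ^ 4 := by simp [Ft.aw_succ, pow_succ, mul_assoc]
  have e2 : F.aw false 8 = (F.n * F.m) ^ 4 := by simp [Ft.aw_succ, pow_succ, mul_assoc]
  cases b
  · exact e1.trans (e.symm.trans e2.symm)
  · exact e2.trans (e.trans e1.symm)

theorem inC_g (c : Bool) {g : G} (hg : F.InC g) : F.InC (g * F.gn c) := by
  obtain ⟨b, k, hk, b1, h1, b2, h2, rfl⟩ := hg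
  obtain ⟨y, hy, g', hg', e⟩ := h.split c h2
  rw [mul_assoc, e]
  have A : ∀ k ≤ 7, F.InC (b1 * F.aw (!c) k * (F.u y * F.gn c * g')) := fun k hk =>
    ⟨c, k + 1, by omega, _, mul_mem h1 (h.aw_U' c hk hy), g', hg', by rw [F.aw_succ]; group⟩
  have B : ∀ k ≤ 7, F.InC (b1 * F.aw c (k + 1) * (F.u y * F.gn c * g')) := fun k hk => by
    by_cases y1 : y = 1
    · refine ⟨!c, k, by omega, b1, h1, g', hg', ?_⟩
      rw [y1, map_one, one_mul, F.aw_succ]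
      calc b1 * (F.aw (!c) k * F.gn c) * (F.gn c * g') = b1 * F.aw (!c) k * (F.gn c * F.gn c) * g' := by group
        _ = _ := by rw [h.gg, mul_one]
    · obtain ⟨y1, hy1, x, y2, -, e'⟩ := h.rk1 c hy y1
      refine ⟨c, k + 1, by omega, _, mul_mem (mul_mem h1 (h.aw_U' c hk hy1)) (h.aw_t' (!c) k x), _,
        mul_mem (F.u_mem_BF y2) hg', ?_⟩
      rw [F.aw_succ]
      calc b1 * (F.aw (!c) k * F.gn c) * (F.u y * F.gn c * g')
          = b1 * F.aw (!c) k * (F.gn c * F.u y * F.gn c) * g' := by group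
        _ = _ := by rw [e']; group
  rcases k with _ | k
  · simpa using A 0 (by omega)
  by_cases hb : b = c
  · exact hb ▸ B k (by omega)
  obtain rfl : b = !c := by cases b <;> cases c <;> simp_all
  by_cases k7 : k = 7
  · rw [k7, h.aw_eight]; exact B 7 le_rfl
  · exact A (k + 1) (by omega)

/-- The Bruhat decomposition. -/
theorem bruhat {g : G} (hg : g ∈ F.G0) : F.InC g := by
  let M : Subgroup G :=
    { carrier := {g | ∀ x, F.InC x ↔ F.InC (x * g)}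
      one_mem' := fun x => by rw [mul_one]
      mul_mem' := fun {a b} ha hb x => by rw [ha x, hb, mul_assoc]
      inv_mem' := fun {a} ha x => by rw [ha (x * a⁻¹), inv_mul_cancel_right] }
  have hB : ∀ b ∈ F.BF, ∀ x, F.InC x → F.InC (x * b) := fun b hb x ⟨c, k, hk, b1, h1, b2, h2, e⟩ =>
    ⟨c, k, hk, b1, h1, b2 * b, mul_mem h2 hb, by rw [e, mul_assoc]⟩
  have hM : ∀ b ∈ F.BF, b ∈ M := fun b hb x =>
    ⟨hB b hb x, fun k => by simpa using hB b⁻¹ (inv_mem hb) _ k⟩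
  have hg' : ∀ c, F.gn c ∈ M := fun c x => ⟨h.inC_g c, fun k => by
    have := h.inC_g c k
    rwa [mul_assoc, h.gg, mul_one] at this⟩
  have := (F.G0_le (fun p => hM _ (F.u_mem_BF p)) (fun x => hM _ (F.t_mem_BF x)) (hg' true) (hg' false) hg 1).1
    ⟨true, 0, by omega, 1, one_mem _, 1, one_mem _, by simp⟩
  rwa [one_mul] at this

/-- A word ending in `m` moves every involution of `X` out of `X`. -/
theorem aw_X (hi : Function.Injective F.u) {j : ℕ} (hj : j ≤ 6) {x : G} (hx : x ∈ F.lt.X) (h1 : x ≠ 1) :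
    F.aw false (j + 1) * x * (F.aw false (j + 1))⁻¹ ∉ F.lt.X := fun k => by
  obtain ⟨p, hp, rfl⟩ := hx
  obtain ⟨a, rfl⟩ := mem_Xs_iff.1 hp
  have a0 : a ≠ 0 := fun e => h1 (by rw [e]; exact map_one F.u)
  have e1 : F.m * F.u (w4 0 a) * F.m = F.u (w6 0 a) := by rw [h.m_u (by simp)]; congr 1; ext <;> simp
  have e2 : F.n * F.u (w6 0 a) * F.n = F.u (w2 0 a) := by rw [h.n_u (by simp)]; congr 1; ext <;> simp
  have e3 : F.m * F.u (w2 0 a) * F.m = F.u (w8 0 a) := by rw [h.m_u (by simp)]; congr 1; ext <;> simp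
  have f1 : F.aw false 1 * F.u (w4 0 a) * (F.aw false 1)⁻¹ = F.u (w6 0 a) := by
    rw [← e1]; simp [Ft.aw_succ, h.m_inv]
  have f2 : F.aw false 2 * F.u (w4 0 a) * (F.aw false 2)⁻¹ = F.u (w2 0 a) := by
    rw [← e2, ← e1]; simp [Ft.aw_succ, h.m_inv, h.n_inv, mul_assoc]
  have f3 : F.aw false 3 * F.u (w4 0 a) * (F.aw false 3)⁻¹ = F.u (w8 0 a) := by
    rw [← e3, ← e2, ← e1]; simp [Ft.aw_succ, h.m_inv, h.n_inv, mul_assoc]
  have big : ∀ i ≤ 3, F.aw false (i + 4) * F.u (w4 0 a) * (F.aw false (i + 4))⁻¹ ∈ F.lt.X →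
      F.aw false i * F.n * (F.aw false i)⁻¹ ∈ F.BF := fun i hi3 k => by
    obtain ⟨y1, hy1, x, y2, hy2, e⟩ := h.rk1 true (y := w8 0 a) (mem_U8s_iff.2 ⟨_, _, rfl⟩)
      fun e => a0 (congrArg SG.u8 e)
    have e4 : F.aw false (i + 4) * F.u (w4 0 a) * (F.aw false (i + 4))⁻¹ =
        F.aw false i * (F.n * F.u (w8 0 a) * F.n) * (F.aw false i)⁻¹ := by
      rw [← e3, ← e2, ← e1]; simp [Ft.aw_succ, h.m_inv, h.n_inv, mul_assoc]
    rw [Ft.gn_true] at e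
    rw [e4, e] at k
    have k' : _ ∈ F.BF := (le_sup_left : F.lt.S ≤ F.BF) (F.lt.im_le_S _ k)
    have c1 : F.aw false i * F.u y1 * (F.aw false i)⁻¹ ∈ F.BF := h.aw_U' true (by omega) hy1
    have c2 : F.aw false i * F.u y2 * (F.aw false i)⁻¹ ∈ F.BF := h.aw_U' true (by omega) hy2
    have : F.aw false i * (F.u y1 * F.t x * F.n * F.u y2) * (F.aw false i)⁻¹ =
        F.aw false i * F.u y1 * (F.aw false i)⁻¹ * (F.aw false i * F.t x * (F.aw false i)⁻¹) *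
          (F.aw false i * F.n * (F.aw false i)⁻¹) * (F.aw false i * F.u y2 * (F.aw false i)⁻¹) := by group
    rwa [this, mul_mem_cancel_right c2, mul_mem_cancel_left (mul_mem c1 (h.aw_t' _ _ _))] at k'
  rw [Ft.lt_u] at k
  interval_cases j
  · rw [f1] at k; have := (mem_map_iff_mem hi).1 k; simp [a0] at this
  · rw [f2] at k; have := (mem_map_iff_mem hi).1 k; simp [a0] at this
  · rw [f3] at k; have := (mem_map_iff_mem hi).1 k; simp [a0] at this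
  · exact h.aw_not_mem hi true (k := 0) (by omega) (by simpa [Ft.aw_succ] using big 0 (by omega) k)
  · exact h.aw_not_mem hi false (k := 2) (by omega) (by simpa [Ft.aw_succ, h.m_inv] using big 1 (by omega) k)
  · exact h.aw_not_mem hi true (k := 4) (by omega)
      (by simpa [Ft.aw_succ, h.m_inv, h.n_inv, mul_assoc] using big 2 (by omega) k)
  · exact h.aw_not_mem hi false (k := 6) (by omega)
      (by simpa [Ft.aw_succ, h.m_inv, h.n_inv, mul_assoc] using big 3 (by omega) k)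

end RF

end Cfsg.Agent.Og
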