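import Mathlib
import Cfsg.Agent.Og.Base

/-! Automorphisms of the coordinate group that commute with the torus of the Suzuki group. -/

set_option autoImplicit false
set_option linter.unusedSectionVars false

namespace Cfsg.Agent.Og

open Subgroup
open scoped commutatorElement

variable {K : Type*} [Field K] [CharP K 2] [Finite K] {s : Sg K}

namespace SG

theorem comm_mem_V {p r : SG s} (hp : p ∈ Qs s) (hr : r ∈ Qs s) : ⁅p, r⁆ ∈ Vs s := by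
  obtain ⟨h1, h2⟩ := hp
  obtain ⟨h3, h4⟩ := hr
  simp [commutatorElement_def, h1, h2, h3, h4]
  grind

theorem comm_mem_X {p v : SG s} (hp : p ∈ Qs s) (hv : v ∈ Vs s) : ⁅p, v⁆ ∈ Xs s := by
  obtain ⟨h1, h2⟩ := hp
  obtain ⟨h3, h4, h5, h6, h7, h8, h9⟩ := hv
  simp [commutatorElement_def, h1, h2, h3, h4, h5, h6, h7, h8, h9]
  grind

theorem Y_comm_V {p v : SG s} (hp : p ∈ Ys s) (hv : v ∈ Vs s) : p * v = v * p := by
  obtain ⟨h1, h2, h1', h2', h1'', h2''⟩ := hp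
  obtain ⟨h3, h4, h5, h6, h7, h8, h9⟩ := hv
  ext <;> simp [h1, h2, h1', h2', h1'', h2'', h3, h4, h5, h6, h7, h8, h9] <;> ring

theorem V_sq {v : SG s} (hv : v ∈ Vs s) : v * v = 1 := by
  obtain ⟨h3, h4, h5, h6, h7, h8, h9⟩ := hv
  ext <;> simp [h3, h4, h5, h6, h7, h8, h9] <;> grind

theorem Vs_le_Ys : Vs s ≤ Ys s := fun p hp => by simp_all
theorem Ys_le_Qs : Ys s ≤ Qs s := fun p hp => by simp_all
theorem Vs_le_Qs : Vs s ≤ Qs s := Vs_le_Ys.trans Ys_le_Qs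
theorem Xs_le_Vs : Xs s ≤ Vs s := fun p hp => by simp_all

theorem V_ind {M : Subgroup (SG s)} (h : ∀ p ∈ Qs s, ∀ r ∈ Qs s, ⁅p, r⁆ ∈ M) : Vs s ≤ M := by
  intro v hv
  obtain ⟨h3, h4, h5, h6, h7, h8, h9⟩ := hv
  have e2 : ∀ a, (w2 0 a : SG s) = ⁅(x1 a : SG s), (w4 1 0 : SG s)⁆ := fun a => by
    ext <;> simp [commutatorElement_def] <;> grind
  have e3 : ∀ a, (x3 a : SG s) = ⁅(w2 a 0 : SG s), (w4 1 0 : SG s)⁆ := fun a => by
    ext <;> simp [commutatorElement_def] <;> grind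
  have e4 : ∀ a, (w4 0 a : SG s) = ⁅(x1 a : SG s), (w6 0 1 : SG s)⁆ := fun a => by
    ext <;> simp [commutatorElement_def] <;> grind
  have e5 : ∀ a, (x5 a : SG s) = ⁅(w4 1 0 : SG s), (w6 a 0 : SG s)⁆ := fun a => by
    ext <;> simp [commutatorElement_def] <;> grind
  have e6 : ∀ a, (w6 0 a : SG s) = ⁅(w4 1 0 : SG s), (x7 a : SG s)⁆ := fun a => by
    ext <;> simp [commutatorElement_def] <;> grind
  have e : v = w2 0 v.u2 * x3 v.a3 * w4 0 v.u4 * x5 v.a5 * w6 0 v.u6 := by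
    ext <;> simp [h3, h4, h5, h6, h7, h8, h9]
  rw [e]
  refine mul_mem (mul_mem (mul_mem (mul_mem ?_ ?_) ?_) ?_) ?_
  · rw [e2]; exact h _ (by simp) _ (by simp)
  · rw [e3]; exact h _ (by simp) _ (by simp)
  · rw [e4]; exact h _ (by simp) _ (by simp)
  · rw [e5]; exact h _ (by simp) _ (by simp)
  · rw [e6]; exact h _ (by simp) _ (by simp)

theorem X_ind {M : Subgroup (SG s)} (h : ∀ p ∈ Qs s, ∀ r ∈ Vs s, ⁅p, r⁆ ∈ M) : Xs s ≤ M := by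
  intro v hv
  obtain ⟨a, rfl⟩ := mem_Xs_iff.mp hv
  have e4 : (w4 0 a : SG s) = ⁅(x1 a : SG s), (w6 0 1 : SG s)⁆ := by
    ext <;> simp [commutatorElement_def] <;> grind
  rw [e4]
  exact h _ (by simp) _ (by simp)

theorem map_V {φ : MulAut (SG s)} (hq : ∀ p ∈ Qs s, φ p ∈ Qs s) {v : SG s} (hv : v ∈ Vs s) :
    φ v ∈ Vs s :=
  V_ind (M := (Vs s).comap φ.toMonoidHom) (fun p hp r hr => by
    rw [mem_comap, map_commutatorElement]
    exact comm_mem_V (hq p hp) (hq r hr)) hv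

theorem mem_Y_of_comm {p : SG s} (hp : p ∈ Qs s) (h : ∀ v ∈ Vs s, p * v = v * p) : p ∈ Ys s := by
  obtain ⟨h1, h2⟩ := hp
  have e1 := congrArg SG.u4 (h (w6 0 1) (by simp))
  have e2 := congrArg SG.u4 (h (x5 1) (by simp))
  have e3 := congrArg SG.u4 (h (x3 1) (by simp))
  have e4 := congrArg SG.u4 (h (w2 0 1) (by simp))
  simp [h1, h2] at e1 e2 e3 e4
  simp [h1, h2, e1, e2, e3, e4]

theorem map_Y {φ : MulAut (SG s)} (hq : ∀ p, φ p ∈ Qs s ↔ p ∈ Qs s) {y : SG s} (hy : y ∈ Ys s) :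
    φ y ∈ Ys s := by
  refine mem_Y_of_comm ((hq y).mpr (Ys_le_Qs hy)) fun v hv => ?_
  have h1 : φ⁻¹ v ∈ Vs s := map_V (fun p hp => (hq _).mp (by simpa using hp)) hv
  simpa using congrArg φ (Y_comm_V hy h1)

omit [CharP K 2] [Finite K] in
theorem lin {f : K → K} {w : Kˣ → K} (hw : ∀ d : K, d ≠ 0 → ∃ c, w c = d)
    (hf : ∀ c, f (w c * 1) = w c * f 1) (h0 : f 0 = 0) (a : K) : f a = f 1 * a := by
  by_cases ha : a = 0
  · rw [ha, h0, mul_zero]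
  · obtain ⟨c, rfl⟩ := hw a ha
    rw [mul_comm, ← hf, mul_one]

theorem σ_onto {d : K} (hd : d ≠ 0) : ∃ c : Kˣ, s.σ c = d := by
  simpa using s.exists_wt' 0 1 (by simp) hd

theorem σ_ne {c : Kˣ} (hc : c ≠ 1) : s.σ c ≠ c := fun h => by
  have h2 : (c : K) ^ 2 = c := by rw [← s.sq, h, h]
  exact hc (Units.ext (mul_left_cancel₀ c.ne_zero (by rw [← sq, h2]; simp)))

/-- The automorphism commutes with the torus and preserves `Q`. -/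
structure Au (φ : MulAut (SG s)) : Prop where
  dh : ∀ (c : Kˣ) (p : SG s), φ (dh (c : K) ((c⁻¹ : Kˣ) : K) p) = dh (c : K) ((c⁻¹ : Kˣ) : K) (φ p)
  q : ∀ p, φ p ∈ Qs s ↔ p ∈ Qs s

variable {φ : MulAut (SG s)}

theorem Au.top (h : Au φ) (hq : ∃ c : Kˣ, c ≠ 1) :
    ∃ β : Kˣ, ∀ p, (φ p).a8 = β * p.a8 ∧ (φ p).u8 = β * s.σ β * p.u8 := by
  have one : (w8 0 0 : SG s) = 1 := rfl
  have h0 : ∀ v, (φ (w8 0 v)).a8 = 0 := fun v => by
    have e : (w8 0 v * w8 0 v : SG s) = 1 := by ext <;> simp; grind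
    have e2 := congrArg (fun p => (φ p).u8) e
    simp only [map_mul, map_one, mul_u8, one_u8] at e2
    have : (φ (w8 0 v)).a8 * s.σ (φ (w8 0 v)).a8 = 0 := by grind
    simpa using this
  have hf : ∀ a, (φ (w8 a 0)).a8 = (φ (w8 1 0)).a8 * a :=
    lin (f := fun a => (φ (w8 a 0)).a8) (w := fun c => s.σ c) (fun d hd => σ_onto hd)
      (fun c => by
        have e : (w8 (s.σ c * 1) 0 : SG s) = SG.dh (c : K) ((c⁻¹ : Kˣ) : K) (w8 1 0) := by ext <;> simp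
        simp only [e, h.dh, dh_a8]) (by simp [one])
  have hg : ∀ v, (φ (w8 0 v)).u8 = (φ (w8 0 1)).u8 * v :=
    lin (f := fun a => (φ (w8 0 a)).u8) (w := fun c => c ^ 2 * s.σ c)
      (fun d hd => by simpa using s.exists_wt' 2 1 (by simp) hd)
      (fun c => by
        have e : (w8 0 (c ^ 2 * s.σ c * 1) : SG s) = SG.dh (c : K) ((c⁻¹ : Kˣ) : K) (w8 0 1) := by
          ext <;> simp
        simp only [e, h.dh, dh_u8]) (by simp [one])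
  have hk : ∀ a, (φ (w8 a 0)).u8 = (φ (w8 1 0)).u8 * (a * s.σ a) := fun a => by
    by_cases ha : a = 0
    · simp [ha, one]
    · obtain ⟨c, rfl⟩ := σ_onto (s := s) ha
      have e : (w8 (s.σ c) 0 : SG s) = SG.dh (c : K) ((c⁻¹ : Kˣ) : K) (w8 1 0) := by ext <;> simp
      simp only [e, h.dh, dh_u8, s.sq]; ring
  generalize hβ : (φ (w8 1 0)).a8 = β at hf
  generalize hγ : (φ (w8 0 1)).u8 = γ at hg
  generalize hκ : (φ (w8 1 0)).u8 = κ at hk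
  have e1 : γ = β * s.σ β := by
    have e : (w8 1 0 * w8 1 0 : SG s) = w8 0 1 := by ext <;> simp; grind
    have e2 := congrArg (fun p => (φ p).u8) e
    simp only [map_mul, mul_u8, hβ, hγ, hκ] at e2
    grind
  have e2 : κ = 0 := by
    obtain ⟨c, hc⟩ := hq
    have e : (w8 1 0 * w8 (c : K) 0 : SG s) = w8 (1 + (c : K)) 0 * w8 0 (s.σ c) := by ext <;> simp
    have e2 := congrArg (fun p => (φ p).u8) e
    simp only [map_mul, mul_u8, hf, hg, hk, h0, map_zero, map_add, map_one, e1] at e2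
    have e3 : κ * (s.σ c + c) = 0 := by grind
    rcases mul_eq_zero.mp e3 with e | e
    · exact e
    · exact absurd (by grind) (σ_ne (s := s) hc)
  have key : ∀ p, (φ p).a8 = β * p.a8 ∧ (φ p).u8 = β * s.σ β * p.u8 := fun p => by
    obtain ⟨r, hr, e⟩ := exists_Q_mul p
    obtain ⟨h1, h2⟩ := (h.q r).mpr hr
    have e' : (w8 p.a8 p.u8 : SG s) = w8 p.a8 0 * w8 0 p.u8 := by ext <;> simp
    rw [e'] at e
    constructor
    · conv_lhs => rw [e]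
      simp only [map_mul, mul_a8, h1, hf, h0]; ring
    · conv_lhs => rw [e]
      simp only [map_mul, mul_u8, h1, h2, hf, h0, hg, hk, e1, e2, map_zero]; ring
  have hβ0 : β ≠ 0 := fun e => by
    have : (w8 0 1 : SG s) ∈ Qs s := (h.q _).mp (by simp [key, e])
    simp at this
  exact ⟨Units.mk0 β hβ0, key⟩

theorem Au.line (h : Au φ) : ∃ l : Kˣ, ∀ a, (φ (x7 a)).a1 = 0 ∧ (φ (x7 a)).a2 = 0 ∧ (φ (x7 a)).a6 = 0 ∧
    (φ (x7 a)).a7 = l * a := by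
  have h1 : ∀ a, (φ (x7 a)).a1 = 0 ∧ (φ (x7 a)).a2 = 0 ∧ (φ (x7 a)).a6 = 0 := fun a => by
    have hc : ∀ w, ⁅φ (x7 a), w⁆ ∈ Ys s := fun w => by
      have : ⁅(x7 a : SG s), φ⁻¹ w⁆ ∈ Ys s := by
        generalize φ⁻¹ w = w'
        simp [commutatorElement_def]; grind
      simpa [map_commutatorElement] using map_Y h.q this
    obtain ⟨q1, q2⟩ := (h.q (x7 a)).mpr (by simp)
    have e1 := hc (w8 1 0)
    generalize φ (x7 a) = t at *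
    simp [commutatorElement_def, q1, q2] at e1
    grind
  have hf : ∀ a, (φ (x7 a)).a7 = (φ (x7 1)).a7 * a :=
    lin (f := fun a => (φ (x7 a)).a7) (w := fun c => c * s.σ c)
      (fun d hd => by simpa using s.exists_wt' 1 1 (by simp) hd)
      (fun c => by
        have e : (x7 (c * s.σ c * 1) : SG s) = SG.dh (c : K) ((c⁻¹ : Kˣ) : K) (x7 1) := by ext <;> simp
        simp only [e, h.dh, dh_a7]) (by
          have : (x7 0 : SG s) = 1 := rfl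
          simp [this])
  have hl : (φ (x7 1)).a7 ≠ 0 := fun e => by
    obtain ⟨q1, q2⟩ := (h.q (x7 1)).mpr (by simp)
    have hy : φ (x7 1) ∈ Ys s := ⟨(h1 1).1, (h1 1).2.1, (h1 1).2.2, e, q1, q2⟩
    have := map_Y (φ := φ⁻¹) (fun p => by rw [← h.q]; simp) hy
    simp at this
  exact ⟨Units.mk0 _ hl, fun a => ⟨(h1 a).1, (h1 a).2.1, (h1 a).2.2, hf a⟩⟩

theorem Au.triv (h : Au φ) (hq : ∃ c : Kˣ, c ≠ 1) (h8 : ∀ p, (φ p).a8 = p.a8 ∧ (φ p).u8 = p.u8)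
    (h1 : ∀ a, (φ (x1 a)).a1 = a ∧ (φ (x1 a)).a2 = 0 ∧ (φ (x1 a)).a6 = 0 ∧ (φ (x1 a)).a7 = 0)
    (h7 : ∀ a, (φ (x7 a)).a1 = 0 ∧ (φ (x7 a)).a2 = 0 ∧ (φ (x7 a)).a6 = 0 ∧ (φ (x7 a)).a7 = a)
    {p : SG s} (hp : p ∈ Qs s) :
    (φ p).a1 = p.a1 ∧ (φ p).a2 = p.a2 ∧ (φ p).a4 = p.a4 ∧ (φ p).a6 = p.a6 ∧ (φ p).a7 = p.a7 := by
  let E : SG s → Prop := fun p =>
    p ∈ Qs s ∧ (φ p).a1 = p.a1 ∧ (φ p).a2 = p.a2 ∧ (φ p).a6 = p.a6 ∧ (φ p).a7 = p.a7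
  have mul : ∀ p r, E p → E r → E (p * r) := by
    rintro p r ⟨⟨p1, p2⟩, p3, p4, p5, p6⟩ ⟨⟨r1, r2⟩, r3, r4, r5, r6⟩
    simp [E, h8, *]
  have cnj : ∀ w r, E r → E (w * r * w⁻¹) := by
    rintro w r ⟨⟨r1, r2⟩, r3, r4, r5, r6⟩
    have hw : ∀ w r : SG s, r.a8 = 0 → r.u8 = 0 → (w * r * w⁻¹).a1 = r.a1 ∧
        (w * r * w⁻¹).a2 = r.a2 + w.a8 * r.a1 ∧
        (w * r * w⁻¹).a6 = r.a6 + s.σ w.a8 * r.a2 + w.a8 * s.σ w.a8 * r.a1 + w.u8 * r.a1 ∧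
        (w * r * w⁻¹).a7 = r.a7 + w.a8 * r.a6 + w.a8 ^ 2 * s.σ w.a8 * r.a1 + s.σ w.u8 * r.a1 +
          w.u8 * r.a2 + w.a8 * w.u8 * r.a1 := fun w r e1 e2 => by
      simp [e1, e2]; grind
    obtain ⟨a1, a2, a3, a4⟩ := hw w r r1 r2
    obtain ⟨b1, b2, b3, b4⟩ := hw (φ w) (φ r) (by rw [(h8 r).1, r1]) (by rw [(h8 r).2, r2])
    refine ⟨by simp [r1, r2]; grind, ?_⟩
    simp only [map_mul, map_inv, a1, a2, a3, a4, b1, b2, b3, b4, h8, r3, r4, r5, r6, and_self]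
  have hY : ∀ y ∈ Ys s, E y := fun y hy => by
    have := map_Y h.q hy
    simp_all [E]
  have hx1 : ∀ a, E (x1 a) := fun a => by simp [E, h1]
  have hx7 : ∀ a, E (x7 a) := fun a => by simp [E, h7]
  have step : ∀ t p : SG s, E t → E (t⁻¹ * p) → E p := fun t p ht hp => by
    simpa using mul _ _ ht hp
  have s7 : ∀ p : SG s, p ∈ Qs s → p.a1 = 0 → p.a2 = 0 → p.a6 = 0 → E p := by
    rintro p ⟨p1, p2⟩ p3 p4 p5
    exact step _ p (hx7 p.a7) (hY _ (by simp [*]; grind))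
  have s6 : ∀ p : SG s, p ∈ Qs s → p.a1 = 0 → p.a2 = 0 → E p := by
    rintro p ⟨p1, p2⟩ p3 p4
    refine step _ p (mul _ _ (hx1 p.a6) (cnj (w8 0 1) _ (hx1 p.a6))) (s7 _ ?_ ?_ ?_ ?_) <;>
      simp [*] <;> grind
  have s2 : ∀ p : SG s, p ∈ Qs s → p.a1 = 0 → E p := by
    rintro p ⟨p1, p2⟩ p3
    refine step _ p (mul _ _ (hx1 p.a2) (cnj (w8 1 0) _ (hx1 p.a2))) (s6 _ ?_ ?_ ?_) <;>
      simp [*] <;> grind
  have s1 : ∀ p : SG s, p ∈ Qs s → E p := by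
    rintro p ⟨p1, p2⟩
    refine step _ p (hx1 p.a1) (s2 _ ?_ ?_) <;> simp [*]; grind
  let D : SG s → Prop := fun p => p ∈ Qs s ∧ (φ p).a4 = p.a4
  have dmul : ∀ p r, D p → D r → D (p * r) := by
    rintro p r ⟨⟨p1, p2⟩, p3⟩ ⟨⟨r1, r2⟩, r3⟩
    simp [D, h8, *]
  have dstep : ∀ t p : SG s, D t → D (t⁻¹ * p) → D p := fun t p ht hp => by
    simpa using dmul _ _ ht hp
  have dV : ∀ v ∈ Vs s, D v := fun v hv => by
    have := map_V (fun p hp => (h.q p).mpr hp) hv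
    simp_all [D]
  have d0 : ∀ p : SG s, p ∈ Qs s → p.a4 = 0 → D p := by
    rintro p ⟨p1, p2⟩ p3
    obtain ⟨c, hc⟩ := hq
    have c0 : (c : K) ≠ 0 := c.ne_zero
    have c0' : s.σ c ≠ 0 := by simp
    have c1 : (c : K) + 1 ≠ 0 := fun e =>
      hc (Units.ext (CharTwo.add_eq_zero.mp e))
    have c2 : (c : K) * s.σ c + 1 ≠ 0 := fun e =>
      hc (s.eq_one_of_wt' 1 1 (by simp) (by simpa using CharTwo.add_eq_zero.mp e))
    have hd : ∀ r ∈ Qs s, D (SG.dh (c : K) ((c⁻¹ : Kˣ) : K) r * r⁻¹) := by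
      rintro r ⟨r1, r2⟩
      simp only [D, map_mul, map_inv, h.dh]
      simp [h8, r1, r2]; grind
    refine dstep _ p (hd ⟨p.a1 * (c * s.σ c) / (c * s.σ c + 1), p.a2 * c / (c + 1), 0, 0, 0, 0, 0,
      p.a6 / (c + 1), 0, p.a7 / (c * s.σ c + 1), 0, 0⟩ (by simp)) (dV _ ?_)
    simp [*]
    refine ⟨?_, ?_, ?_, ?_⟩ <;> field_simp <;> grind
  have d1 : D p := by
    obtain ⟨p1, p2⟩ := hp
    obtain ⟨b, hb⟩ := s.σ_surj p.a4
    refine dstep (x1 b * (w8 0 1 * x1 b * (w8 0 1)⁻¹)) p ⟨?_, ?_⟩ (d0 _ ?_ ?_)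
    · simp; grind
    · simp only [map_mul, map_inv]
      simp [h8, h1]; grind
    · simp [*]; grind
    · simp [*]; grind
  obtain ⟨-, e1, e2, e3, e4⟩ := s1 p hp
  exact ⟨e1, e2, d1.2, e3, e4⟩

theorem Au.main (h : Au φ) (hq : ∃ c : Kˣ, c ≠ 1) {α β : Kˣ}
    (h8 : ∀ p, (φ p).a8 = β * p.a8 ∧ (φ p).u8 = β * s.σ β * p.u8)
    (h1 : ∀ a, (φ (x1 a)).a1 = α * a ∧ (φ (x1 a)).a2 = 0 ∧ (φ (x1 a)).a6 = 0 ∧ (φ (x1 a)).a7 = 0)
    (h7 : ∀ a, (φ (x7 a)).a1 = 0 ∧ (φ (x7 a)).a2 = 0 ∧ (φ (x7 a)).a6 = 0 ∧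
      (φ (x7 a)).a7 = α * β ^ 2 * s.σ β * a)
    {p : SG s} (hp : p ∈ Qs s) : φ p * (dl (α : K) (β : K) p)⁻¹ ∈ Vs s := by
  have a0 : (α : K) ≠ 0 := α.ne_zero
  have b0 : (β : K) ≠ 0 := β.ne_zero
  have a1 : s.σ α ≠ 0 := by simp
  have b1 : s.σ β ≠ 0 := by simp
  have e : ∀ p, ((dlE s α β)⁻¹ * φ) p = dl ((α : K)⁻¹) ((β : K)⁻¹) (φ p) := fun p => by
    simp [MulAut.mul_apply, MulAut.inv_def]
  have hψ : Au ((dlE s α β)⁻¹ * φ) := ⟨fun c p => by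
      simp only [e, h.dh]
      ext <;> simp <;> ring, fun p => by rw [e, ← h.q p]; simp⟩
  have := hψ.triv hq (fun p => by simp [e, h8]; field_simp)
    (fun a => by simp [e, h1]) (fun a => by simp [e, h7]; field_simp) hp
  obtain ⟨p1, p2⟩ := hp
  simp only [e, dl_a1, dl_a2, dl_a4, dl_a6, dl_a7, map_inv₀] at this
  obtain ⟨e1, e2, e3, e4, e5⟩ := this
  simp [h8, p1, p2, ← e1, ← e2, ← e3, ← e4, ← e5]
  refine ⟨?_, ?_, ?_, ?_, ?_⟩ <;> field_simp <;> grind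

end SG

end Cfsg.Agent.Og
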