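import Mathlib
import Cfsg.Agent.Og.Kit
import Cfsg.Agent.Og.AutA

/-! An element of odd order normalizing `C` and centralizing `H₁` is diagonal on `C/Q` and `Q/V`. -/

set_option autoImplicit false
set_option linter.unusedSectionVars false

namespace Cfsg.Agent.Og

open Cfsg.Agent.Loc.Mss Subgroup SG
open scoped commutatorElement

variable {K : Type*} [Field K] [CharP K 2] [Finite K] {s : Sg K} {G : Type*} [Group G]

variable [Finite G] {L : Lt s G}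

theorem OC.mem_Q_of_nconj (h : OC L) {p : SG s} (hp : L.n * L.u p * L.n ∈ L.B) : p ∈ Qs s := by
  obtain ⟨r, hr, e⟩ := exists_Q_mul p
  by_contra hn
  have hN : p.a8 ^ 2 * s.σ p.a8 + p.a8 * p.u8 + s.σ p.u8 ≠ 0 := fun e => hn (s.nrm_eq_zero e)
  have e1 := h.r1 p.a8 p.u8 (Units.mk0 _ hN) rfl
  have e2 := h.nu r hr.1 hr.2
  have e3 : L.n * L.u p * L.n = (L.n * L.u r * L.n) * (L.n * L.u (w8 p.a8 p.u8) * L.n) := by
    conv_lhs => rw [e, map_mul]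
    calc _ = L.n * L.u r * (L.n * L.n) * L.u (w8 p.a8 p.u8) * L.n := by rw [h.nn]; group
      _ = _ := by group
  rw [e3, e2, e1, mul_mem_cancel_left (L.u_mem_B _), mul_mem_cancel_right (L.u_mem_B _),
    mul_mem_cancel_left (mul_mem (L.u_mem_B _) (L.h_mem_B _))] at hp
  exact h.n_not_mem_B hp

theorem RC.nhn_mem_B (h : RC L) (c : Kˣ) : L.n * L.h c * L.n ∈ L.B := by
  rw [h.nh]; exact L.h_mem_B _

theorem OC.syl_fix (h : OC L) {c : Kˣ} (hc : c ≠ 1) {x : G} (hx : x ∈ 𝐍[L.C])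
    (hn : L.h c ∈ 𝐍[cj(x, L.S)]) : cj(x, L.S) = L.S ∨ cj(x, L.S) = cj(L.n, L.S) := by
  obtain ⟨y, hy, e⟩ := h.syl_C.conj_eq (h.syl_C.cj_norm hx)
  rw [← e] at hn ⊢
  rcases h.bruhat hy with hb | ⟨p, d, a, v, rfl⟩
  · exact Or.inl (cj_of_norm (h.B_le_norm_S hb))
  · right
    have e1 : cj(L.u p * L.h d * L.n * L.u (w8 a v), L.S) = cj(L.u p * L.n, L.S) := by
      have : L.u p * L.h d * L.n * L.u (w8 a v) =
          L.u p * L.n * (L.n * L.h d * L.n * L.u (w8 a v)) := by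
        calc _ = L.u p * (L.n * L.n) * L.h d * L.n * L.u (w8 a v) := by rw [h.nn]; group
          _ = _ := by group
      rw [this, ← cj_cj, cj_of_norm (h.B_le_norm_S (mul_mem (h.nhn_mem_B d) (L.u_mem_B _)))]
    rw [e1] at hn ⊢
    rw [← cj_norm, mem_cj] at hn
    have hB : (L.u p * L.n)⁻¹ * L.h c * (L.u p * L.n) ∈ L.B := by
      rw [← h.norm_S]
      have := mul_mem (L.u_mem_C p) L.n_mem_C
      exact mem_inf.mpr ⟨mul_mem (mul_mem (inv_mem this) (L.h_mem_C c)) this, hn⟩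
    have e2 : (L.u p * L.n)⁻¹ * L.h c * (L.u p * L.n) =
        L.n * L.u (p⁻¹ * dh (c : K) ((c⁻¹ : Kˣ) : K) p) * L.n * (L.n * L.h c * L.n) := by
      rw [map_mul, map_inv, ← h.hu, mul_inv_rev, h.n_inv]
      calc _ = L.n * ((L.u p)⁻¹ * (L.h c * L.u p * (L.h c)⁻¹)) * (L.n * L.n) * L.h c * L.n := by
            rw [h.nn]; group
        _ = _ := by group
    rw [e2, mul_mem_cancel_right (h.nhn_mem_B c)] at hB
    obtain ⟨q1, q2⟩ := h.mem_Q_of_nconj hB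
    have c1 : s.σ c + 1 ≠ 0 := fun e =>
      hc (s.eq_one_of_wt' 0 1 (by simp) (by simpa using CharTwo.add_eq_zero.mp e))
    have c2 : (c : K) ^ 2 * s.σ c + 1 ≠ 0 := fun e =>
      hc (s.eq_one_of_wt' 2 1 (by simp) (by simpa using CharTwo.add_eq_zero.mp e))
    simp only [mul_a8, inv_a8, dh_a8, mul_u8, inv_u8, dh_u8] at q1 q2
    have p1 : p.a8 = 0 := (mul_eq_zero.mp (by grind : (s.σ c + 1) * p.a8 = 0)).resolve_left c1
    have p2 : p.u8 = 0 := (mul_eq_zero.mp (by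
      rw [p1] at q2; grind : ((c : K) ^ 2 * s.σ c + 1) * p.u8 = 0)).resolve_left c2
    have : L.u p * L.n = L.n * L.u (nu p) := by
      rw [← h.nu p p1 p2]
      calc _ = (L.n * L.n) * L.u p * L.n := by rw [h.nn]; group
        _ = _ := by group
    rw [this, ← cj_cj, cj_of_mem (L.u_mem_S _)]

theorem OC.cj_n_ne (h : OC L) : cj(L.n, L.S) ≠ L.S := fun e =>
  h.n_not_mem_B (h.norm_S ▸ ⟨L.n_mem_C, cj_eq_iff.mp e⟩)

theorem OC.norm_SS (h : OC L) (hq : ∃ c : Kˣ, c ≠ 1) {g : G} (ho : Odd (orderOf g)) (hC : g ∈ 𝐍[L.C])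
    (h1 : g ∈ 𝐂[L.H1]) : g ∈ 𝐍[L.S] ∧ g ∈ 𝐍[cj(L.n, L.S)] := by
  obtain ⟨c, hc⟩ := hq
  have e0 := mem_cent.mp h1 _ (L.h_mem_H1 c)
  have A := h.syl_fix hc hC (by
    rw [← cj_eq_iff, cj_cj, e0, ← cj_cj, cj_of_norm (h.B_le_norm_S (L.h_mem_B c))])
  have B := h.syl_fix hc (mul_mem hC (le_normalizer L.n_mem_C)) (by
    have : L.h c * (g * L.n) = g * L.n * (L.n * L.h c * L.n) := by
      calc _ = g * (L.n * L.n) * L.h c * L.n := by rw [h.nn, ← mul_assoc, e0]; group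
        _ = _ := by group
    rw [← cj_eq_iff, cj_cj, this, ← cj_cj, cj_of_norm (h.B_le_norm_S (h.nhn_mem_B c))])
  rw [← cj_cj] at B
  have hS : g ∈ 𝐍[L.S] := by
    rcases A with A | A
    · exact cj_eq_iff.mp A
    · rcases B with B | B
      · refine mem_of_pow_mem (p := 2) (k := 1) (Nat.coprime_two_right.mpr ho) ?_
        rw [← cj_eq_iff, pow_one, sq, ← cj_cj, A, B]
      · exact absurd (cj_eq_cj.mp (B.trans A.symm)) h.cj_n_ne
  refine ⟨hS, ?_⟩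
  rcases B with B | B
  · exact absurd (cj_eq_cj.mp (B.trans (cj_of_norm hS).symm)) h.cj_n_ne
  · exact cj_eq_iff.mp B

theorem OC.exists_aut (h : OC L) {g : G} (hg : g ∈ 𝐍[L.S]) :
    ∃ φ : MulAut (SG s), ∀ p, L.u (φ p) = g * L.u p * g⁻¹ :=
  ⟨(MonoidHom.ofInjective h.inj).trans ((L.S.normalizerMonoidHom ⟨g, hg⟩).trans
    (MonoidHom.ofInjective h.inj).symm), fun _ => MonoidHom.apply_ofInjective_symm h.inj _⟩

theorem OC.n_conj (h : OC L) {g : G} (hC : g ∈ 𝐍[L.C]) (hS : g ∈ 𝐍[L.S]) (hS' : g ∈ 𝐍[cj(L.n, L.S)]) :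
    ∃ p ∈ Qs s, ∃ d, g * L.n * g⁻¹ = L.u p * L.h d * L.n := by
  have hn := conj_mem_of_norm hC L.n_mem_C
  have h1 : g * L.n * g⁻¹ * L.n ∈ L.B := by
    rw [← h.norm_S]
    refine ⟨mul_mem hn L.n_mem_C, cj_eq_iff.mp ?_⟩
    rw [← cj_cj, ← cj_cj, cj_of_norm (inv_mem hS'), ← cj_cj, cj_cj _ L.n L.n, h.nn, cj_one, cj_of_norm hS]
  have h2 : L.n * (g * L.n * g⁻¹) ∈ L.B := by
    have := inv_mem h1
    simpa [h.n_inv, mul_assoc] using this
  obtain ⟨p, d, e⟩ := h.mem_B.mp h1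
  have e' : g * L.n * g⁻¹ = L.u p * L.h d * L.n := by
    rw [← e, mul_assoc _ L.n L.n, h.nn, mul_one]
  refine ⟨p, h.mem_Q_of_nconj ?_, d, e'⟩
  have e2 : L.n * (g * L.n * g⁻¹) = L.n * L.u p * L.n * (L.n * L.h d * L.n) := by
    rw [e']
    calc _ = L.n * L.u p * (L.n * L.n) * L.h d * L.n := by rw [h.nn]; group
      _ = _ := by group
  rwa [e2, mul_mem_cancel_right (h.nhn_mem_B d)] at h2

/-- An element of odd order normalizing `C` and centralizing `H₁` acts as a diagonal automorphism on `C/Q`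
and on `Q/V`. -/
theorem OC.aut_dg0 (h : OC L) (hq : ∃ c : Kˣ, c ≠ 1) {g : G} (ho : Odd (orderOf g)) (hC : g ∈ 𝐍[L.C])
    (h1 : g ∈ 𝐂[L.H1]) : ∃ α β : Kˣ,
      (∀ p, g * L.u p * g⁻¹ * (L.u (dl α β p))⁻¹ ∈ L.Q) ∧
      g * L.n * g⁻¹ * (L.h (s.σu β) * L.n)⁻¹ ∈ L.Q ∧
      ∀ p ∈ Qs s, g * L.u p * g⁻¹ * (L.u (dl α β p))⁻¹ ∈ L.V := by
  obtain ⟨hS, hS'⟩ := h.norm_SS hq ho hC h1
  obtain ⟨φ, hφ⟩ := h.exists_aut hS
  have hQ : g ∈ 𝐍[L.Q] := by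
    rw [← h.S_inf_cj]
    exact norm_inf (X := zpowers g) (zpowers_le.mpr hS) (zpowers_le.mpr hS') (mem_zpowers g)
  have hA : Au φ := ⟨fun c p => h.inj (by
      have e0 := mem_cent.mp h1 _ (L.h_mem_H1 c)
      rw [hφ, ← h.hu, ← h.hu, hφ]
      calc _ = (g * L.h c) * L.u p * (g * L.h c)⁻¹ := by group
        _ = _ := by rw [← e0]; group), fun p => by
      rw [← h.u_mem_im, ← h.u_mem_im, hφ]
      exact (mem_normalizer_iff.mp hQ _).symm⟩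
  obtain ⟨β, hβ⟩ := hA.top hq
  obtain ⟨l, hl⟩ := hA.line
  obtain ⟨p₀, hp₀, d, hn⟩ := h.n_conj hC hS hS'
  have b0 : (β : K) ≠ 0 := β.ne_zero
  have b1 : s.σ β ≠ 0 := by simp
  have hn' : g * L.n * g⁻¹ = L.n * (L.h d)⁻¹ * (L.u p₀)⁻¹ := by
    have : g * L.n * g⁻¹ = (g * L.n * g⁻¹)⁻¹ := by simp [h.n_inv, mul_assoc]
    rw [this, hn]; simp [h.n_inv, mul_assoc]
  have hd : d = s.σu β := by
    have e1 := h.r1 0 1 1 (by simp)
    simp only [map_zero, mul_zero, zero_add, Units.val_one, div_one, map_one, mul_one] at e1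
    have e2 : (g * L.n * g⁻¹) * L.u (φ (w8 0 1)) * (g * L.n * g⁻¹) =
        L.u (φ (w8 1 1)) * (g * L.n * g⁻¹) * L.u (φ (w8 1 0)) := by
      rw [hφ, hφ, hφ]
      calc _ = g * (L.n * L.u (w8 0 1) * L.n) * g⁻¹ := by group
        _ = _ := by rw [e1]; group
    obtain ⟨r, hr, er⟩ := exists_Q_mul (φ (w8 0 1))
    simp only [hβ, w8_a8, w8_u8, mul_zero, mul_one] at er
    have e3 := h.r1 0 (β * s.σ β) (s.σu (β * s.σu β)) (by simp)
    have e4 := h.nu r hr.1 hr.2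
    simp only [map_zero, mul_zero, zero_add, zero_div] at e3
    generalize hx : (β : K) * s.σ β / (s.σu (β * s.σu β) : Kˣ) = x at e3
    generalize s.σu (β * s.σu β) / s.σu (s.σu (β * s.σu β)) = y at e3
    have e5 : (g * L.n * g⁻¹) * L.u (φ (w8 0 1)) * (g * L.n * g⁻¹) =
        L.u p₀ * L.h d * L.u (nu r) * (L.u (w8 x (x * s.σ x)) * L.h y * L.n * L.u (w8 x 0)) *
          (L.h d)⁻¹ * (L.u p₀)⁻¹ := by
      rw [← e3, ← e4, er, map_mul]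
      nth_rewrite 2 [hn']
      rw [hn]
      calc _ = L.u p₀ * L.h d * L.n * L.u r * (L.n * L.n) * L.u (w8 0 (β * s.σ β)) * L.n * (L.h d)⁻¹ *
            (L.u p₀)⁻¹ := by rw [h.nn]; group
        _ = _ := by group
    rw [e2, hn] at e5
    have e6 : L.n * L.u (φ (w8 1 0) * p₀ * dh (d : K) ((d⁻¹ : Kˣ) : K) (w8 x 0)⁻¹) * L.n =
        (L.u (φ (w8 1 1)) * L.u p₀ * L.h d)⁻¹ * (L.u p₀ * L.h d * L.u (nu r) *
          L.u (w8 x (x * s.σ x)) * L.h y) * (L.n * L.h d * L.n)⁻¹ := by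
      rw [map_mul, map_mul, ← h.hu, map_inv]
      calc _ = (L.u (φ (w8 1 1)) * L.u p₀ * L.h d)⁻¹ * (L.u (φ (w8 1 1)) * (L.u p₀ * L.h d * L.n) *
            L.u (φ (w8 1 0))) * L.u p₀ * L.h d * (L.u (w8 x 0))⁻¹ * (L.h d)⁻¹ * L.n := by group
        _ = _ := by rw [e5, mul_inv_rev (L.n * L.h d), mul_inv_rev L.n, h.n_inv]; group
    have e7 := (h.mem_Q_of_nconj (e6 ▸ mul_mem (mul_mem (inv_mem (mul_mem (mul_mem (L.u_mem_B _)
      (L.u_mem_B _)) (L.h_mem_B _))) (mul_mem (mul_mem (mul_mem (mul_mem (L.u_mem_B _) (L.h_mem_B _))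
      (L.u_mem_B _)) (L.u_mem_B _)) (L.h_mem_B _))) (inv_mem (h.nhn_mem_B d)))).1
    simp only [mul_a8, hβ, w8_a8, hp₀.1, dh_a8, inv_a8, mul_one, add_zero] at e7
    refine s.σu_inj (Units.ext ?_)
    have e8 := CharTwo.add_eq_zero.mp e7
    rw [← hx] at e8
    simp only [Sg.coe_σu, Units.val_mul, map_mul, s.sq] at e8 ⊢
    field_simp at e8
    grind
  subst hd
  have h1 : ∀ a, (φ (x1 a)).a1 = (l / (β ^ 2 * s.σu β) : Kˣ) * a ∧ (φ (x1 a)).a2 = 0 ∧ (φ (x1 a)).a6 = 0 ∧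
      (φ (x1 a)).a7 = 0 := fun a => by
    obtain ⟨q1, q2⟩ := (hA.q (x7 a)).mpr (by simp)
    have e : φ (x1 a) = p₀ * dh ((s.σu β : Kˣ) : K) (((s.σu β)⁻¹ : Kˣ) : K) (nu (φ (x7 a))) * p₀⁻¹ := h.inj (by
      have e1 : (x1 a : SG s) = nu (x7 a) := by ext <;> simp
      rw [map_mul, map_mul, map_inv, ← h.hu, ← h.nu _ q1 q2, e1, hφ, hφ, ← h.nu _ rfl rfl]
      calc _ = (g * L.n * g⁻¹) * (g * L.u (x7 a) * g⁻¹) * (g * L.n * g⁻¹) := by group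
        _ = _ := by
          nth_rewrite 2 [hn']
          rw [hn]; group)
    rw [e]
    obtain ⟨l1, l2, l3, l4⟩ := hl a
    simp [hp₀.1, hp₀.2, l1, l2, l3, l4]
    refine ⟨?_, ?_, ?_, ?_⟩ <;> field_simp <;> grind
  refine ⟨l / (β ^ 2 * s.σu β), β, fun p => ?_, ?_, fun p hp => ?_⟩
  · rw [← hφ, ← map_inv, ← map_mul, h.u_mem_im]
    simp [hβ]; grind
  · rw [hn]
    simpa using Lt.u_mem_im hp₀
  · rw [← hφ, ← map_inv, ← map_mul, h.u_mem_im]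
    refine hA.main hq hβ h1 (fun a => ?_) hp
    obtain ⟨l1, l2, l3, l4⟩ := hl a
    refine ⟨l1, l2, l3, ?_⟩
    rw [l4]; simp only [Units.val_div_eq_div_val, Units.val_mul, Units.val_pow_eq_pow_val, Sg.coe_σu]
    field_simp

end Cfsg.Agent.Og
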