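import Mathlib
import Cfsg.Agent.Og.Kit
import Cfsg.Agent.Og.AutA

/-! The automorphisms of `C` that are trivial on `Q/V`, and the diagonal automorphisms. -/

set_option autoImplicit false
set_option linter.unusedSectionVars false

namespace Cfsg.Agent.Og

open Cfsg.Agent.Loc.Mss Subgroup SG
open scoped commutatorElement

section abstract

variable {Γ : Type*} [Group Γ]

theorem comm_mul_mul {a b p r : Γ} (h1 : Commute a (p * (b * r) * p⁻¹)) (h2 : Commute b (r * p⁻¹ * r⁻¹)) :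
    ⁅a * p, b * r⁆ = ⁅p, r⁆ := by
  calc ⁅a * p, b * r⁆ = a * (p * (b * r) * p⁻¹) * a⁻¹ * r⁻¹ * b⁻¹ := by
        rw [commutatorElement_def]; group
    _ = p * (b * (r * p⁻¹ * r⁻¹)) * b⁻¹ := by rw [h1.eq]; group
    _ = _ := by rw [h2.eq, commutatorElement_def]; group

/-- A chain `X ≤ V ≤ Q` of class `3`. -/
structure Chain (Q V X : Subgroup Γ) : Prop where
  vq : V ≤ Q
  xv : X ≤ V
  vind : ∀ M : Subgroup Γ, (∀ p ∈ Q, ∀ r ∈ Q, ⁅p, r⁆ ∈ M) → V ≤ M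
  xind : ∀ M : Subgroup Γ, (∀ p ∈ Q, ∀ r ∈ V, ⁅p, r⁆ ∈ M) → X ≤ M
  vx : ∀ p ∈ Q, ∀ v ∈ V, ⁅p, v⁆ ∈ X
  xc : ∀ x ∈ X, ∀ y, Commute x y
  ab : ∀ v ∈ V, ∀ w ∈ V, Commute v w
  sq : ∀ v ∈ V, v * v = 1
  qn : Q.Normal
  cq : ∀ y, (∀ p ∈ Q, Commute y p) → y ∈ X

variable {Q V X : Subgroup Γ} {ψ : MulAut Γ}

theorem Chain.onV (h : Chain Q V X) (hψ : ∀ x ∈ Q, ψ x * x⁻¹ ∈ V) {v : Γ} (hv : v ∈ V) :
    ψ v * v⁻¹ ∈ X := by
  have : X.Normal := ⟨fun x hx y => by rw [← (h.xc x hx y).eq]; simpa using hx⟩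
  let π := QuotientGroup.mk' X
  have hc : ∀ a ∈ V, ∀ p ∈ Q, Commute (π a) (π p) := fun a ha p hp => by
    rw [← commutatorElement_eq_one_iff_commute, ← map_commutatorElement, ← commutatorElement_inv]
    exact (QuotientGroup.eq_one_iff _).mpr (inv_mem (h.vx p hp a ha))
  have := h.vind ((π.comp ψ.toMonoidHom).eqLocus π) (fun p hp r hr => by
    have e : ∀ x, ψ x = ψ x * x⁻¹ * x := fun x => by group
    change π (ψ ⁅p, r⁆) = π ⁅p, r⁆
    rw [map_commutatorElement, e p, e r, map_commutatorElement, map_commutatorElement, map_mul π _ p,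
      map_mul π _ r]
    refine comm_mul_mul ?_ ?_
    · simpa only [map_mul, map_inv] using hc _ (hψ p hp) _
        (mul_mem (mul_mem hp (mul_mem (h.vq (hψ r hr)) hr)) (inv_mem hp))
    · simpa only [map_mul, map_inv] using hc _ (hψ r hr) _ (mul_mem (mul_mem hr (inv_mem hp)) (inv_mem hr))) hv
  have e : π (ψ v) = π v := this
  rw [← QuotientGroup.eq_one_iff]
  change π _ = 1
  rw [map_mul, e, map_inv, mul_inv_cancel]

theorem Chain.onX (h : Chain Q V X) (hψ : ∀ x ∈ Q, ψ x * x⁻¹ ∈ V) {x : Γ} (hx : x ∈ X) : ψ x = x :=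
  h.xind (ψ.toMonoidHom.eqLocus (MonoidHom.id Γ)) (fun p hp r hr => by
    have e : ∀ x, ψ x = ψ x * x⁻¹ * x := fun x => by group
    change ψ ⁅p, r⁆ = ⁅p, r⁆
    rw [map_commutatorElement, e p, e r]
    refine comm_mul_mul (h.ab _ (hψ p hp) _ ?_) (h.xc _ (h.onV hψ hr) _)
    have h1 := mul_mem (h.xv (h.onV hψ hr)) hr
    have := mul_mem (h.xv (h.vx p hp _ h1)) h1
    rwa [commutatorElement_def, inv_mul_cancel_right] at this) hx

theorem Chain.pow8 (h : Chain Q V X) (hψ : ∀ x ∈ Q, ψ x * x⁻¹ ∈ V) : ψ ^ 8 = 1 := by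
  have e : ∀ (χ : MulAut Γ) x, χ x = χ x * x⁻¹ * x := fun χ x => by group
  have sq : ∀ χ : MulAut Γ, (∀ x ∈ X, χ x = x) → ∀ y, χ y * y⁻¹ ∈ X → (χ ^ 2) y = y := fun χ h1 y hy => by
    rw [pow_two, MulAut.mul_apply, e χ y, map_mul, h1 _ hy]
    nth_rewrite 2 [e χ y]
    rw [← mul_assoc, h.sq _ (h.xv hy), one_mul]
  have fx : ∀ k, ∀ x ∈ X, (ψ ^ k) x = x := fun k x hx => by
    induction k with
    | zero => rfl
    | succ k ih => rw [pow_succ, MulAut.mul_apply, h.onX hψ hx, ih]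
  have h2 : ∀ p ∈ Q, (ψ ^ 2) p * p⁻¹ ∈ X := fun p hp => by
    have e1 : (ψ ^ 2) p * p⁻¹ =
        ψ (ψ p * p⁻¹) * (ψ p * p⁻¹)⁻¹ * ((ψ p * p⁻¹) * (ψ p * p⁻¹)) := by
      rw [pow_two, MulAut.mul_apply, map_mul, map_inv]; group
    rw [e1, h.sq _ (hψ p hp), mul_one]
    exact h.onV hψ (hψ p hp)
  have h4 : ∀ p ∈ Q, (ψ ^ 4) p = p := fun p hp => by
    simpa only [← pow_mul] using sq _ (fx 2) p (h2 p hp)
  ext y
  have h5 : (ψ ^ 4) y * y⁻¹ ∈ X := h.cq _ fun p hp => by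
    have e1 := h4 _ (h.qn.conj_mem p hp y⁻¹)
    rw [map_mul, map_mul, map_inv, map_inv, map_inv, h4 p hp, inv_inv, inv_inv] at e1
    generalize (ψ ^ 4) y = z at e1
    calc z * y⁻¹ * p = z * (y⁻¹ * p * y) * y⁻¹ := by group
      _ = _ := by rw [← e1]; group
  have := sq _ (fx 4) y h5
  rwa [← pow_mul] at this

/-- The automorphisms that are trivial on `Q/V`. -/
def Chain.A0 (h : Chain Q V X) : Subgroup (MulAut Γ) :=
  let M : Submonoid (MulAut Γ) :=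
    { carrier := {ψ | ∀ x ∈ Q, ψ x * x⁻¹ ∈ V}
      one_mem' := fun x _ => by simp
      mul_mem' := fun {ψ χ} h1 h2 x hx => by
        have e : (ψ * χ) x * x⁻¹ = ψ (χ x) * (χ x)⁻¹ * (χ x * x⁻¹) := by
          rw [MulAut.mul_apply]; group
        rw [e]
        exact mul_mem (h1 _ (by simpa using mul_mem (h.vq (h2 x hx)) hx)) (h2 x hx) }
  { M with
    inv_mem' := fun {ψ} hψ => by
      have e : ψ⁻¹ = ψ ^ 7 := inv_eq_of_mul_eq_one_right (by rw [← pow_succ', h.pow8 hψ])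
      rw [e]
      exact M.pow_mem hψ 7 }

theorem Chain.mem_A0 (h : Chain Q V X) : ψ ∈ h.A0 ↔ ∀ x ∈ Q, ψ x * x⁻¹ ∈ V := Iff.rfl

theorem Chain.pg_A0 (h : Chain Q V X) : IsPGroup 2 h.A0 :=
  pg_iff.mpr fun _ hψ => ⟨3, h.pow8 hψ⟩

end abstract

variable {K : Type*} [Field K] [CharP K 2] [Finite K] {s : Sg K} {G : Type*} [Group G]

/-- The letters inside `C`. -/
def Lt.inC (L : Lt s G) : Lt s L.C :=
  ⟨L.u.codRestrict L.C L.u_mem_C, L.h.codRestrict L.C L.h_mem_C, ⟨L.n, L.n_mem_C⟩⟩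

@[simp] theorem Lt.inC_u (L : Lt s G) (p : SG s) : (L.inC.u p : G) = L.u p := rfl
@[simp] theorem Lt.inC_h (L : Lt s G) (c : Kˣ) : (L.inC.h c : G) = L.h c := rfl
@[simp] theorem Lt.inC_n (L : Lt s G) : (L.inC.n : G) = L.n := rfl

theorem Lt.mem_inC_im {L : Lt s G} {A : Subgroup (SG s)} {x : L.C} : x ∈ L.inC.im A ↔ (x : G) ∈ L.im A :=
  ⟨by rintro ⟨p, hp, rfl⟩; exact ⟨p, hp, rfl⟩, by rintro ⟨p, hp, e⟩; exact ⟨p, hp, Subtype.ext e⟩⟩

theorem Lt.inC_C (L : Lt s G) : L.inC.C = ⊤ := by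
  have : L.C ≤ L.inC.C.map L.C.subtype :=
    L.C_le (fun p => ⟨_, L.inC.u_mem_C p, rfl⟩) (fun c => ⟨_, L.inC.h_mem_C c, rfl⟩)
      ⟨_, L.inC.n_mem_C, rfl⟩
  rw [eq_top_iff]
  intro x _
  obtain ⟨y, hy, e⟩ := this x.2
  exact (Subtype.ext e : y = x) ▸ hy

variable [Finite G] {L : Lt s G}

theorem OC.inC (h : OC L) : OC L.inC where
  nn := Subtype.ext h.nn
  nu p h1 h2 := Subtype.ext (h.nu p h1 h2)
  hu c p := Subtype.ext (h.hu c p)
  nh c := Subtype.ext (h.nh c)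
  r1 a v N e := Subtype.ext (h.r1 a v N e)
  inj _ _ e := h.inj (congrArg Subtype.val e)

theorem OC.chain (h : OC L) (ht : L.C = ⊤) : Chain L.Q L.V L.X where
  vq := Lt.im_mono Vs_le_Qs
  xv := Lt.im_mono Xs_le_Vs
  vind M hM := map_le_iff_le_comap.mpr <| V_ind fun p hp r hr => by
    rw [mem_comap, map_commutatorElement]
    exact hM _ (Lt.u_mem_im hp) _ (Lt.u_mem_im hr)
  xind M hM := map_le_iff_le_comap.mpr <| X_ind fun p hp r hr => by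
    rw [mem_comap, map_commutatorElement]
    exact hM _ (Lt.u_mem_im hp) _ (Lt.u_mem_im hr)
  vx := by
    rintro _ ⟨p, hp, rfl⟩ _ ⟨r, hr, rfl⟩
    rw [← map_commutatorElement]
    exact Lt.u_mem_im (comm_mem_X hp hr)
  xc x hx y := mem_cent.mp (h.C_le_cent_X (ht ▸ mem_top y)) x hx
  ab := by
    rintro _ ⟨p, hp, rfl⟩ _ ⟨r, hr, rfl⟩
    exact (show Commute p r from Y_comm_V (Vs_le_Ys hp) hr).map _
  sq := by
    rintro _ ⟨p, hp, rfl⟩
    rw [← map_mul, V_sq hp, map_one]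
  qn := normal_of_top (ht ▸ h.C_le_norm_Q)
  cq y hy := h.cent_Q ▸ mem_inf.mpr ⟨ht ▸ mem_top y, mem_cent.mpr fun p hp => (hy p hp).eq.symm⟩

theorem Lt.aut_ext (ht : L.C = ⊤) {ψ χ : MulAut G} (hu : ∀ p, ψ (L.u p) = χ (L.u p))
    (hh : ∀ c, ψ (L.h c) = χ (L.h c)) (hn : ψ L.n = χ L.n) : ψ = χ :=
  MulEquiv.ext fun x => L.C_le (M := ψ.toMonoidHom.eqLocus χ.toMonoidHom) hu hh hn (ht ▸ mem_top x)

theorem OC.exists_diag (h : OC L) (ht : L.C = ⊤) (α β : Kˣ) : ∃ t : MulAut G,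
    (∀ p, t (L.u p) = L.u (dl α β p)) ∧ (∀ c, t (L.h c) = L.h c) ∧ t L.n = L.h (s.σu β) * L.n := by
  obtain ⟨c, rfl⟩ := Finite.surjective_of_injective s.σu_inj β
  obtain ⟨e, e1, e2, e3⟩ := h.iso ((h.tw (α * (c * s.σu c))).cjg (L.h c))
  have hC : ((L.tw (α * (c * s.σu c))).cjg (L.h c)).C = ⊤ := by rw [Lt.cjg_C, Lt.tw_C, ht, cj_top]
  refine ⟨(((MulEquiv.subgroupCongr ht).trans topEquiv).symm.trans e).trans
    ((MulEquiv.subgroupCongr hC).trans topEquiv), fun p => (e1 p).trans ?_, fun d => (e2 d).trans ?_,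
    e3.trans ?_⟩
  · rw [Lt.cjg_u]
    change L.h c * L.u (dl _ _ p) * _ = _
    rw [h.hu, dh_eq, dl_dl]
    congr 2
    · rw [← Units.val_mul]; congr 1; rw [mul_comm α, inv_mul_cancel_left]
    · simp
  · change L.h c * L.h d * (L.h c)⁻¹ = _
    rw [← map_inv, ← map_mul, ← map_mul, mul_inv_cancel_comm]
  · change L.h c * L.n * (L.h c)⁻¹ = _
    rw [Sg.σu_σu, pow_two, map_mul, ← map_inv, ← h.nh]
    have e4 : L.n * L.n * L.h c = L.h c := by rw [h.nn, one_mul]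
    have e5 := h.nh c⁻¹
    rw [inv_inv] at e5
    rw [h.nh, mul_assoc, mul_assoc]
    congr 1
    rw [← e5, mul_assoc, h.nn, mul_one]

theorem OC.exists_tor (h : OC L) (ht : L.C = ⊤) : ∃ t : Kˣ × Kˣ →* MulAut G, ∀ x : Kˣ × Kˣ,
    (∀ p, t x (L.u p) = L.u (dl x.1 x.2 p)) ∧ (∀ c, t x (L.h c) = L.h c) ∧
      t x L.n = L.h (s.σu x.2) * L.n := by
  choose t h1 h2 h3 using h.exists_diag ht
  refine ⟨MonoidHom.mk' (fun x => t x.1 x.2) fun x y => Lt.aut_ext ht (fun p => ?_) (fun c => ?_) ?_,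
    fun x => ⟨h1 _ _, h2 _ _, h3 _ _⟩⟩
  · simp only [MulAut.mul_apply, h1, dl_dl, Prod.fst_mul, Prod.snd_mul, Units.val_mul]
  · simp only [MulAut.mul_apply, h2]
  · simp only [MulAut.mul_apply, h3, map_mul, h2, Prod.snd_mul]
    rw [← mul_assoc, ← map_mul L.h, ← map_mul L.h, mul_comm (s.σu y.2)]

end Cfsg.Agent.Og
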