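import Mathlib
import Cfsg.Agent.Og.Kit
import Cfsg.Agent.GT.PPrimeCore
import Cfsg.Agent.GT.FourGroup

set_option autoImplicit false
set_option linter.unusedSectionVars false

namespace Cfsg.Agent.Og

open Cfsg.Agent.Loc.Mss Subgroup SG
open scoped commutatorElement

variable {K : Type*} [Field K] [CharP K 2] [Finite K] {s : Sg K} {G : Type*} [Group G]

/-! First consequences of the standing hypothesis. -/

theorem KitG.cj_c1 (g x : G) : cj(g, 𝐂₁[x]) = 𝐂₁[g * x * g⁻¹] := by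
  ext y
  rw [mem_cj, mem_c1, mem_c1]
  constructor
  · intro e
    calc y * (g * x * g⁻¹) = g * (g⁻¹ * y * g * x) * g⁻¹ := by group
      _ = _ := by rw [e]; group
  · intro e
    calc g⁻¹ * y * g * x = g⁻¹ * (y * (g * x * g⁻¹)) * g := by group
      _ = _ := by rw [e]; group

variable [Finite G] {L : Lt s G}

theorem St.cjg (h : St L) (g : G) : St (L.cjg g) where
  toOC := h.toOC.cjg g
  syl := by
    have := h.syl.cj g
    rwa [cj_top, ← Lt.cjg_S] at this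
  nrm := by
    rw [Lt.cjg_τ, Lt.cjg_C, ← KitG.cj_c1, ← cj_norm]
    exact cj_mono g h.nrm
  odd A h1 h2 h3 := by
    rw [Lt.cjg_τ, ← KitG.cj_c1] at h1 h2
    refine cj_eq_bot.1 (h.odd cj(g⁻¹, A) (le_cj_iff_inv_le.1 h1) ?_ (by rwa [card_cj]))
    rw [← cj_norm]
    exact cj_le_iff_le_inv.1 h2

theorem St2.cjg (h : St2 L) (g : G) : St2 (L.cjg g) where
  toSt := h.toSt.cjg g
  cls a ha := ((isConj_iff.2 ⟨g, rfl⟩ : IsConj L.τ (L.cjg g).τ).symm.trans (h.cls a ha)).trans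
    (isConj_iff.2 ⟨g, rfl⟩)
  mv hle := h.mv (by
    have e1 : (L.cjg g).R = cj(g, L.R) := L.cjg_im g _
    have e2 : (L.cjg g).X = cj(g, L.X) := L.cjg_im g _
    rwa [e1, e2, ← cj_norm, ← cj_norm, cj_le_cj] at hle)

/-- `St` depends only on `S`, `C`, `τ`. -/
theorem St.of_eq (h : St L) {L' : Lt s G} (h' : OC L') (hS : L'.S = L.S) (hC : L'.C = L.C) (hτ : L'.τ = L.τ) :
    St L' where
  toOC := h'
  syl := hS ▸ h.syl
  nrm := by rw [hτ, hC]; exact h.nrm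
  odd := by rw [hτ]; exact h.odd

theorem KitG.R_eq (h : OC L) : L.R = L.S ⊓ 𝐂[L.Z] :=
  le_antisymm (le_inf (L.im_le_S _) (h.cent_Z.ge.trans inf_le_right))
    ((inf_le_inf_right _ L.S_le_C).trans h.cent_Z.le)

/-- `X`, `Z`, `R` depend only on `S`. -/
theorem OC.XZR_eq (h : OC L) {L' : Lt s G} (h' : OC L') (hS : L'.S = L.S) :
    L'.X = L.X ∧ L'.Z = L.Z ∧ L'.R = L.R := by
  have hX : L'.X = L.X := by rw [← h.cent_S, ← h'.cent_S, hS]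
  have hZ : L'.Z = L.Z := by
    ext g
    rw [h.mem_Z_iff, h'.mem_Z_iff, hS, hX]
  exact ⟨hX, hZ, by rw [KitG.R_eq h, KitG.R_eq h', hS, hZ]⟩

theorem KitG.exists_X {x : G} (hx : x ∈ L.X) (h1 : x ≠ 1) : ∃ a, a ≠ 0 ∧ L.u (w4 0 a) = x := by
  obtain ⟨p, hp, rfl⟩ := hx
  obtain ⟨a, rfl⟩ := mem_Xs_iff.1 hp
  refine ⟨a, ?_, rfl⟩
  rintro rfl
  exact h1 (map_one L.u)

theorem KitG.isConj_X (h : St2 L) {x : G} (hx : x ∈ L.X) (h1 : x ≠ 1) : IsConj L.τ x := by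
  obtain ⟨a, ha, rfl⟩ := KitG.exists_X hx h1
  exact h.cls a ha

theorem St2.of_eq (h : St2 L) {L' : Lt s G} (h' : OC L') (hS : L'.S = L.S) (hC : L'.C = L.C) (hτ : L'.τ = L.τ) :
    St2 L' where
  toSt := h.toSt.of_eq h' hS hC hτ
  cls a ha := by
    rw [hτ]
    refine KitG.isConj_X h ((h.toOC.XZR_eq h' hS).1 ▸ Lt.u_mem_im (by simp)) fun e => ha ?_
    rw [← map_one L'.u, h'.u_inj] at e
    exact congrArg SG.u4 e
  mv := by
    obtain ⟨h1, -, h2⟩ := h.toOC.XZR_eq h' hS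
    rw [h1, h2]
    exact h.mv

theorem St.le_C (h : St L) {P : Subgroup G} (hP : IsPGroup 2 P) (hn : P ≤ 𝐍[L.C]) : P ≤ L.C := by
  obtain ⟨x, hx, hle⟩ := (h.syl.mono (L.S_le_C.trans le_normalizer) le_top).le_conj hP hn
  exact hle.trans (cj_le_of_norm L.S_le_C hx)

/-- S2: a `2`-element normalizing `C` lies in `C`. -/
theorem St.mem_C_of_pow (h : St L) {g : G} (hg : g ∈ 𝐍[L.C]) {k : ℕ} (h2 : g ^ 2 ^ k = 1) : g ∈ L.C := by
  refine h.le_C (P := zpowers g) (pg_iff.2 fun x hx => ?_) (zpowers_le.2 hg) (mem_zpowers g)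
  obtain ⟨j, rfl⟩ := mem_zpowers_iff.1 hx
  exact ⟨k, by rw [← zpow_natCast, ← zpow_mul, mul_comm, zpow_mul, zpow_natCast, h2, one_zpow]⟩

/-- S1. -/
theorem St.mem_norm_C (h : St L) {g : G} (hg : g * L.τ * g⁻¹ ∈ L.X) : g ∈ 𝐍[L.C] := by
  have h' := h.cjg g
  have h1 : L.C ≤ 𝐍[(L.cjg g).C] := fun c hc =>
    h'.nrm (mem_c1.2 (mem_cent.1 (h.toRC.C_le_cent_X hc) _ hg).symm)
  have h2 : L.C ≤ (L.cjg g).C := by
    nth_rewrite 1 [h.toRC.C_eq]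
    exact sup_le (h'.le_C h.toRC.pg_S (L.S_le_C.trans h1))
      (h'.le_C (pg_cj h.toRC.pg_S _) ((cj_le_of_mem L.S_le_C L.n_mem_C).trans h1))
  rw [Lt.cjg_C] at h2
  exact cj_eq_iff.1 (cj_eq_of_ge h2)

theorem St.norm_X (h : St L) : 𝐍[L.X] = 𝐍[L.C] := by
  refine le_antisymm (fun g hg => h.mem_norm_C (conj_mem_of_norm hg L.τ_mem_X)) ?_
  rw [← h.toOC.cent_C]
  exact norm_inf le_rfl (norm_cent le_rfl)

theorem St.cent_C (h : St L) : 𝐂[L.C] = L.X := by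
  refine le_antisymm ?_ (cent_comm h.toRC.C_le_cent_X)
  have hτ : 𝐂[L.C] ≤ 𝐂₁[L.τ] := fun g hg => mem_c1.2 (mem_cent.1 hg _ L.τ_mem_C).symm
  have hO : GT.pPrimeCoreOf 2 𝐂[L.C] = ⊥ :=
    h.odd _ ((GT.pPrimeCoreOf_le _).trans hτ)
      ((norm_cent h.nrm).trans (GT.normalizer_le_normalizer_pPrimeCoreOf _))
      (Nat.coprime_two_right.1 (GT.coprime_card_pPrimeCoreOf 2 _))
  obtain ⟨P⟩ : Nonempty (Sylow 2 𝐂[L.C]) := inferInstance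
  have h1 : ∀ x ∈ (P : Subgroup 𝐂[L.C]), (x : G) ∈ L.C := fun x hx =>
    h.le_C (P.isPGroup'.map (𝐂[L.C]).subtype) ((map_subtype_le _).trans (cent_le_norm _))
      ⟨x, hx, rfl⟩
  have hP : normalizer ((P : Subgroup 𝐂[L.C]) : Set 𝐂[L.C]) ≤
      centralizer ((P : Subgroup 𝐂[L.C]) : Set 𝐂[L.C]) :=
    fun y _ x hx => Subtype.ext (mem_cent.1 y.2 _ (h1 x hx))
  have hc := MonoidHom.ker_transferSylow_isComplement' P hP
  have hK : (MonoidHom.transferSylow P hP).ker ≤ pPrimeCore 2 𝐂[L.C] :=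
    GT.le_pPrimeCore_of_not_dvd Nat.prime_two (MonoidHom.not_dvd_card_ker_transferSylow P hP)
  rw [GT.pPrimeCoreOf_eq_bot_iff.1 hO] at hK
  intro g hg
  obtain ⟨⟨x, y⟩, e⟩ := hc.2 (⟨g, hg⟩ : 𝐂[L.C])
  have e1 : (x : 𝐂[L.C]) = 1 := mem_bot.1 (hK x.2)
  have e2 : g = (y : 𝐂[L.C]) := by
    have := congrArg Subtype.val e
    simp only [e1, one_mul] at this
    exact this.symm
  exact h.toOC.cent_C.le ⟨e2 ▸ h1 _ y.2, hg⟩

/-- Frattini. -/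
theorem St.exists_norm_S (h : St L) {g : G} (hg : g ∈ 𝐍[L.C]) : ∃ c ∈ L.C, c * g ∈ 𝐍[L.S] := by
  obtain ⟨m, hm, k, hk, rfl⟩ := h.toOC.syl_C.frattini hg
  exact ⟨m⁻¹, inv_mem hm, by rwa [inv_mul_cancel_left]⟩

theorem St.norm_S_le (h : St L) : 𝐍[L.S] ≤ 𝐍[L.X] ⊓ 𝐍[L.Z] ⊓ 𝐍[L.R] := by
  intro g hg
  obtain ⟨h1, h2, h3⟩ := h.toOC.XZR_eq (h.toOC.cjg g) (by rw [Lt.cjg_S, cj_of_norm hg])
  exact ⟨⟨cj_eq_iff.1 ((L.cjg_im g _).symm.trans h1), cj_eq_iff.1 ((L.cjg_im g _).symm.trans h2)⟩,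
    cj_eq_iff.1 ((L.cjg_im g _).symm.trans h3)⟩

theorem OC.norm_R_le (h : OC L) : 𝐍[L.R] ≤ 𝐍[L.Z] := by
  rw [← h.cent_R]
  exact norm_inf le_rfl (norm_cent le_rfl)

/-- `X` is a TI-set. -/
theorem St2.ti (h : St2 L) {g x : G} (hx : x ∈ L.X) (h1 : x ≠ 1) (hg : g * x * g⁻¹ ∈ L.X) : g ∈ 𝐍[L.X] := by
  obtain ⟨a, rfl⟩ := isConj_iff.1 (KitG.isConj_X h hx h1)
  have h2 : g * a ∈ 𝐍[L.C] := h.toSt.mem_norm_C (by convert hg using 1; group)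
  rw [h.toSt.norm_X]
  exact (mul_mem_cancel_right (h.toSt.mem_norm_C hx)).1 h2

/-- All involutions of `Z` are conjugate to `τ`. -/
theorem St2.isConj_Z (h : St2 L) {z : G} (hz : z ∈ L.Z) (h1 : z ≠ 1) : IsConj L.τ z := by
  by_cases hX : z ∈ L.X
  · exact KitG.isConj_X h hX h1
  obtain ⟨g, hg, hn⟩ := SetLike.not_le_iff_exists.1 h.mv
  have hXZ : L.X ≤ L.Z := Lt.im_mono fun p hp => by simp_all
  obtain ⟨c, -, ec⟩ := h.toRC.conj_Z (conj_mem_of_norm (h.toOC.norm_R_le hg) (hXZ L.τ_mem_X))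
    fun hx => hn (h.toSt.norm_X ▸ h.toSt.mem_norm_C hx)
  obtain ⟨c', -, ec'⟩ := h.toRC.conj_Z hz hX
  exact ((isConj_iff.2 ⟨g, rfl⟩).trans (isConj_iff.2 ⟨c, ec⟩)).trans (isConj_iff.2 ⟨c', ec'⟩).symm

theorem St2.oddCore_eq_bot (h : St2 L) : oddCore G = ⊥ := by
  have h0 : oddCore G ⊓ 𝐂₁[L.τ] = ⊥ :=
    h.odd _ inf_le_right (norm_inf (norm_normal _ _) le_normalizer)
      (GT.odd_card_oddCore.of_dvd_nat (card_dvd_of_le inf_le_left))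
  have h1 : ∀ z, IsConj L.τ z → oddCore G ⊓ centralizer {z} ≤ ⊥ := fun z hz => by
    obtain ⟨a, rfl⟩ := isConj_iff.1 hz
    rw [← c1_eq, ← KitG.cj_c1, ← cj_normal (oddCore G) a, ← cj_inf, h0, cj_bot]
  have hw : IsConj L.τ (L.u (w6 0 1)) := h.isConj_Z (Lt.u_mem_im (by simp)) fun e => by
    rw [← map_one L.u, h.toOC.u_inj] at e
    exact one_ne_zero (congrArg SG.u6 e)
  have hw' : IsConj L.τ (L.τ * L.u (w6 0 1)) := by
    rw [Lt.τ, ← map_mul]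
    refine h.isConj_Z (Lt.u_mem_im (by simp)) fun e => ?_
    rw [← map_one L.u, h.toOC.u_inj] at e
    simpa using congrArg SG.u6 e
  have ho : orderOf (L.u (w6 0 1)) = 2 := by
    obtain ⟨a, e⟩ := isConj_iff.1 hw
    rw [← e, ← h.toOC.orderOf_τ]
    exact (MulAut.conj a).orderOf_eq _
  refine le_bot_iff.1 (GT.le_of_four_group h.toOC.orderOf_τ ho (fun e => ?_)
    (mem_c1.1 (h.toRC.C_le_cent_τ (L.u_mem_C _))).symm (norm_normal ⊤ _ (mem_top _))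
    (norm_normal ⊤ _ (mem_top _)) (Nat.two_dvd_ne_zero.2 (Nat.odd_iff.1 GT.odd_card_oddCore))
    (h1 _ (IsConj.refl _)) (h1 _ hw) (h1 _ hw'))
  simpa using congrArg SG.u6 (h.toOC.u_inj.1 e)

end Cfsg.Agent.Og
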