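import Mathlib
import Cfsg.Agent.Og.KitG
import Cfsg.Agent.Og.AutB
import Cfsg.Agent.Og.AutC
import Cfsg.Agent.GT.SchurZassenhaus

set_option autoImplicit false
set_option linter.unusedSectionVars false

namespace Cfsg.Agent.Og

open Cfsg.Agent.Loc.Mss Subgroup SG
open scoped commutatorElement Pointwise

variable {K : Type*} [Field K] [CharP K 2] [Finite K] {s : Sg K} {G : Type*} [Group G]

/-! Automorphisms of `C` of odd order that centralize `H₁`. -/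

variable [Finite G] {L : Lt s G}

/-- An element of odd order normalizing `C` and centralizing `H₁` acts as a diagonal automorphism on `C/Q`
and on `Q/V`. -/
theorem OC.aut_dg (h : OC L) (hq : ∃ c : Kˣ, c ≠ 1) {g : G} (ho : Odd (orderOf g)) (hC : g ∈ 𝐍[L.C])
    (h1 : g ∈ 𝐂[L.H1]) : ∃ α β : Kˣ,
      (∀ p, g * L.u p * g⁻¹ * (L.u (dl α β p))⁻¹ ∈ L.Q) ∧
      g * L.n * g⁻¹ * (L.h (s.σu β) * L.n)⁻¹ ∈ L.Q ∧
      ∀ p ∈ Qs s, g * L.u p * g⁻¹ * (L.u (dl α β p))⁻¹ ∈ L.V := h.aut_dg0 hq ho hC h1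

theorem OC.adjust_top (h : OC L) (ht : L.C = ⊤) {H : Subgroup (MulAut G)} (ho : Odd (Nat.card H))
    (h1 : ∀ c, MulAut.conj (L.h c) ∈ H)
    (hd : ∀ k ∈ H, ∃ α β : Kˣ, ∀ p ∈ Qs s, k (L.u p) * (L.u (dl α β p))⁻¹ ∈ L.V) :
    ∃ b : MulAut G, (∀ c, b (L.h c) = L.h c) ∧ L.S.map b.toMonoidHom = L.S ∧ b L.τ = L.τ ∧
      ∀ k ∈ H, ∃ α β : Kˣ, (∀ p, k (b (L.u p)) = b (L.u (dl α β p))) ∧ (∀ c, k (b (L.h c)) = b (L.h c)) ∧
        k (b L.n) = b (L.h (s.σu β) * L.n) := by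
  have hc := h.chain ht
  obtain ⟨t, htt⟩ := h.exists_tor ht
  have tQ : ∀ x, ∀ y ∈ L.Q, t x y ∈ L.Q := by
    rintro x _ ⟨p, hp, rfl⟩
    rw [(htt x).1]
    exact Lt.u_mem_im (by simp_all)
  have tV : ∀ x, ∀ y ∈ L.V, t x y ∈ L.V := by
    rintro x _ ⟨p, hp, rfl⟩
    rw [(htt x).1]
    exact Lt.u_mem_im (by simp_all)
  have hN : t.range ≤ 𝐍[hc.A0] := by
    refine le_normalizer_iff.mpr ?_
    rintro _ ⟨x, rfl⟩ ψ hψ y hy
    have := tV x _ (hψ _ (tQ x⁻¹ y hy))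
    simpa [MulAut.mul_apply] using this
  have oT : Odd (Nat.card t.range) := by
    refine Odd.of_dvd_nat ?_ (card_dvd_of_surjective t.rangeRestrict t.rangeRestrict_surjective)
    rw [Nat.card_prod]
    exact Sg.odd_card_units.mul Sg.odd_card_units
  obtain ⟨j, hj⟩ := hc.pg_A0.exists_card_eq
  have cop : ∀ m, Odd m → (Nat.card hc.A0).Coprime m := fun m hm => by
    rw [hj]; exact (Nat.coprime_two_left.mpr hm).pow_left j
  have hle : H ≤ hc.A0 ⊔ t.range := fun k hk => by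
    obtain ⟨α, β, e⟩ := hd k hk
    have : k * (t (α, β))⁻¹ ∈ hc.A0 := by
      intro y hy
      obtain ⟨p, hp, e2⟩ := tQ (α, β)⁻¹ y hy
      have e3 : y = L.u (dl α β p) := by
        rw [← (htt (α, β)).1, e2, map_inv, MulAut.apply_inv_self]
      rw [MulAut.mul_apply, ← map_inv, ← e2]
      nth_rewrite 1 [e3]
      exact e p hp
    simpa using mul_mem (mem_sup_left this) (mem_sup_right (S := hc.A0) (t.mem_range.mpr ⟨(α, β), rfl⟩))
  obtain ⟨a, ha, hH⟩ := GT.conj_le_of_coprime_le_sup hc.A0 t.range H hN (cop _ oT) (cop _ ho) hle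
    (Or.inl (by have := hc.pg_A0.isNilpotent; infer_instance))
  have hk : ∀ k ∈ H, ∃ x, t x = a * k * a⁻¹ := fun k hk => hH (smul_mem_pointwise_smul k _ H hk)
  have ha' := inv_mem ha
  have bS : ∀ p, a⁻¹ (L.u p) ∈ L.S := fun p => by
    have h2 : a⁻¹ (L.u p) * (L.u p)⁻¹ ∈ L.Q := by
      refine h.mem_Q_of_comm (ht ▸ mem_top _) fun x hx => Lt.im_mono Vs_le_Ys ?_
      have nV : L.V.Normal := normal_of_top (ht ▸ h.C_le_norm_V)
      have e1 := ha' x hx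
      have e2 := ha' _ (hc.qn.conj_mem x hx (L.u p)⁻¹)
      simp only [map_mul, map_inv, inv_inv] at e2
      generalize a⁻¹ (L.u p) = z at e2
      generalize a⁻¹ x = x' at e1 e2
      have := mul_mem (inv_mem (nV.conj_mem _ e2 z)) e1
      convert this using 1
      rw [commutatorElement_def]; group
    simpa using mul_mem (L.im_le_S _ h2) (L.u_mem_S p)
  refine ⟨a⁻¹, fun c => ?_, ?_, hc.onX ha' L.τ_mem_X, fun k hkH => ?_⟩
  · have hT : MulAut.conj (L.h c) ∈ t.range := ⟨s.hT c, Lt.aut_ext ht (fun p => by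
        rw [(htt _).1, MulAut.conj_apply, h.hu, dh_eq]; rfl) (fun d => by
        rw [(htt _).2.1, MulAut.conj_apply, ← map_inv, ← map_mul, ← map_mul, mul_inv_cancel_comm]) (by
        have e5 := h.nh c⁻¹
        rw [inv_inv] at e5
        rw [(htt _).2.2, MulAut.conj_apply, Sg.hT_apply, Sg.σu_σu, pow_two, map_mul, ← map_inv, mul_assoc,
          mul_assoc]
        congr 1
        rw [← e5, mul_assoc, h.nn, mul_one])⟩
    obtain ⟨x, hx⟩ := hk _ (h1 c)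
    have e1 : a * MulAut.conj (L.h c) * a⁻¹ * (MulAut.conj (L.h c))⁻¹ ∈ hc.A0 ⊓ t.range := by
      refine mem_inf.mpr ⟨?_, mul_mem ⟨x, hx⟩ (inv_mem hT)⟩
      simpa only [mul_assoc] using mul_mem ha (conj_mem_of_norm (hN hT) ha')
    rw [(disjoint_of_coprime_natCard (cop _ oT)).eq_bot, mem_bot, mul_inv_eq_one, mul_inv_eq_iff_eq_mul] at e1
    have e2 : a⁻¹ (L.h c) * (L.h c)⁻¹ ∈ L.X := hc.cq _ fun y _ => by
      have e3 := congrArg (fun ψ : MulAut G => a⁻¹ (ψ (a⁻¹ (a ((L.h c)⁻¹ * y * L.h c))))) e1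
      simp only [MulAut.mul_apply, MulAut.conj_apply, MulAut.inv_apply_self,
        map_mul a⁻¹, map_inv a⁻¹] at e3
      generalize a⁻¹ (L.h c) = z at e3
      calc z * (L.h c)⁻¹ * y = z * ((L.h c)⁻¹ * y * L.h c) * z⁻¹ * z * (L.h c)⁻¹ := by group
        _ = _ := by rw [← e3]; group
    have hm : c ^ Nat.card Kˣ = 1 := pow_card_eq_one'
    obtain ⟨m, em⟩ := Sg.odd_card_units (K := K)
    have e3 : a⁻¹ (L.h c) = a⁻¹ (L.h c) * (L.h c)⁻¹ * L.h c := by group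
    have e4 : (a⁻¹ (L.h c)) ^ Nat.card Kˣ = 1 := by rw [← map_pow, ← map_pow, hm, map_one, map_one]
    rw [e3, (hc.xc _ e2 _).mul_pow, ← map_pow, hm, map_one, mul_one, em, pow_succ, pow_mul, pow_two,
      hc.sq _ (hc.xv e2), one_pow, one_mul] at e4
    exact mul_inv_eq_one.mp e4
  · refine eq_of_le_of_card_ge ?_ (card_map_of_injective a⁻¹.injective).ge
    rintro _ ⟨_, ⟨p, rfl⟩, rfl⟩
    exact bS p
  · obtain ⟨x, hx⟩ := hk k hkH
    have e : ∀ y, k (a⁻¹ y) = a⁻¹ (t x y) := fun y => by rw [hx]; simp [MulAut.mul_apply]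
    exact ⟨x.1, x.2, fun p => by rw [e, (htt x).1], fun c => by rw [e, (htt x).2.1], by rw [e, (htt x).2.2]⟩

/-- The letters can be adjusted so that a group of odd order normalizing `C` and centralizing `H₁` acts
diagonally. -/
theorem OC.adjust (h : OC L) (hq : ∃ c : Kˣ, c ≠ 1) {H : Subgroup G} (ho : Odd (Nat.card H))
    (hC : H ≤ 𝐍[L.C]) (h1 : H ≤ 𝐂[L.H1]) (h1' : L.H1 ≤ H) :
    ∃ L' : Lt s G, OC L' ∧ L'.h = L.h ∧ L'.S = L.S ∧ L'.C = L.C ∧ L'.τ = L.τ ∧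
      ∀ k ∈ H, ∃ α β : Kˣ, L'.Acts k α β := by
  let f : H →* MulAut L.C := L.C.normalizerMonoidHom.comp (inclusion hC)
  have hf : ∀ (k : H) (x : L.C), (f k x : G) = k * x * (k : G)⁻¹ := fun k x => rfl
  obtain ⟨b, b1, b2, b3, b4⟩ := h.inC.adjust_top L.inC_C (H := f.range)
    (ho.of_dvd_nat (card_dvd_of_surjective f.rangeRestrict f.rangeRestrict_surjective))
    (fun c => ⟨⟨L.h c, h1' (L.h_mem_H1 c)⟩, MulEquiv.ext fun x => Subtype.ext rfl⟩) (by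
      rintro _ ⟨k, rfl⟩
      obtain ⟨α, β, -, -, e⟩ := h.aut_dg hq (g := k) (ho.of_dvd_nat (H.orderOf_dvd_natCard k.2)) (hC k.2)
        (h1 k.2)
      exact ⟨α, β, fun p hp => Lt.mem_inC_im.mpr (e p hp)⟩)
  have hm : L.inC.map L.C.subtype = L := rfl
  refine ⟨L.inC.map (L.C.subtype.comp b.toMonoidHom), h.inC.map (L.C.subtype_injective.comp b.injective),
    MonoidHom.ext fun c => congrArg Subtype.val (b1 c), ?_, ?_, congrArg Subtype.val b3, fun k hk => ?_⟩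
  · rw [Lt.map_S, ← map_map, b2, ← Lt.map_S, hm]
  · rw [Lt.map_C, ← map_map, L.inC_C, map_top_of_surjective _ b.surjective, ← MonoidHom.range_eq_map,
      range_subtype]
  · obtain ⟨α, β, e1, e2, e3⟩ := b4 _ ⟨⟨k, hk⟩, rfl⟩
    refine ⟨α, β, fun p => congrArg Subtype.val (e1 p), fun c => congrArg Subtype.val (e2 c), ?_⟩
    rw [map_mul] at e3
    exact congrArg Subtype.val e3

theorem Lt.Acts.mem_norm {k : G} {α β : Kˣ} (hk : L.Acts k α β) : k ∈ 𝐍[L.C] := by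
  refine mem_norm_of_cj_le (cj_le_iff_le_inv.mpr (L.C_le (fun p => ?_) (fun c => ?_) ?_)) <;>
    rw [mem_cj, inv_inv]
  · rw [hk.u]; exact L.u_mem_C _
  · rw [hk.h]; exact L.h_mem_C _
  · rw [hk.n]; exact mul_mem (L.h_mem_C _) L.n_mem_C

/-- The centralizer of `H₁` in `N(C)` is `U₄ H`. -/
theorem St.cent_H1 (h : St L) (hq : ∃ c : Kˣ, c ≠ 1) {H : Subgroup G} (h1 : L.H1 ≤ H)
    (hT : ∀ α β : Kˣ, ∃ k ∈ H, L.Acts k α β) {g : G} (hC : g ∈ 𝐍[L.C]) (hg : g ∈ 𝐂[L.H1]) :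
    ∃ a v, ∃ k ∈ H, g = L.u (w4 a v) * k := by
  obtain ⟨c, hc⟩ := id hq
  have inC : ∀ x ∈ L.C, x ∈ 𝐂[L.H1] → ∃ a v d, x = L.u (w4 a v) * L.h d := fun x hx hx' =>
    h.cent_h hc hx (mem_cent.mp hx' _ (L.h_mem_H1 c)).symm
  have odd : ∀ x ∈ 𝐍[L.C], x ∈ 𝐂[L.H1] → Odd (orderOf x) → ∃ y ∈ L.C, ∃ k ∈ H, y ∈ 𝐂[L.H1] ∧
      x = y * k := fun x hx hx' ho => by
    obtain ⟨α, β, -, -, e⟩ := h.toOC.aut_dg hq ho hx hx'
    obtain ⟨k, hk, ha⟩ := hT α β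
    have kc : k ∈ 𝐂[L.H1] := mem_cent.mpr (by
      rintro _ ⟨d, rfl⟩
      exact (mul_inv_eq_iff_eq_mul.mp (ha.h d)).symm)
    have hy := mul_mem hx (inv_mem ha.mem_norm)
    refine ⟨x * k⁻¹, ?_, k, hk, mul_mem hx' (inv_mem kc), by group⟩
    have e8 := (h.toOC.inC.chain L.inC_C).pow8 (ψ := L.C.normalizerMonoidHom ⟨_, hy⟩) (by
      rintro _ ⟨p, hp, rfl⟩
      rw [Lt.mem_inC_im]
      obtain ⟨r, rfl⟩ := (dlE s α β).surjective p
      have hr : r ∈ Qs s := by simpa using hp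
      change x * k⁻¹ * L.u (dl α β r) * (x * k⁻¹)⁻¹ * (L.u (dl α β r))⁻¹ ∈ L.V
      nth_rewrite 1 [← ha.u]
      simpa [mul_assoc] using e r hr)
    have e9 : (x * k⁻¹) ^ 8 ∈ L.X := by
      rw [← h.cent_C, mem_cent]
      intro z hz
      rw [← map_pow] at e8
      have := congrArg (fun ψ : MulAut L.C => (ψ ⟨z, hz⟩ : G)) e8
      exact (mul_inv_eq_iff_eq_mul.mp this).symm
    obtain ⟨p, hp, e10⟩ := e9
    refine h.mem_C_of_pow hy (k := 4) ?_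
    rw [show 2 ^ 4 = 8 + 8 from rfl, pow_add, ← e10, ← map_mul, V_sq (Xs_le_Vs hp), map_one]
  obtain ⟨j, hj⟩ := exists_pow_coprime (p := 2) g
  obtain ⟨m, hm⟩ := exists_pow_eq_self_of_coprime (hj.pow_right j).symm
  have hx : ∀ i, g ^ i ∈ 𝐍[L.C] ∧ g ^ i ∈ 𝐂[L.H1] := fun i => ⟨pow_mem hC i, pow_mem hg i⟩
  have ho : Odd (orderOf ((g ^ 2 ^ j) ^ m)) :=
    (Nat.coprime_two_right.mp hj).of_dvd_nat (orderOf_pow_dvd m)
  rw [← pow_mul] at ho
  obtain ⟨y, hy, k, hk, hy', e⟩ := odd _ (hx _).1 (hx _).2 ho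
  have h2 : g * (g ^ (2 ^ j * m))⁻¹ ∈ L.C := by
    refine h.mem_C_of_pow (mul_mem hC (inv_mem (hx _).1)) (k := j) ?_
    rw [((Commute.refl g).pow_right _).inv_right.mul_pow, inv_pow, mul_inv_eq_one, pow_mul, ← pow_mul _ m,
      mul_comm m, pow_mul, hm]
  obtain ⟨a, v, d, e2⟩ := inC _ (mul_mem h2 hy) (mul_mem (mul_mem hg (inv_mem (hx _).2)) hy')
  refine ⟨a, v, L.h d * k, mul_mem (h1 (L.h_mem_H1 d)) hk, ?_⟩
  rw [← mul_assoc, ← e2, mul_assoc, ← e, inv_mul_cancel_right]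

end Cfsg.Agent.Og
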