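import Mathlib
import Cfsg.Agent.Og.KitG

/-! The conjugates of `X` in `Z` are the lines; an element swapping `X` and `V₆`. -/

set_option autoImplicit false
set_option linter.unusedSectionVars false

namespace Cfsg.Agent.Og

open Cfsg.Agent.Loc.Mss Subgroup SG
open scoped commutatorElement

variable {K : Type*} [Field K] [CharP K 2] [Finite K] {s : Sg K} {G : Type*} [Group G] [Finite G]

namespace SG

/-- The elements of `Z`. -/
@[simps] def zv (e b : K) : SG s := ⟨0, 0, 0, 0, 0, e, 0, 0, b, 0, 0, 0⟩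

theorem zv_mul (e b e' b' : K) : (zv e b * zv e' b' : SG s) = zv (e + e') (b + b') := by ext <;> simp
theorem zv_w4 (e : K) : (zv e 0 : SG s) = w4 0 e := rfl
theorem zv_w6 (b : K) : (zv 0 b : SG s) = w6 0 b := rfl
theorem x1_zv (a e b : K) : (x1 a * zv e b * (x1 a)⁻¹ : SG s) = zv (e + a * b) b := by
  ext <;> simp <;> grind
theorem x1_mul_self (a : K) : (x1 a * x1 a : SG s) = 1 := by ext <;> simp <;> grind
theorem zv_eq_one {e b : K} : (zv e b : SG s) = 1 ↔ e = 0 ∧ b = 0 :=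
  ⟨fun h => ⟨congrArg SG.u4 h, congrArg SG.u6 h⟩, by rintro ⟨rfl, rfl⟩; rfl⟩
theorem zv_inj {e b e' b' : K} : (zv e b : SG s) = zv e' b' ↔ e = e' ∧ b = b' :=
  ⟨fun h => ⟨congrArg SG.u4 h, congrArg SG.u6 h⟩, by rintro ⟨rfl, rfl⟩; rfl⟩

end SG

variable {L : Lt s G}

theorem Lt.mem_Z {g : G} : g ∈ L.Z ↔ ∃ e b, g = L.u (zv e b) :=
  ⟨by rintro ⟨p, hp, rfl⟩; exact ⟨p.u4, p.u6, congrArg _ (by ext <;> simp_all)⟩,
    by rintro ⟨e, b, rfl⟩; exact Lt.u_mem_im (by simp)⟩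

theorem Lt.mem_X {g : G} : g ∈ L.X ↔ ∃ e, g = L.u (zv e 0) :=
  ⟨by rintro ⟨p, hp, rfl⟩; exact ⟨p.u4, congrArg _ (by ext <;> simp_all)⟩,
    by rintro ⟨e, rfl⟩; exact Lt.u_mem_im (by simp)⟩

theorem Lt.mem_V6 {g : G} : g ∈ L.V6 ↔ ∃ b, g = L.u (zv 0 b) :=
  ⟨by rintro ⟨p, hp, rfl⟩; exact ⟨p.u6, congrArg _ (by ext <;> simp_all)⟩,
    by rintro ⟨e, rfl⟩; exact Lt.u_mem_im (by simp)⟩

theorem Lt.X_le_Z (L : Lt s G) : L.X ≤ L.Z := Lt.im_mono fun p hp => by simp_all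
theorem Lt.V6_le_Z (L : Lt s G) : L.V6 ≤ L.Z := Lt.im_mono fun p hp => by simp_all

theorem Lt.x1_zv (L : Lt s G) (a e b : K) :
    L.u (x1 a) * L.u (zv e b) * (L.u (x1 a))⁻¹ = L.u (zv (e + a * b) b) := by
  rw [← map_inv, ← map_mul, ← map_mul, SG.x1_zv]

theorem RC.h_zv (h : RC L) (c : Kˣ) (e b : K) :
    L.h c * L.u (zv e b) * (L.h c)⁻¹ = L.u (zv e (c * s.σ c * b)) := by
  rw [h.hu]; congr 1; ext <;> simp

theorem OC.zv_mem_X (h : OC L) {e b : K} : L.u (zv e b) ∈ L.X ↔ b = 0 := by simp [h.u_mem_im]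
theorem OC.zv_mem_V6 (h : OC L) {e b : K} : L.u (zv e b) ∈ L.V6 ↔ e = 0 := by simp [h.u_mem_im]

theorem OC.X_ne_V6 (h : OC L) : L.X ≠ L.V6 := fun e => by
  have := h.zv_mem_V6.mp (e ▸ (h.zv_mem_X (e := 1)).mpr rfl)
  simp at this

theorem OC.X_sup_V6 (h : OC L) : L.X ⊔ L.V6 = L.Z := by
  refine le_antisymm (sup_le L.X_le_Z L.V6_le_Z) fun g hg => ?_
  obtain ⟨e, b, rfl⟩ := Lt.mem_Z.mp hg
  have : (zv e b : SG s) = zv e 0 * zv 0 b := by simp [zv_mul]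
  rw [this, map_mul]
  exact mul_mem_sup (h.zv_mem_X.mpr rfl) (h.zv_mem_V6.mpr rfl)

/-- The line through `(a, 1)`. -/
theorem OC.zv_mem_line (h : OC L) {a e b : K} : L.u (zv e b) ∈ cj(L.u (x1 a), L.V6) ↔ e = a * b := by
  have h1 : (L.u (x1 a))⁻¹ = L.u (x1 a) :=
    inv_eq_of_mul_eq_one_right (by rw [← map_mul, x1_mul_self, map_one])
  rw [mem_cj, h1]
  nth_rewrite 2 [← h1]
  rw [L.x1_zv, h.zv_mem_V6]
  exact CharTwo.add_eq_zero

theorem St2.ti2 (h : St2 L) {a b x : G} (ha : x ∈ cj(a, L.X)) (hb : x ∈ cj(b, L.X)) (h1 : x ≠ 1) :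
    cj(a, L.X) = cj(b, L.X) := by
  rw [mem_cj] at ha hb
  have h2 : b⁻¹ * a ∈ 𝐍[L.X] := h.ti ha (by simpa [mul_eq_one_iff_eq_inv, mul_assoc] using h1)
    (by simpa [mul_assoc] using hb)
  have h3 := cj_of_norm h2
  rw [← cj_cj, ← cj_eq_cj (g := b), cj_cj_inv] at h3
  exact h3

theorem OC.exists_ne_one_cj (h : OC L) (a : G) : ∃ x ∈ cj(a, L.X), x ≠ 1 :=
  ⟨_, conj_mem_cj L.τ_mem_X, fun e => by
    have : L.τ = 1 := by simpa [mul_eq_one_iff_eq_inv] using e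
    simpa [this] using h.orderOf_τ⟩

/-- A conjugate of `X` in `Z` through `w₆(0,1)` is `V₆`. -/
theorem St2.eq_V6 (h : St2 L) {g : G} (hZ : cj(g, L.X) ≤ L.Z) (h1 : L.u (zv 0 1) ∈ cj(g, L.X)) :
    cj(g, L.X) = L.V6 := by
  have hX : ∀ e, L.u (zv e 0) ∈ cj(g, L.X) → e = 0 := fun e he => by
    by_contra h0
    have := h.ti2 (b := 1) he (by rw [cj_one]; exact h.zv_mem_X.mpr rfl)
      (fun e' => h0 (zv_eq_one.mp (h.inj (e'.trans (map_one _).symm))).1)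
    rw [this, cj_one, h.zv_mem_X] at h1
    exact one_ne_zero h1
  have step : ∀ e b, b ≠ 0 → L.u (zv e b) ∈ cj(g, L.X) → ∀ e' b', L.u (zv e' b') ∈ cj(g, L.X) →
      L.u (zv (e' + e * b') (b * b')) ∈ cj(g, L.X) := by
    intro e b hb he e' b' he'
    obtain ⟨c, hc⟩ := s.exists_wt' 1 1 (by norm_num) hb
    simp only [pow_one] at hc
    have h2 : cj(L.u (x1 (e / b)) * L.h c * g, L.X) = cj(g, L.X) := by
      refine h.ti2 ?_ he (fun e' => hb (zv_eq_one.mp (h.inj (e'.trans (map_one _).symm))).2)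
      have := conj_mem_cj (g := L.u (x1 (e / b))) (conj_mem_cj (g := L.h c) h1)
      rw [h.h_zv, L.x1_zv, hc, mul_one, zero_add, div_mul_cancel₀ _ hb] at this
      rwa [cj_cj, cj_cj] at this
    have := conj_mem_cj (g := L.u (x1 (e / b))) (conj_mem_cj (g := L.h c) he')
    rw [h.h_zv, L.x1_zv, hc, cj_cj, cj_cj, h2, ← mul_assoc, div_mul_cancel₀ _ hb] at this
    exact this
  have hle : cj(g, L.X) ≤ L.V6 := fun y hy => by
    obtain ⟨e, b, rfl⟩ := Lt.mem_Z.mp (hZ hy)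
    rw [h.zv_mem_V6]
    by_cases hb : b = 0
    · subst hb; exact hX e hy
    have hy' : L.u (zv e (1 + b)) ∈ cj(g, L.X) := by
      have := mul_mem h1 hy
      rwa [← map_mul, zv_mul, zero_add] at this
    by_cases hb' : 1 + b = 0
    · rw [hb'] at hy'; exact hX e hy'
    have := mul_mem (mul_mem hy (step e b hb hy e b hy)) (step e _ hb' hy' e b hy)
    rw [← map_mul, ← map_mul, zv_mul, zv_mul, show b + b * b + (1 + b) * b = 0 by grind] at this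
    have := hX _ this
    grind
  refine eq_of_le_of_card_ge hle ?_
  rw [card_cj, h.card_im, h.card_im, card_V6s, card_Xs]

theorem St2.exists_V6 (h : St2 L) : ∃ g ∈ 𝐍[L.R], cj(g, L.X) = L.V6 := by
  obtain ⟨g, hg, hg'⟩ := SetLike.not_le_iff_exists.mp h.mv
  have h1 : g * L.τ * g⁻¹ ∈ L.Z := conj_mem_of_norm (h.toOC.norm_R_le hg) (L.X_le_Z L.τ_mem_X)
  have h2 : g * L.τ * g⁻¹ ∉ L.X := fun e => hg' (h.toSt.norm_X ▸ h.toSt.mem_norm_C e)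
  obtain ⟨c, hc, e⟩ := h.toRC.conj_Z h1 h2
  have h3 := mul_mem (h.toRC.B_le_norm_R hc) hg
  refine ⟨c * g, h3, h.eq_V6 (cj_le_of_norm L.X_le_Z (h.toOC.norm_R_le h3)) ?_⟩
  rw [zv_w6, ← e, ← cj_cj]
  exact conj_mem_cj (conj_mem_cj L.τ_mem_X)

/-- The conjugates of `X` in `Z` are lines. -/
theorem St2.exists_line (h : St2 L) {a : G} (hZ : cj(a, L.X) ≤ L.Z) (hX : cj(a, L.X) ≠ L.X) :
    ∃ b, cj(a, L.X) = cj(L.u (x1 b), L.V6) := by
  obtain ⟨g, -, hg⟩ := h.exists_V6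
  obtain ⟨x, hx, h1⟩ := h.toOC.exists_ne_one_cj a
  obtain ⟨e, b, rfl⟩ := Lt.mem_Z.mp (hZ hx)
  have hb : b ≠ 0 := by
    rintro rfl
    exact hX ((h.ti2 (b := 1) hx (by rw [cj_one]; exact h.zv_mem_X.mpr rfl) h1).trans (cj_one _))
  refine ⟨e / b, ?_⟩
  have := h.toOC.zv_mem_line (a := e / b) (e := e) (b := b) |>.mpr (div_mul_cancel₀ _ hb).symm
  rw [← hg, cj_cj] at this ⊢
  exact h.ti2 hx this h1

theorem St2.exists_swap (h : St2 L) : ∃ g ∈ 𝐍[L.R], cj(g, L.X) = L.V6 ∧ cj(g, L.V6) = L.X := by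
  obtain ⟨g, hg, hX⟩ := h.exists_V6
  have hZ : (L.cjg g).Z = L.Z := (L.cjg_im g _).trans (cj_of_norm (h.toOC.norm_R_le hg))
  have hR : (L.cjg g).R = L.R := (L.cjg_im g _).trans (cj_of_norm hg)
  have hX' : (L.cjg g).X = L.V6 := (L.cjg_im g _).trans hX
  have e : cj(g⁻¹, (L.cjg g).X) = L.X := by rw [Lt.X, L.cjg_im, cj_inv_cj]
  obtain ⟨b, hb⟩ := (h.cjg g).exists_line (a := g⁻¹) (by rw [e, hZ]; exact L.X_le_Z)
    (by rw [e, hX']; exact h.X_ne_V6)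
  rw [e, Lt.V6, L.cjg_im, cj_cj] at hb
  refine ⟨_, mul_mem (hR ▸ (h.cjg g).toRC.B_le_norm_R (Lt.u_mem_B _ _)) hg, ?_, hb.symm⟩
  rw [← cj_cj, hX, ← hX']
  exact cj_of_cent ((h.cjg g).toRC.C_le_cent_X (Lt.u_mem_C _ _))

end Cfsg.Agent.Og
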