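import Mathlib
import Cfsg.Agent.Og.BA
import Cfsg.Agent.Og.Aut
import Cfsg.Agent.GT.SchurZassenhaus

/-! The torus. -/

set_option autoImplicit false
set_option linter.unusedSectionVars false

namespace Cfsg.Agent.Og

open Cfsg.Agent.Loc.Mss Subgroup SG
open scoped commutatorElement Pointwise

variable {K : Type*} [Field K] [CharP K 2] [Finite K] {s : Sg K} {G : Type*} [Group G] [Finite G] {L : Lt s G}

theorem RC.H1_le_norm_V6 (h : RC L) : L.H1 ≤ 𝐍[L.V6] :=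
  norm_of_forall_cj_le <| by
    rintro _ ⟨c, rfl⟩
    refine cj_le_iff.mpr fun a ha => ?_
    obtain ⟨b, rfl⟩ := Lt.mem_V6.mp ha
    rw [h.h_zv]; exact Lt.mem_V6.mpr ⟨_, rfl⟩

theorem OC.R_le_cent_Z (h : OC L) : L.R ≤ 𝐂[L.Z] := h.cent_Z.ge.trans inf_le_right

theorem OC.R_le_norm_V6 (h : OC L) : L.R ≤ 𝐍[L.V6] :=
  norm_of_cent (h.R_le_cent_Z.trans (cent_anti L.V6_le_Z))

theorem OC.mem_Rs_of_norm (h : OC L) {p : SG s} (hp : L.u p ∈ 𝐍[L.V6]) : p ∈ Rs s := by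
  obtain ⟨r, hr, e⟩ := exists_mul_R p
  rw [e, map_mul, Subgroup.mul_mem_cancel_right _ (h.R_le_norm_V6 (Lt.u_mem_im hr))] at hp
  have := conj_mem_of_norm hp (h.zv_mem_V6 (b := 1) |>.mpr rfl)
  rw [L.x1_zv, h.zv_mem_V6] at this
  simpa using this

theorem OC.mem_R_H1 (h : OC L) {g : G} (hC : g ∈ L.C) (hV : g ∈ 𝐍[L.V6]) :
    ∃ p ∈ Rs s, ∃ c, g = L.u p * L.h c := by
  have hZ : g ∈ 𝐍[L.Z] := by
    rw [← h.X_sup_V6]
    exact norm_sup (X := L.C ⊓ 𝐍[L.V6]) (inf_le_left.trans (norm_of_cent h.toRC.C_le_cent_X)) inf_le_right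
      ⟨hC, hV⟩
  obtain ⟨p, c, rfl⟩ := h.toRC.mem_B.mp (h.norm_Z.le ⟨hC, hZ⟩)
  rw [Subgroup.mul_mem_cancel_right _ (h.toRC.H1_le_norm_V6 (L.h_mem_H1 c))] at hV
  exact ⟨p, h.mem_Rs_of_norm hV, c, rfl⟩

theorem St.mem_R_of_pow (h : St L) {g : G} (hX : g ∈ 𝐍[L.X]) (hV : g ∈ 𝐍[L.V6]) {k : ℕ}
    (h2 : g ^ 2 ^ k = 1) : g ∈ L.R := by
  have hC := h.mem_C_of_pow (h.norm_X ▸ hX) h2
  obtain ⟨p, -, c, e⟩ := h.toOC.mem_R_H1 hC hV
  obtain ⟨r, rfl⟩ := h.toOC.mem_S_of_pow (h.toRC.mem_B.mpr ⟨p, c, e⟩) h2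
  exact Lt.u_mem_im (h.toOC.mem_Rs_of_norm hV)

theorem St.norm_XV_le (h : St L) : 𝐍[L.X] ⊓ 𝐍[L.V6] ≤ 𝐍[L.R] := by
  rw [← h.toOC.cent_Z, ← h.toOC.X_sup_V6]
  exact norm_inf (inf_le_left.trans h.norm_X.le) (norm_cent (norm_sup inf_le_left inf_le_right))

theorem OC.eq_one_of_cent_V6 (h : OC L) {c : Kˣ} (hc : L.h c ∈ 𝐂[L.V6]) : c = 1 := by
  have h1 := mem_cent.mp hc _ (h.zv_mem_V6 (b := 1) |>.mpr rfl)
  have h2 := h.toRC.h_zv c 0 1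
  rw [← h1, mul_inv_cancel_right, h.u_inj, zv_inj] at h2
  exact s.eq_one_of_wt' 1 1 (by norm_num) (by simpa using h2.2.symm)

theorem OC.odd_H1 (h : OC L) : Odd (Nat.card L.H1) := h.card_H1 ▸ Sg.odd_card_units

theorem St2.exists_H (h : St2 L) : ∃ g ∈ 𝐍[L.R], cj(g, L.X) = L.V6 ∧ cj(g, L.V6) = L.X ∧
    cj(g, L.H1) ≤ 𝐂[L.H1] ∧ cj(g, cj(g, L.H1)) = L.H1 := by
  obtain ⟨g0, hg0, hX, hV⟩ := h.exists_swap
  set D := 𝐍[L.X] ⊓ 𝐍[L.V6] with hD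
  have hRD : L.R ≤ D := le_inf (norm_of_cent ((L.im_le_C _).trans h.toRC.C_le_cent_X)) h.toOC.R_le_norm_V6
  have hDR : D ≤ 𝐍[L.R] := h.toSt.norm_XV_le
  have hp : IsPGroup 2 L.R := h.toRC.pg_S.to_le (L.im_le_S _)
  have hs : Syl 2 L.R D := Syl.of_maximal hp hRD fun P hP _ hPD x hx =>
    (pg_iff.mp hP x hx).elim fun k hk => h.toSt.mem_R_of_pow (hPD hx).1 (hPD hx).2 hk
  have cop : ∀ {n : ℕ}, ¬ 2 ∣ n → (Nat.card L.R).Coprime n := fun hn => by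
    obtain ⟨k, hk⟩ := IsPGroup.iff_card.mp hp
    rw [hk]; exact ((Nat.Prime.coprime_iff_not_dvd Nat.prime_two).mpr hn).pow_left k
  haveI := hp.isNilpotent
  have hsol : Group.IsSolvable L.R := inferInstance
  have h1D : L.H1 ≤ D :=
    le_inf (norm_of_cent (L.H1_le_C.trans h.toRC.C_le_cent_X)) h.toRC.H1_le_norm_V6
  obtain ⟨H0, h0D, h0s, -, h0c⟩ := GT.exists_complement_of_coprime_relIndex hRD hDR (cop hs.nd)
  obtain ⟨a, ha, ha'⟩ := GT.conj_le_of_coprime_le_sup L.R H0 L.H1 (h0D.trans hDR) (h0c ▸ cop hs.nd)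
    (cop h.toOC.odd_H1.not_two_dvd_nat) (h0s ▸ h1D) (Or.inl hsol)
  replace ha' : cj(a, L.H1) ≤ H0 := ha'
  set H := cj(a⁻¹, H0) with hH
  have h1H : L.H1 ≤ H := cj_le_iff_le_inv.mp ha'
  have hHD : H ≤ D := cj_le_of_mem h0D (inv_mem (hRD ha))
  have hHs : L.R ⊔ H = D := by
    rw [← cj_of_mem (inv_mem ha), ← cj_sup, h0s, cj_of_mem (inv_mem (hRD ha))]
  have hHc : (Nat.card L.R).Coprime (Nat.card H) := by rw [card_cj, h0c]; exact cop hs.nd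
  have hgD : cj(g0, D) = D := by rw [cj_inf, cj_norm, cj_norm, hX, hV, inf_comm]
  obtain ⟨b, hb, hb'⟩ := GT.conj_le_of_coprime_le_sup L.R H cj(g0, H) (hHD.trans hDR) hHc (by rwa [card_cj])
    (by rw [hHs, ← hgD]; exact cj_mono _ hHD) (Or.inl hsol)
  replace hb' : cj(b, cj(g0, H)) ≤ H := hb'
  rw [cj_cj] at hb'
  have hgH := cj_eq_of_le hb'
  have hX' : cj(b * g0, L.X) = L.V6 := by rw [← cj_cj, hX, cj_of_norm (hRD hb).2]
  have hV' : cj(b * g0, L.V6) = L.X := by rw [← cj_cj, hV, cj_of_norm (hRD hb).1]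
  have hHC : H ⊓ L.C = L.H1 := by
    refine le_antisymm (fun x hx => ?_) (le_inf h1H L.H1_le_C)
    obtain ⟨p, hp', c, rfl⟩ := h.toOC.mem_R_H1 hx.2 (hHD hx.1).2
    have h3 : L.u p ∈ L.R ⊓ H :=
      ⟨Lt.u_mem_im hp', (Subgroup.mul_mem_cancel_right _ (h1H (L.h_mem_H1 c))).mp hx.1⟩
    rw [inf_eq_bot_of_coprime hHc, mem_bot] at h3
    rw [h3, one_mul]; exact L.h_mem_H1 c
  have hn1 : H ≤ 𝐍[L.H1] := by
    rw [← hHC]; exact norm_inf le_normalizer (hHD.trans (inf_le_left.trans h.toSt.norm_X.le))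
  have hn2 : H ≤ 𝐍[cj(b * g0, L.H1)] := by rw [← cj_norm, ← hgH]; exact cj_mono _ hn1
  have h2H : cj(b * g0, L.H1) ≤ H := hgH ▸ cj_mono _ h1H
  refine ⟨b * g0, mul_mem (le_normalizer hb) hg0, hX', hV', ?_, ?_⟩
  · rw [← comm_eq_bot_iff, eq_bot_iff]
    refine (le_inf (comm_le_left (h1H.trans hn2)) (comm_le_right (h2H.trans hn1))).trans ?_
    rintro _ ⟨h3, c, rfl⟩
    have h4 : cj(b * g0, L.H1) ≤ 𝐂[L.V6] := by
      rw [← hX', ← cj_cent]; exact cj_mono _ (L.H1_le_C.trans h.toRC.C_le_cent_X)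
    simp [h.toOC.eq_one_of_cent_V6 (h4 h3)]
  · have h3 : b * g0 * (b * g0) ∈ 𝐍[L.C] := by
      rw [← h.toSt.norm_X, ← cj_eq_iff, ← cj_cj, hX', hV']
    rw [← hHC, cj_inf, cj_inf, hgH, hgH, cj_cj, cj_of_norm h3]

theorem Lt.Acts.mul {k k' : G} {α β α' β' : Kˣ} (a : L.Acts k α β) (b : L.Acts k' α' β') :
    L.Acts (k * k') (α * α') (β * β') where
  u p := by
    rw [show k * k' * L.u p * (k * k')⁻¹ = k * (k' * L.u p * k'⁻¹) * k⁻¹ by group, b.u, a.u, dl_dl]; simp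
  h c := by rw [show k * k' * L.h c * (k * k')⁻¹ = k * (k' * L.h c * k'⁻¹) * k⁻¹ by group, b.h, a.h]
  n := by
    rw [show k * k' * L.n * (k * k')⁻¹ = k * (k' * L.n * k'⁻¹) * k⁻¹ by group, b.n,
      show k * (L.h (s.σu β') * L.n) * k⁻¹ = k * L.h (s.σu β') * k⁻¹ * (k * L.n * k⁻¹) by group, a.h, a.n,
      ← mul_assoc, ← map_mul, ← map_mul, mul_comm β']

theorem Lt.Acts.cent {k k' : G} {α β : Kˣ} (a : L.Acts k α β) (b : L.Acts k' α β) : k⁻¹ * k' ∈ 𝐂[L.C] := by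
  have e : ∀ x : G, k * x * k⁻¹ = k' * x * k'⁻¹ → x ∈ 𝐂₁[k⁻¹ * k'] := fun x hx => by
    rw [mem_c1]
    calc x * (k⁻¹ * k') = k⁻¹ * (k * x * k⁻¹) * k' := by group
      _ = _ := by rw [hx]; group
  exact mem_cent.mpr fun x hx => mem_c1.mp (L.C_le (fun p => e _ ((a.u p).trans (b.u p).symm))
    (fun c => e _ ((a.h c).trans (b.h c).symm)) (e _ (a.n.trans b.n.symm)) hx)

theorem RC.acts_h (h : RC L) (c : Kˣ) : L.Acts (L.h c) (s.hT c).1 (s.hT c).2 where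
  u p := by rw [h.hu, dh_eq]; rfl
  h d := by rw [← map_inv, ← map_mul, ← map_mul, mul_inv_cancel_comm]
  n := by
    have := h.nh c⁻¹
    rw [inv_inv] at this
    calc L.h c * L.n * (L.h c)⁻¹ = L.h c * (L.n * L.h c⁻¹ * L.n) * L.n := by
          rw [map_inv]; simp [mul_assoc, h.nn]
      _ = _ := by rw [this, ← map_mul]; simp [pow_two]

/-- The data after the construction of the torus. -/
structure Mid (L : Lt s G) (t : Kˣ × Kˣ →* G) (g : G) : Prop where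
  st : St2 L
  acts : ∀ α β, L.Acts (t (α, β)) α β
  th : ∀ c, t (s.hT c) = L.h c
  gR : g ∈ 𝐍[L.R]
  gX : cj(g, L.X) = L.V6
  gV : cj(g, L.V6) = L.X
  gH : g ∈ 𝐍[t.range]

theorem St2.exists_mid (h : St2 L) (hq : ∃ c : Kˣ, c ≠ 1) :
    ∃ (L' : Lt s G) (t : Kˣ × Kˣ →* G) (g : G), Mid L' t g ∧ L'.C = L.C ∧ L'.τ = L.τ := by
  obtain ⟨g, hR, hX, hV, hc, hg⟩ := h.exists_H
  let ψ : Kˣ × Kˣ →* G := L.h.noncommCoprod (L.cjg g).h fun c d =>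
    mem_cent.mp (hc (conj_mem_cj (L.h_mem_H1 d))) _ (L.h_mem_H1 c)
  have hψ : ψ.range = L.H1 ⊔ cj(g, L.H1) := by
    rw [← L.cjg_H1]; exact MonoidHom.noncommCoprod_range _ _ _
  have hi : Function.Injective ψ := by
    rw [injective_iff_map_eq_one]
    rintro ⟨c, d⟩ e
    have e' : L.h c * (g * L.h d * g⁻¹) = 1 := e
    have h4 : cj(g, L.H1) ≤ 𝐂[L.V6] := by
      rw [← hX, ← cj_cent]; exact cj_mono _ (L.H1_le_C.trans h.toRC.C_le_cent_X)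
    have h5 : c = 1 := h.toOC.eq_one_of_cent_V6 (by
      rw [eq_inv_of_mul_eq_one_left e']; exact inv_mem (h4 (conj_mem_cj (L.h_mem_H1 d))))
    subst h5
    have h6 : L.h d = L.h 1 := by simpa [mul_eq_one_iff_eq_inv] using e'
    rw [h.toOC.h_inj h6]; rfl
  have ho : Odd (Nat.card ψ.range) := by
    rw [← Nat.card_congr (MonoidHom.ofInjective hi).toEquiv, Nat.card_prod]
    exact Sg.odd_card_units.mul Sg.odd_card_units
  have hC : ψ.range ≤ 𝐍[L.C] := by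
    rw [hψ]
    refine sup_le (norm_of_le L.H1_le_C) ?_
    rw [← h.toSt.norm_X, ← hV, ← cj_norm]
    exact cj_mono _ h.toRC.H1_le_norm_V6
  have h11 : L.H1 ≤ 𝐂[L.H1] := by
    rintro _ ⟨c, rfl⟩
    refine mem_cent.mpr ?_
    rintro _ ⟨d, rfl⟩
    rw [← map_mul, ← map_mul, mul_comm]
  obtain ⟨L', h', e1, e2, e3, e4, ha⟩ := h.toOC.adjust hq ho hC (hψ ▸ sup_le h11 hc) (hψ ▸ le_sup_left)
  have h2 := h.of_eq h' e2 e3 e4
  obtain ⟨eX, eZ, eR⟩ := h.toOC.XZR_eq h' e2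
  have eH : L'.H1 = L.H1 := congrArg MonoidHom.range e1
  have eV : L'.V6 = L.V6 := by rw [← h'.toRC.comm_Z_H1 hq, ← h.toRC.comm_Z_H1 hq, eZ, eH]
  have uq : ∀ {k k' : G} {α β : Kˣ}, k ∈ ψ.range → k' ∈ ψ.range → L'.Acts k α β → L'.Acts k' α β → k = k' := by
    intro k k' α β hk hk' a b
    have h3 : k⁻¹ * k' ∈ L'.X ⊓ ψ.range := ⟨h2.toSt.cent_C ▸ a.cent b, ψ.range.mul_mem (ψ.range.inv_mem hk) hk'⟩
    obtain ⟨n, hn⟩ := IsPGroup.iff_card.mp (h'.toRC.pg_S.to_le (L'.im_le_S (Xs s)))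
    rw [inf_eq_bot_of_coprime (by rw [hn]; exact (Nat.coprime_two_left.mpr ho).pow_left n), mem_bot] at h3
    exact inv_mul_eq_one.mp h3
  choose f1 f2 hf using fun x => ha (ψ x) ⟨x, rfl⟩
  have hs : Function.Surjective fun x => (f1 x, f2 x) := Finite.surjective_of_injective fun x y e => by
    simp only [Prod.mk.injEq] at e
    exact hi (uq ⟨x, rfl⟩ ⟨y, rfl⟩ (hf x) (e.1 ▸ e.2 ▸ hf y))
  choose r hr using hs
  have hr' : ∀ x, L'.Acts (ψ (r x)) x.1 x.2 := fun x => by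
    have := hf (r x)
    rwa [show f1 (r x) = x.1 from congrArg Prod.fst (hr x), show f2 (r x) = x.2 from congrArg Prod.snd (hr x)]
      at this
  let t : Kˣ × Kˣ →* G := MonoidHom.mk' (fun x => ψ (r x)) fun x y =>
    uq ⟨_, rfl⟩ (mul_mem ⟨_, rfl⟩ ⟨_, rfl⟩) (hr' (x * y)) ((hr' x).mul (hr' y))
  have ht : t.range = ψ.range := le_antisymm (by rintro _ ⟨x, rfl⟩; exact ⟨_, rfl⟩) (by
    rintro _ ⟨x, rfl⟩
    exact ⟨(f1 x, f2 x), uq ⟨_, rfl⟩ ⟨_, rfl⟩ (hr' _) (hf x)⟩)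
  refine ⟨L', t, g, ⟨h2, fun α β => hr' (α, β), fun c => ?_, eR ▸ hR, by rw [eX, eV, hX], by rw [eX, eV, hV], ?_⟩,
    e3, e4⟩
  · exact uq ⟨_, rfl⟩ (by rw [hψ, ← eH]; exact mem_sup_left (L'.h_mem_H1 c)) (hr' _) (h'.toRC.acts_h c)
  · rw [ht, hψ, ← cj_eq_iff, cj_sup, hg, sup_comm]

end Cfsg.Agent.Og
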