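import Mathlib
import Cfsg.Agent.Og.BB

/-! The involution `m`. -/

set_option autoImplicit false
set_option linter.unusedSectionVars false

namespace Cfsg.Agent.Og

open Cfsg.Agent.Loc.Mss Subgroup SG
open scoped commutatorElement Pointwise

variable {K : Type*} [Field K] [CharP K 2] [Finite K] {s : Sg K} {G : Type*} [Group G] [Finite G] {L : Lt s G}

theorem Sg.zero_of_wt (s : Sg K) (i j : ℕ)
    (h : ((i : ℤ) ^ 2 - 2 * j ^ 2).natAbs = 1 ∨ ((i : ℤ) ^ 2 - 2 * j ^ 2).natAbs = 2) {c : Kˣ} (hc : c ≠ 1) {a : K}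
    (e : (c : K) ^ i * s.σ c ^ j * a = a) : a = 0 := by
  by_contra ha
  exact hc (s.eq_one_of_wt' i j h (mul_right_cancel₀ ha (e.trans (one_mul a).symm)))

theorem SG.eq_one_of_dl_one {β : Kˣ} (hβ : β ≠ 1) {p : SG s} (hp : p ∈ Rs s) (e : dl 1 (β : K) p = p) : p = 1 := by
  have z := fun i j h a => s.zero_of_wt i j h hβ (a := a)
  ext
  · exact hp
  · exact z 1 0 (by norm_num) _ (by simpa using congrArg SG.a2 e)
  · exact z 1 1 (by norm_num) _ (by simpa using congrArg SG.u2 e)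
  · exact z 2 1 (by norm_num) _ (by simpa using congrArg SG.a3 e)
  · exact z 1 1 (by norm_num) _ (by simpa using congrArg SG.a4 e)
  · exact z 3 2 (by norm_num) _ (by simpa using congrArg SG.u4 e)
  · by_contra h2
    have h1 : (β : K) ^ 2 * s.σ β ^ 2 * p.a5 = p.a5 := by simpa using congrArg SG.a5 e
    have h3 : ((β : K) * s.σ β) ^ 2 = 1 := by
      rw [mul_pow]; exact mul_right_cancel₀ h2 (h1.trans (one_mul _).symm)
    have h4 : β * s.σu β = 1 := Sg.eq_one_of_sq (Units.ext (by simpa using h3))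
    exact hβ (s.eq_one_of_wt' 1 1 (by norm_num) (by simpa using congrArg Units.val h4))
  · exact z 1 1 (by norm_num) _ (by simpa using congrArg SG.a6 e)
  · exact z 3 2 (by norm_num) _ (by simpa using congrArg SG.u6 e)
  · exact z 2 1 (by norm_num) _ (by simpa using congrArg SG.a7 e)
  · exact z 1 0 (by norm_num) _ (by simpa using congrArg SG.a8 e)
  · exact z 1 1 (by norm_num) _ (by simpa using congrArg SG.u8 e)

theorem Lt.Acts.zv {k : G} {α β : Kˣ} (a : L.Acts k α β) (e b : K) : k * L.u (zv e b) * k⁻¹ =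
    L.u (zv (α ^ 2 * s.σ α * β ^ 3 * s.σ β ^ 2 * e) (α * s.σ α * β ^ 3 * s.σ β ^ 2 * b)) := by
  rw [a.u]; congr 1; ext <;> simp

theorem Lt.Acts.norm_X {k : G} {α β : Kˣ} (a : L.Acts k α β) : k ∈ 𝐍[L.X] :=
  mem_norm_of_cj_le <| cj_le_iff.mpr fun x hx => by
    obtain ⟨e, rfl⟩ := Lt.mem_X.mp hx
    rw [a.zv, mul_zero]; exact Lt.mem_X.mpr ⟨_, rfl⟩

theorem Lt.Acts.norm_V6 {k : G} {α β : Kˣ} (a : L.Acts k α β) : k ∈ 𝐍[L.V6] :=
  mem_norm_of_cj_le <| cj_le_iff.mpr fun x hx => by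
    obtain ⟨e, rfl⟩ := Lt.mem_V6.mp hx
    rw [a.zv, mul_zero]; exact Lt.mem_V6.mpr ⟨_, rfl⟩

theorem Lt.Acts.comm_x1 {k : G} {β : Kˣ} (a : L.Acts k 1 β) (b : K) : k * L.u (x1 b) = L.u (x1 b) * k := by
  have := a.u (x1 b)
  rw [show dl ((1 : Kˣ) : K) (β : K) (x1 b : SG s) = x1 b by ext <;> simp] at this
  exact mul_inv_eq_iff_eq_mul.mp this

namespace Mid

variable {t : Kˣ × Kˣ →* G} {g : G}

theorem symm (M : Mid L t g) : Mid L t g⁻¹ :=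
  ⟨M.st, M.acts, M.th, inv_mem M.gR, by rw [← M.gV, cj_inv_cj], by rw [← M.gX, cj_inv_cj], inv_mem M.gH⟩

theorem gZ (M : Mid L t g) : cj(g, L.Z) = L.Z := cj_of_norm (M.st.toOC.norm_R_le M.gR)

theorem t1_norm (M : Mid L t g) (β : Kˣ) {a : G} (hZ : cj(a, L.X) ≤ L.Z) : t (1, β) ∈ 𝐍[cj(a, L.X)] := by
  by_cases h : cj(a, L.X) = L.X
  · rw [h]; exact (M.acts 1 β).norm_X
  obtain ⟨b, hb⟩ := M.st.exists_line hZ h
  rw [hb, ← cj_eq_iff, cj_cj, (M.acts 1 β).comm_x1, ← cj_cj, cj_of_norm (M.acts 1 β).norm_V6]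

theorem line_le (M : Mid L t g) (a : K) : cj(L.u (x1 a), L.V6) ≤ L.Z :=
  cj_le_of_norm L.V6_le_Z (M.st.toRC.B_le_norm_Z (L.u_mem_B _))

theorem exists_t1 (M : Mid L t g) (β : Kˣ) : ∃ β', g⁻¹ * t (1, β) * g = t (1, β') := by
  obtain ⟨⟨α, β'⟩, e⟩ := conj_mem_of_norm' M.gH (⟨(1, β), rfl⟩ : t (1, β) ∈ t.range)
  have h1 := M.t1_norm β (a := g * L.u (x1 1) * g) (by
    rw [← cj_cj, M.gX, ← cj_cj, ← M.gZ]; exact cj_mono _ (M.line_le 1))
  rw [← cj_cj, M.gX, ← cj_cj, ← cj_norm, mem_cj, ← e] at h1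
  have h2 := conj_mem_of_norm h1 (M.st.toOC.zv_mem_line (a := 1) (e := 1) (b := 1) |>.mpr (by simp))
  rw [(M.acts α β').zv, M.st.toOC.zv_mem_line] at h2
  have h3 : α = 1 := by
    have h4 : (α : K) * s.σ α * β' ^ 3 * s.σ β' ^ 2 ≠ 0 := by simp
    exact Units.ext (mul_right_cancel₀ h4 (by rw [Units.val_one]; linear_combination h2))
  exact ⟨β', h3 ▸ e.symm⟩

theorem eq_one_of_W (M : Mid L t g) (hq : ∃ c : Kˣ, c ≠ 1) {x : G} (hX : x ∈ 𝐍[L.X]) (hV : x ∈ 𝐍[L.V6])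
    (hc : ∀ β, t (1, β) * x = x * t (1, β)) {k : ℕ} (h2 : x ^ 2 ^ k = 1) : x = 1 := by
  obtain ⟨p, hp, rfl⟩ := M.st.toSt.mem_R_of_pow hX hV h2
  obtain ⟨c, hc'⟩ := hq
  have := (M.acts 1 c).u p
  rw [hc, mul_inv_cancel_right, M.st.toOC.u_inj] at this
  rw [eq_one_of_dl_one hc' hp this.symm, map_one]

theorem t_comm (_ : Mid L t g) (x y : Kˣ × Kˣ) : t x * t y = t y * t x := by
  rw [← map_mul, ← map_mul, mul_comm]

/-- An involution swapping `X` and `V₆`, fixing a third line and centralizing the kernel on the lines. -/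
theorem exists_m (M : Mid L t g) (hq : ∃ c : Kˣ, c ≠ 1) : ∃ m : G, m * m = 1 ∧ (m * L.u (x1 1)) ^ 3 = 1 ∧
    m ∈ 𝐍[L.R] ∧ cj(m, L.X) = L.V6 ∧ cj(m, L.V6) = L.X ∧ m ∈ 𝐍[cj(L.u (x1 1), L.V6)] ∧
    ∀ β, t (1, β) * m = m * t (1, β) := by
  have h := M.st
  have hZ : (L.cjg g).Z = L.Z := (L.cjg_im g _).trans M.gZ
  have hX : (L.cjg g).X = L.V6 := (L.cjg_im g _).trans M.gX
  have hV : (L.cjg g).V6 = L.X := (L.cjg_im g _).trans M.gV
  obtain ⟨b, hb⟩ := (h.cjg g).exists_line (a := L.u (x1 1)) (by rw [hX, hZ]; exact M.line_le 1) (by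
    rw [hX]
    intro e
    have := h.toOC.zv_mem_line (a := 1) (e := 1) (b := 1) |>.mpr (by simp)
    rw [e, h.toOC.zv_mem_V6] at this
    exact one_ne_zero this)
  rw [hX, hV] at hb
  set u := L.u (x1 1) with hu
  set v := (L.cjg g).u (x1 b) with hv
  set P := cj(u, L.V6) with hP
  have uu : u * u = 1 := by rw [hu, ← map_mul, x1_mul_self, map_one]
  have vv : v * v = 1 := by rw [hv, ← map_mul, x1_mul_self, map_one]
  have uX : cj(u, L.X) = L.X := cj_of_cent (h.toRC.C_le_cent_X (L.u_mem_C _))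
  have uP : cj(u, P) = L.V6 := by rw [hP, cj_cj, uu, cj_one]
  have vV : cj(v, L.V6) = L.V6 := by
    rw [← hX]; exact cj_of_cent ((h.cjg g).toRC.C_le_cent_X (Lt.u_mem_C _ _))
  have vP : cj(v, P) = L.X := by rw [hb, cj_cj, vv, cj_one]
  have uR : u ∈ 𝐍[L.R] := h.toRC.B_le_norm_R (L.u_mem_B _)
  have vR : v ∈ 𝐍[L.R] := mul_mem (mul_mem M.gR (h.toRC.B_le_norm_R (L.u_mem_B _))) (inv_mem M.gR)
  have uc : ∀ β, Commute (t (1, β)) u := fun β => (M.acts 1 β).comm_x1 1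
  have vc : ∀ β, Commute (t (1, β)) v := fun β => by
    obtain ⟨β', e⟩ := M.exists_t1 β
    have := (M.acts 1 β').comm_x1 b
    rw [← e] at this
    change t (1, β) * (g * L.u (x1 b) * g⁻¹) = g * L.u (x1 b) * g⁻¹ * t (1, β)
    calc _ = g * (g⁻¹ * t (1, β) * g * L.u (x1 b)) * g⁻¹ := by group
      _ = _ := by rw [this]; group
  have z3 : (u * v) ^ 3 = u * v * u * v * u * v := by simp only [pow_succ, pow_zero, one_mul, mul_assoc]
  have zX : (u * v) ^ 3 ∈ 𝐍[L.X] := by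
    rw [← cj_eq_iff, z3]; simp only [← cj_cj]; rw [← hb, uP, vV, ← hP, vP, uX]
  have zV : (u * v) ^ 3 ∈ 𝐍[L.V6] := by
    rw [← cj_eq_iff, z3]; simp only [← cj_cj]; rw [vV, ← hP, vP, uX, ← hb, uP]
  have zB : (u * v) ^ 3 ∈ 𝐍[L.B] := by
    rw [← h.toOC.norm_Z, ← h.toOC.X_sup_V6]
    exact norm_inf (X := 𝐍[L.X] ⊓ 𝐍[L.V6]) (inf_le_left.trans h.toSt.norm_X.le)
      (norm_norm (norm_sup inf_le_left inf_le_right)) ⟨zX, zV⟩
  have z1 : (u * v) ^ 3 = 1 := by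
    have h1 : (u * v) ^ 3 * u * ((u * v) ^ 3)⁻¹ ∈ L.S :=
      h.toOC.mem_S_of_pow (conj_mem_of_norm zB (L.u_mem_B _)) (k := 1) (by
        rw [pow_one, conj_pow, pow_two, uu]; simp)
    have h2 : (u * v) ^ 3 * u * ((u * v) ^ 3)⁻¹ * u = ((u * v) ^ 3) ^ 2 := by
      have i1 : u⁻¹ = u := inv_eq_of_mul_eq_one_right uu
      have i2 : v⁻¹ = v := inv_eq_of_mul_eq_one_right vv
      rw [pow_two, z3]
      simp only [mul_inv_rev, i1, i2, mul_assoc, uu, mul_one]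
    obtain ⟨k, hk⟩ := pg_iff.mp h.toRC.pg_S _ (h2 ▸ mul_mem h1 (L.u_mem_S (x1 1)))
    exact M.eq_one_of_W hq zX zV (fun β => ((uc β).mul_right (vc β)).pow_right 3) (k := k + 1)
      (by rw [pow_succ' 2 k, pow_mul, hk])
  refine ⟨u * v * u, ?_, ?_, mul_mem (mul_mem uR vR) uR, ?_, ?_, ?_, fun β =>
    ((uc β).mul_right (vc β)).mul_right (uc β)⟩
  · calc _ = u * (v * (u * u) * v) * u := by group
      _ = 1 := by rw [uu, mul_one, vv, mul_one, uu]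
  · rw [mul_assoc, uu, mul_one, z1]
  · simp only [← cj_cj]; rw [uX, ← hb, uP]
  · simp only [← cj_cj]; rw [← hP, vP, uX]
  · rw [← cj_eq_iff]; simp only [← cj_cj]; rw [uP, vV]

theorem norm_H (M : Mid L t g) (hq : ∃ c : Kˣ, c ≠ 1) {m : G} (mX : cj(m, L.X) = L.V6)
    (mV : cj(m, L.V6) = L.X) (mc : ∀ β, t (1, β) * m = m * t (1, β)) : m ∈ 𝐍[t.range] := by
  have h := M.st
  let T : Subgroup G := (t.comp (MonoidHom.inr Kˣ Kˣ)).range
  have hT : ∀ {x : G}, x ∈ 𝐂[T] ↔ ∀ β, t (1, β) * x = x * t (1, β) := fun {x} =>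
    ⟨fun hx β => mem_cent.mp hx _ ⟨β, rfl⟩, fun hx => mem_cent.mpr (by rintro _ ⟨β, rfl⟩; exact hx β)⟩
  set W := 𝐍[L.X] ⊓ 𝐍[L.V6] ⊓ 𝐂[T] with hW
  have tW : t.range ≤ W := by
    rintro _ ⟨⟨α, β⟩, rfl⟩
    exact ⟨⟨(M.acts α β).norm_X, (M.acts α β).norm_V6⟩, hT.mpr fun _ => M.t_comm _ _⟩
  have h1 : L.H1 ≤ t.range := by rintro _ ⟨c, rfl⟩; exact ⟨_, M.th c⟩
  have WC : W ⊓ L.C = L.H1 := by
    refine le_antisymm (fun x hx => ?_) (le_inf (h1.trans tW) L.H1_le_C)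
    obtain ⟨p, -, c, rfl⟩ := h.toOC.mem_R_H1 hx.2 hx.1.1.2
    have h3 := (Subgroup.mul_mem_cancel_right _ (tW (h1 (L.h_mem_H1 c)))).mp hx.1
    obtain ⟨k, hk⟩ := pg_iff.mp h.toRC.pg_S _ (L.u_mem_S p)
    rw [M.eq_one_of_W hq h3.1.1 h3.1.2 (hT.mp h3.2) hk, one_mul]
    exact L.h_mem_H1 c
  have mW : cj(m, W) = W := by
    rw [hW, cj_inf, cj_inf, cj_norm, cj_norm, mX, mV, inf_comm 𝐍[L.V6], cj_of_mem (hT.mpr mc)]
  have mC : cj(m, L.C) = cj(g, L.C) := by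
    have : g⁻¹ * m ∈ 𝐍[L.C] := by rw [← h.toSt.norm_X, ← cj_eq_iff, ← cj_cj, mX, ← M.gX, cj_inv_cj]
    rw [← cj_eq_cj (g := g⁻¹), cj_inv_cj, cj_cj, cj_of_norm this]
  have h2 : cj(g, L.H1) ≤ t.range := cj_le_of_norm h1 M.gH
  have h3 : cj(g, L.H1) = cj(m, L.H1) := by
    refine eq_of_le_of_card_ge ?_ (by rw [card_cj, card_cj])
    conv_rhs => rw [← WC, cj_inf, mW, mC]
    exact le_inf (h2.trans tW) (cj_mono _ L.H1_le_C)
  refine mem_norm_of_cj_le (cj_le_iff.mpr ?_)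
  rintro _ ⟨⟨α, β⟩, rfl⟩
  obtain ⟨c, hc⟩ := s.exists_wt (i := -1) (j := -1) (by norm_num) α
  have e : t (α, β) = L.h c * t (1, (s.σu c)⁻¹ * β) := by
    rw [← M.th, ← map_mul, ← hc]; simp [mul_comm]
  rw [e, show m * (L.h c * t (1, (s.σu c)⁻¹ * β)) * m⁻¹ = m * L.h c * m⁻¹ * (m * t (1, (s.σu c)⁻¹ * β) * m⁻¹) by
    group, ← mc, mul_inv_cancel_right]
  exact mul_mem (h2 (h3 ▸ conj_mem_cj (L.h_mem_H1 c))) ⟨_, rfl⟩

theorem m_zv (M : Mid L t g) {m : G} (mm : m * m = 1) (mX : cj(m, L.X) = L.V6)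
    (mP : m ∈ 𝐍[cj(L.u (x1 1), L.V6)]) (mc : ∀ β, t (1, β) * m = m * t (1, β)) (e b : K) :
    m * L.u (zv e b) * m = L.u (zv b e) := by
  have h := M.st.toOC
  have mi : m⁻¹ = m := inv_eq_of_mul_eq_one_right mm
  obtain ⟨κ, hκ⟩ := Lt.mem_V6.mp (mX ▸ conj_mem_cj (g := m) (h.zv_mem_X (e := 1) |>.mpr rfl))
  have h1 : ∀ e, m * L.u (zv e 0) * m⁻¹ = L.u (zv 0 (e * κ)) := fun e => by
    by_cases he : e = 0
    · simp [he, zv_eq_one.mpr]
    obtain ⟨β, hβ⟩ := s.exists_wt' 3 2 (by norm_num) he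
    have a1 := (M.acts 1 β).zv 1 0
    have a2 := (M.acts 1 β).zv 0 κ
    simp only [Units.val_one, one_pow, map_one, one_mul, mul_one, mul_zero, hβ] at a1 a2
    rw [← a1, ← a2, ← hκ]
    calc _ = (m * t (1, β)) * L.u (zv 1 0) * (m * t (1, β))⁻¹ := by group
      _ = _ := by rw [← mc]; group
  have h0 : κ ≠ 0 := by
    rintro rfl
    have : L.u (zv 1 0) = L.u 1 := by simpa [zv_eq_one.mpr, mul_eq_one_iff_eq_inv] using hκ
    simpa [zv_eq_one] using h.inj this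
  have h2 : ∀ b, m * L.u (zv 0 b) * m⁻¹ = L.u (zv (b / κ) 0) := fun b => by
    have := h1 (b / κ)
    rw [div_mul_cancel₀ _ h0] at this
    rw [← this, mi]
    calc _ = (m * m) * L.u (zv (b / κ) 0) * (m * m) := by group
      _ = _ := by simp [mm]
  have h3 : ∀ e b, m * L.u (zv e b) * m⁻¹ = L.u (zv (b / κ) (e * κ)) := fun e b => by
    have : (zv e b : SG s) = zv e 0 * zv 0 b := by simp [zv_mul]
    rw [this, map_mul, ← conj_mul, h1, h2, ← map_mul, zv_mul, zero_add, add_zero]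
  have h4 := conj_mem_of_norm mP (h.zv_mem_line (a := 1) (e := 1) (b := 1) |>.mpr (by simp))
  rw [h3, h.zv_mem_line] at h4
  have h5 : κ = 1 := by
    have : (κ - 1) ^ 2 = 0 := by field_simp at h4; grind
    exact sub_eq_zero.mp (pow_eq_zero_iff two_ne_zero |>.mp this)
  simpa [h5, mi] using h3 e b

theorem m_t (M : Mid L t g) {m : G} (mm : m * m = 1) (mH : m ∈ 𝐍[t.range])
    (mZ : ∀ e b, m * L.u (zv e b) * m = L.u (zv b e)) (α β : Kˣ) : m * t (α, β) * m = t (α⁻¹, α * β) := by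
  have mi : m⁻¹ = m := inv_eq_of_mul_eq_one_right mm
  obtain ⟨⟨α', β'⟩, e⟩ := conj_mem_of_norm mH (⟨(α, β), rfl⟩ : t (α, β) ∈ t.range)
  have h1 := (M.acts α' β').zv 1 1
  rw [e, show m * t (α, β) * m⁻¹ * L.u (zv 1 1) * (m * t (α, β) * m⁻¹)⁻¹ =
    m * (t (α, β) * (m⁻¹ * L.u (zv 1 1) * m) * (t (α, β))⁻¹) * m⁻¹ by group, mi, mZ, (M.acts α β).zv, mZ,
    M.st.toOC.u_inj, zv_inj] at h1
  obtain ⟨h1, h2⟩ := h1
  have n1 : (α : K) * s.σ α * β ^ 3 * s.σ β ^ 2 ≠ 0 := by simp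
  have h3 : α' = α⁻¹ := by
    refine eq_inv_of_mul_eq_one_left (Units.ext (mul_right_cancel₀ n1 ?_))
    rw [Units.val_mul, Units.val_one]
    linear_combination (α' : K) * h2 - h1
  subst h3
  have h4 : β' = α * β := by
    refine mul_inv_eq_one.mp (s.eq_one_of_wt' 3 2 (by norm_num) ?_)
    have n2 : s.σ (α : K) ≠ 0 := by simp
    have n3 : s.σ (β : K) ≠ 0 := by simp
    simp only [Units.val_mul, Units.val_inv_eq_inv_val, map_mul, map_inv₀] at h2 ⊢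
    field_simp at h2 ⊢
    linear_combination -h2
  rw [← h4, e, mi]

end Mid

end Cfsg.Agent.Og
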