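import Mathlib
import Cfsg.Agent.Og.BC
import Cfsg.Agent.Og.K2

/-! The action of `m` on `R`; the second parabolic. -/

set_option autoImplicit false
set_option linter.unusedSectionVars false

namespace Cfsg.Agent.Og

open Cfsg.Agent.Loc.Mss Subgroup SG
open scoped commutatorElement Pointwise

variable {K : Type*} [Field K] [CharP K 2] [Finite K] {s : Sg K} {G : Type*} [Group G] [Finite G] {L : Lt s G}

theorem exists_comm_of_fpf {Γ : Type*} [Group Γ] [Finite Γ] {A : Subgroup Γ} (f : Γ →* Γ) (hA : ∀ a ∈ A, f a ∈ A)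
    (h1 : ∀ a ∈ A, f a = a → a = 1) {x : Γ} (hx : x ∈ A) : ∃ p ∈ A, x = p⁻¹ * f p := by
  let φ : A → A := fun p => ⟨p⁻¹ * f p, mul_mem (inv_mem p.2) (hA p p.2)⟩
  have : Function.Injective φ := fun p r e => by
    have e' : (p : Γ)⁻¹ * f p = (r : Γ)⁻¹ * f r := congrArg Subtype.val e
    have := h1 (p * (r : Γ)⁻¹) (mul_mem p.2 (inv_mem r.2)) (by
      rw [map_mul, map_inv]
      calc f p * (f r)⁻¹ = p * ((p : Γ)⁻¹ * f p) * (f r)⁻¹ := by group
        _ = _ := by rw [e']; group)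
    exact Subtype.ext (mul_inv_eq_one.mp this)
  obtain ⟨p, hp⟩ := Finite.surjective_of_injective this ⟨x, hx⟩
  exact ⟨p, p.2, (congrArg Subtype.val hp).symm⟩

namespace SG

theorem mem_U8_of_dl {α : Kˣ} (hα : α ≠ 1) {p : SG s} (e : dl (α : K) 1 p = p) : p ∈ U8s s := by
  have z := fun i j h a => s.zero_of_wt i j h hα (a := a)
  exact ⟨z 1 0 (by norm_num) _ (by simpa using congrArg SG.a1 e),
    z 1 0 (by norm_num) _ (by simpa using congrArg SG.a2 e),
    z 1 1 (by norm_num) _ (by simpa using congrArg SG.u2 e),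
    z 1 1 (by norm_num) _ (by simpa using congrArg SG.a3 e),
    z 0 1 (by norm_num) _ (by simpa using congrArg SG.a4 e),
    z 2 1 (by norm_num) _ (by simpa using congrArg SG.u4 e),
    z 1 1 (by norm_num) _ (by simpa using congrArg SG.a5 e),
    z 1 0 (by norm_num) _ (by simpa using congrArg SG.a6 e),
    z 1 1 (by norm_num) _ (by simpa using congrArg SG.u6 e),
    z 1 0 (by norm_num) _ (by simpa using congrArg SG.a7 e)⟩

theorem mem_U2_of_dl {α : Kˣ} (hα : α ≠ 1) {p : SG s} (hp : p ∈ Rs s)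
    (e : dl ((α⁻¹ : Kˣ) : K) (α : K) p = p) : p ∈ U2s s := by
  have h1 := mu_dl (s := s) α⁻¹ α hp
  rw [e, inv_inv, inv_mul_cancel, Units.val_one] at h1
  obtain ⟨a, v, h2⟩ := mem_U8s_iff.mp (mem_U8_of_dl hα h1.symm)
  rw [← mu_mu hp, h2]
  simp

theorem x1_w8 (a v : K) : (w2 a v)⁻¹ * (x1 1 * w8 a v * x1 1 : SG s) ∈ R3s s := by
  simp; grind

theorem x1_w8' (a v : K) : (w8 a v)⁻¹ * (x1 1 * w8 a v * x1 1 : SG s) ∈ Qs s ⊓ Rs s := by
  simp; grind

theorem x1_conj_mem {p : SG s} (hp : p ∈ Qs s ⊓ Rs s) : x1 1 * p * x1 1 ∈ Qs s ⊓ Rs s := by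
  simp_all; grind

theorem mu_x1_w8 (a v : K) : mu (x1 1 * w8 a v * x1 1 : SG s) = x1 1 * w8 a v * x1 1 := by
  ext <;> simp <;> grind

theorem w2_eq {a v a' v' : K} {y : SG s} (hy : y ∈ R3s s) (h : x1 1 * w2 a' v' * x1 1 = w2 a v * y) :
    (w2 a' v' : SG s) = w2 a v := by
  have h6 := congrArg SG.a2 h
  have h7 := congrArg SG.u2 h
  obtain ⟨e1, e2, e3⟩ := hy
  simp [e1, e2, e3] at h6 h7
  rw [h6, h7]

/-- Generators of `R`. -/
theorem Rs_le {F : Subgroup (SG s)} (h2 : ∀ a v, w2 a v ∈ F) (h8 : ∀ a v, w8 a v ∈ F) (hZ : Zs s ≤ F)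
    (hd : ∀ a v, x1 1 * w8 a v * x1 1 ∈ F) : Rs s ≤ F := by
  have hc : ∀ {p r : SG s}, p ∈ F → r ∈ F → p * r * (r * p)⁻¹ ∈ F := fun hp hr =>
    mul_mem (mul_mem hp hr) (inv_mem (mul_mem hr hp))
  have hz : ∀ {p : SG s} (r : SG s), p ∈ F → p⁻¹ * r ∈ Zs s → r ∈ F := fun r hp hr =>
    (F.mul_mem_cancel_left (inv_mem hp)).mp (hZ hr)
  have h3 : ∀ c, x3 c ∈ F := fun c => hz _ (hc (h2 0 c) (h8 1 1)) (by simp; grind)
  have h5 : ∀ c, x5 c ∈ F := fun c => hz _ (hc (h2 0 c) (h8 0 1)) (by simp; grind)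
  have h7 : ∀ c, x7 c ∈ F := fun c => hz _ (hc (h2 c (c * s.σ c)) (h8 0 1)) (by simp; grind)
  have h40 : ∀ c, w4 0 c ∈ F := fun c => hZ (by simp)
  have h60 : ∀ c, w6 0 c ∈ F := fun c => hZ (by simp)
  have hM : ∀ p : SG s, p.a1 = 0 → p.a4 = 0 → p.a6 = 0 → p ∈ F := fun p e1 e4 e6 => by
    rw [nf p, e1, e4, e6]
    exact mul_mem (mul_mem (mul_mem (mul_mem (mul_mem (mul_mem (mul_mem (hZ (by simp)) (h2 _ _)) (h3 _))
      (h40 _)) (h5 _)) (h60 _)) (h7 _)) (h8 _ _)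
  have h6 : ∀ c v, w6 c v ∈ F := fun c v => by
    by_cases h0 : c = 0
    · exact h0 ▸ h60 v
    obtain ⟨a, ha⟩ := s.exists_wt' 1 1 (by norm_num) h0
    have := hM ((w6 c v)⁻¹ * (x1 1 * w8 (a : K) 0 * x1 1)) (by simp; grind) (by simp) (by simp; grind)
    exact inv_mem_iff.mp ((F.mul_mem_cancel_right (hd a 0)).mp this)
  have h4 : ∀ c v, w4 c v ∈ F := fun c v => by
    have := hM ((w6 c 0)⁻¹ * ((w4 c v)⁻¹ * (x1 1 * w8 0 c * x1 1))) (by simp; grind) (by simp; grind)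
      (by simp; grind)
    exact inv_mem_iff.mp ((F.mul_mem_cancel_right (hd 0 c)).mp
      ((F.mul_mem_cancel_left (inv_mem (h6 c 0))).mp this))
  intro p hp
  rw [nf p, show p.a1 = 0 from hp]
  exact mul_mem (mul_mem (mul_mem (mul_mem (mul_mem (mul_mem (mul_mem (hZ (by simp)) (h2 _ _)) (h3 _))
      (h4 _ _)) (h5 _)) (h6 _ _)) (h7 _)) (h8 _ _)

end SG

/-- An involution `m` that inverts `m x₁(1)` of order three, acts on `Z` as in the model and on `U₈` as in the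
model acts on `R` as in the model. -/
theorem OC.mu_of_U8 (h : OC L) {m : G} (mm : m * m = 1) (m3 : (m * L.u (x1 1)) ^ 3 = 1)
    (mZ : ∀ e b, m * L.u (zv e b) * m = L.u (zv b e)) (m8 : ∀ a v, m * L.u (w8 a v) * m = L.u (w2 a v))
    (p : SG s) (hp : p.a1 = 0) : m * L.u p * m = L.u (mu p) := by
  let F : Subgroup (SG s) :=
    { carrier := {p | p ∈ Rs s ∧ m * L.u p * m = L.u (mu p)}
      mul_mem' := fun {p r} hp hr => ⟨mul_mem hp.1 hr.1, by
        rw [mu_mul hp.1 hr.1, map_mul, map_mul, ← hp.2, ← hr.2]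
        calc _ = m * L.u p * 1 * L.u r * m := by group
          _ = _ := by rw [← mm]; group⟩
      one_mem' := ⟨one_mem _, by rw [show mu (1 : SG s) = 1 by ext <;> simp, map_one, mul_one, mm]⟩
      inv_mem' := fun {p} hp => ⟨inv_mem hp.1, by
        have e : mu p⁻¹ = (mu p)⁻¹ := eq_inv_of_mul_eq_one_left (by
          rw [← mu_mul (inv_mem hp.1) hp.1, inv_mul_cancel]; ext <;> simp)
        rw [e, map_inv, map_inv, ← hp.2]
        simp [inv_eq_of_mul_eq_one_right mm, mul_assoc]⟩ }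
  have m2 : ∀ a v, m * L.u (w2 a v) * m = L.u (w8 a v) := fun a v => by
    rw [← m8]
    calc _ = (m * m) * L.u (w8 a v) * (m * m) := by group
      _ = _ := by simp [mm]
  refine (Rs_le (F := F) (fun a v => ⟨by simp, ?_⟩) (fun a v => ⟨by simp, ?_⟩) (fun p hp => ?_)
    (fun a v => ⟨by simp; grind, ?_⟩) hp).2
  · rw [m2]; congr 1; ext <;> simp
  · rw [m8]; congr 1; ext <;> simp
  · have e : p = zv p.u4 p.u6 := by ext <;> simp_all
    refine ⟨hp.1, ?_⟩
    rw [e, mZ]; congr 1; ext <;> simp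
  · rw [mu_x1_w8, map_mul, map_mul]
    have uu : L.u (x1 1) * L.u (x1 1) = 1 := by rw [← map_mul, x1_mul_self, map_one]
    have c : L.u (x1 1) * L.u (w2 a v) = L.u (w2 a v) * L.u (x1 1) := by
      rw [← map_mul, ← map_mul]; congr 1; ext <;> simp
    rw [← m8] at c
    generalize L.u (x1 1) = u at *
    generalize L.u (w8 a v) = b at *
    have ui : u⁻¹ = u := inv_eq_of_mul_eq_one_right uu
    have mi : m⁻¹ = m := inv_eq_of_mul_eq_one_right mm
    have e : m * u = u * m * u * m := by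
      rw [eq_inv_of_mul_eq_one_left (show m * u * (m * u * m * u) = 1 by rw [← m3]; simp [pow_succ, mul_assoc])]
      simp [ui, mi, mul_assoc]
    have e' : u * m = m * u * m * u := by
      have := congrArg (·⁻¹) e
      simpa [ui, mi, mul_assoc] using this
    calc m * (u * b * u) * m = (m * u) * b * (u * m) := by group
      _ = u * m * (u * (m * b * m)) * u * m * u := by rw [e, e']; group
      _ = u * (m * m) * b * m * (u * u) * m * u := by rw [c]; group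
      _ = _ := by simp [mm, uu, mul_assoc, ← mul_assoc m m]

theorem braid_aux {Γ : Type*} [Group Γ] {m u : Γ} (mm : m * m = 1) (uu : u * u = 1) (m3 : (m * u) ^ 3 = 1)
    (a b : Γ) : u * (m * b * m) * u = a * (m * ((m * a * m)⁻¹ * (u * (m * a * m) * u)) * m) *
      (m * (u * (m * (a⁻¹ * (u * b * u)) * m) * u) * m) := by
  have e : m * u * m * u * m * u = 1 := by rw [← m3]; simp [pow_succ, mul_assoc]
  have mi : m⁻¹ = m := inv_eq_of_mul_eq_one_right mm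
  have f1 : ∀ x, m * (m * x) = x := fun x => by rw [← mul_assoc, mm, one_mul]
  have f2 : ∀ x, u * (u * x) = x := fun x => by rw [← mul_assoc, uu, one_mul]
  have f3 : ∀ x, m * (u * (m * (u * x))) = u * (m * x) := fun x => by
    calc _ = (m * u * m * u * m * u) * (u * (m * x)) := by simp only [mul_assoc, f1, f2]
      _ = _ := by rw [e, one_mul]
  have f4 : u * (m * (u * m)) = m * u := by
    calc _ = u * (m * u * m * u * m * u) * (u * (m * u)) := by simp only [mul_assoc, f1, f2, uu, mul_one]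
      _ = _ := by rw [e, mul_one, f2]
  simp only [mul_inv_rev, mi, mul_assoc, f1, f2, mul_inv_cancel_left, f3, f4]

theorem OC.m_U8 (h : OC L) {m k k' : G} {α : Kˣ} (hα : α ≠ 1) (mm : m * m = 1) (m3 : (m * L.u (x1 1)) ^ 3 = 1)
    (mR : m ∈ 𝐍[L.R]) (hk : ∀ p, k * L.u p * k⁻¹ = L.u (dl (α : K) 1 p))
    (hk' : ∀ p, k' * L.u p * k'⁻¹ = L.u (dl ((α⁻¹ : Kˣ) : K) (α : K) p)) (e : m * k * m = k') (a v : K) :
    m * L.u (w8 a v) * m = L.u (w2 a v) := by
  have mi : m⁻¹ = m := inv_eq_of_mul_eq_one_right mm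
  have e' : m * k' * m = k := by
    rw [← e]
    calc _ = (m * m) * k * (m * m) := by group
      _ = _ := by simp [mm]
  have hR : ∀ p ∈ Rs s, ∃ r ∈ Rs s, m * L.u p * m = L.u r := fun p hp => by
    obtain ⟨r, hr, e⟩ := conj_mem_of_norm mR (Lt.u_mem_im hp)
    exact ⟨r, hr, by rw [e, mi]⟩
  have cj : ∀ {k k' x : G}, m * k * m = k' → m * (k * x * k⁻¹) * m = k' * (m * x * m) * k'⁻¹ := by
    rintro k _ x rfl
    simp [mi, mul_assoc, ← mul_assoc m m, mm]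
  have mu : ∀ x y : G, m * (x * y) * m = m * x * m * (m * y * m) := fun x y => by
    simp [mul_assoc, ← mul_assoc m m, mm]
  have minv : ∀ x : G, m * x⁻¹ * m = (m * x * m)⁻¹ := fun x => by simp [mi, mul_assoc]
  have h8 : ∀ a v, ∃ a' v', m * L.u (w8 a v) * m = L.u (w2 a' v') := fun a v => by
    obtain ⟨r, hr, e1⟩ := hR (w8 a v) (by simp)
    have := cj (x := L.u (w8 a v)) e
    rw [hk, show dl (α : K) 1 (w8 a v : SG s) = w8 a v by ext <;> simp, e1, hk', h.u_inj] at this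
    obtain ⟨a', v', rfl⟩ := mem_U2s_iff.mp (mem_U2_of_dl hα hr this.symm)
    exact ⟨a', v', e1⟩
  have h2 : ∀ a v, ∃ a' v', m * L.u (w2 a v) * m = L.u (w8 a' v') := fun a v => by
    obtain ⟨r, hr, e1⟩ := hR (w2 a v) (by simp)
    have := cj (x := L.u (w2 a v)) e'
    rw [hk', show dl ((α⁻¹ : Kˣ) : K) (α : K) (w2 a v : SG s) = w2 a v by
      ext <;> simp; field_simp, e1, hk, h.u_inj] at this
    obtain ⟨a', v', rfl⟩ := mem_U8s_iff.mp (mem_U8_of_dl hα this.symm)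
    exact ⟨a', v', e1⟩
  have hQ : ∀ x ∈ Qs s ⊓ Rs s, ∃ y ∈ R3s s, m * L.u x * m = L.u y := fun x hx => by
    obtain ⟨p, hp, rfl⟩ := exists_comm_of_fpf (dlE s α 1).toMonoidHom (fun a ha => by simp_all)
      (fun a ha e => by
        have := mem_U8_of_dl hα (p := a) (by simpa using e)
        ext <;> simp_all) hx
    obtain ⟨r, hr, e1⟩ := hR p hp.2
    refine ⟨r⁻¹ * dl ((α⁻¹ : Kˣ) : K) (α : K) r, ?_, ?_⟩
    · have h0 : r.a1 = 0 := hr
      have h1 : s.σ (α : K) ≠ 0 := by simp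
      simp [h0]; constructor <;> field_simp <;> grind
    · rw [map_mul, map_mul, mu, map_inv, map_inv, minv, e1, ← hk', ← e1, ← cj e, hk]; simp
  have hQ' : ∀ x ∈ R3s s, ∃ y ∈ Qs s ⊓ Rs s, m * L.u x * m = L.u y := fun x hx => by
    obtain ⟨p, hp, rfl⟩ := exists_comm_of_fpf (dlE s α⁻¹ α).toMonoidHom (fun a ha => by simp_all)
      (fun a ha e => by
        have := mem_U2_of_dl hα (p := a) ha.1 (by simpa using e)
        ext <;> simp_all) hx
    obtain ⟨r, hr, e1⟩ := hR p hp.1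
    refine ⟨r⁻¹ * dl (α : K) 1 r, ?_, ?_⟩
    · have h0 : r.a1 = 0 := hr
      simp [h0]; grind
    · rw [map_mul, map_mul, mu, map_inv, map_inv, minv, e1, ← hk, ← e1, ← cj e', hk']; simp
  obtain ⟨a', v', e1⟩ := h8 a v
  obtain ⟨b, w, e2⟩ := h2 a v
  obtain ⟨y1, hy1, e3⟩ := hQ' _ (x1_w8 a v)
  obtain ⟨y2, hy2, e4⟩ := hQ _ (x1_conj_mem hy1)
  obtain ⟨y3, hy3, e5⟩ := hQ _ (x1_w8' b w)
  have key : L.u (x1 1 * w2 a' v' * x1 1) = L.u (w2 a v * y3 * y2) := by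
    simp only [map_mul, map_inv] at e3 e4 e5 ⊢
    rw [← e1, ← e4, ← e5, ← e3, ← e2]
    exact braid_aux mm (by rw [← map_mul, x1_mul_self, map_one]) m3 _ _
  rw [e1, w2_eq (mul_mem hy3 hy2) (by rw [← mul_assoc]; exact h.inj key)]

/-- The second parabolic. -/
theorem St2.exists_ft (h : St2 L) (hq : ∃ c : Kˣ, c ≠ 1) :
    ∃ F : Ft s G, RF0 F ∧ St2 F.lt ∧ F.lt.C = L.C ∧ F.lt.τ = L.τ := by
  obtain ⟨L', t, g, M, e1, e2⟩ := h.exists_mid hq
  obtain ⟨m, mm, m3, mR, mX, mV, mP, mc⟩ := M.exists_m hq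
  have mZ := M.m_zv mm mX mP mc
  have mt := M.m_t mm (M.norm_H hq mX mV mc) mZ
  obtain ⟨α, hα⟩ := hq
  have e : (⟨L'.u, t, L'.n, m⟩ : Ft s G).lt = L' := by
    rw [Ft.lt, show t.comp s.hT = L'.h from MonoidHom.ext M.th]
  refine ⟨⟨L'.u, t, L'.n, m⟩, ⟨e ▸ M.st.toRC, mm, M.st.toOC.mu_of_U8 mm m3 mZ (M.st.toOC.m_U8 hα mm m3 mR
    (M.acts α 1).u (M.acts α⁻¹ α).u (by simpa using mt α 1)), fun α β => (M.acts α β).u, fun α β => ?_, mt, m3⟩,
    e ▸ M.st, e ▸ e1, e ▸ e2⟩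
  have h1 := (M.acts α β).n
  rw [← M.th, mul_inv_eq_iff_eq_mul, mul_assoc, ← inv_mul_eq_iff_eq_mul, ← mul_assoc, ← map_inv, ← map_mul] at h1
  change L'.n * t (α, β) * L'.n = _
  rw [← h1, mul_assoc, M.st.nn, mul_one]
  congr 1
  ext <;> simp [pow_two, mul_comm, mul_left_comm, mul_assoc]

end Cfsg.Agent.Og
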