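import Mathlib
import Cfsg.Agent.Og.K2
import Cfsg.Agent.Og.BNA

set_option autoImplicit false
set_option linter.unusedSectionVars false

namespace Cfsg.Agent.Og

open Cfsg.Agent.Loc.Mss Subgroup SG
open scoped commutatorElement

variable {K : Type*} [Field K] [CharP K 2] [Finite K] {s : Sg K} {G : Type*} [Group G] [Finite G]

/-! The group given by the relations `RF`. -/

variable {F : Ft s G}

theorem RF0.t_inj (h : RF0 F) (hi : Function.Injective F.u) : Function.Injective F.t :=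
  (injective_iff_map_eq_one _).2 fun x e => (h.ut_inj hi (p := 1) (by rw [map_one, one_mul, e])).2

theorem RF0.acts (h : RF0 F) (α β : Kˣ) : F.lt.Acts (F.t (α, β)) α β where
  u := h.tu α β
  h c := by
    change F.t (α, β) * F.t (s.hT c) * (F.t (α, β))⁻¹ = F.t (s.hT c)
    rw [← map_mul, mul_comm (α, β), map_mul, mul_inv_cancel_right]
  n := by
    change F.t (α, β) * F.n * (F.t (α, β))⁻¹ = F.t (s.hT (s.σu β)) * F.n
    have e : s.hT (s.σu β) = (α, β) * (α⁻¹ * β⁻¹ ^ 2 * s.σu β⁻¹, β⁻¹⁻¹) := by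
      ext <;> simp [pow_two, mul_comm, mul_assoc]
    rw [e, map_mul, ← h.nt, ← map_inv]
    calc F.t (α, β) * F.n * F.t (α, β)⁻¹ = F.t (α, β) * F.n * F.t (α, β)⁻¹ * (F.n * F.n) := by rw [h.nn, mul_one]
      _ = _ := by simp only [mul_assoc]; rfl

theorem RF0.H_norm_C (h : RF0 F) : F.H ≤ 𝐍[F.lt.C] := norm_of_forall_cj_le (by
  rintro _ ⟨⟨α, β⟩, rfl⟩
  have a := h.acts α β
  rw [← Lt.cjg_C]
  exact Lt.C_le _ (fun p => Set.mem_of_eq_of_mem (a.u p) (F.lt.u_mem_C _))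
    (fun c => Set.mem_of_eq_of_mem (a.h c) (F.lt.h_mem_C _))
    (Set.mem_of_eq_of_mem a.n (mul_mem (F.lt.h_mem_C _) F.lt.n_mem_C)))

theorem RF0.G0_eq (h : RF0 F) : F.G0 = F.lt.C ⊔ cj(F.m, F.lt.C) := by
  have l : ∀ {g}, g ∈ F.lt.C → g ∈ F.lt.C ⊔ cj(F.m, F.lt.C) := fun hg => mem_sup_left hg
  have r : ∀ {g}, g ∈ F.lt.C → F.m * g * F.m ∈ F.lt.C ⊔ cj(F.m, F.lt.C) := fun hg => by
    have := conj_mem_cj (g := F.m) hg
    rw [h.m_inv] at this
    exact mem_sup_right this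
  refine le_antisymm (F.G0_le (fun p => l (F.lt.u_mem_C p)) (fun x => ?_) (l F.lt.n_mem_C) ?_)
    (sup_le F.C_le_G0 (cj_le_of_mem F.C_le_G0 F.m_mem_G0))
  · obtain ⟨α, β⟩ := x
    have e := h.mt ((s.σu (α * β * s.σu β) * β⁻¹ * s.σu (s.σu (α * β * s.σu β) * β⁻¹))⁻¹)
      (s.σu (s.σu (α * β * s.σu β) * β⁻¹))
    have := mul_mem (l (F.lt.h_mem_C (α * β * s.σu β))) (r (F.lt.h_mem_C (s.σu (α * β * s.σu β) * β⁻¹)))
    change F.t (s.hT _) * (F.m * F.t (s.hT _) * F.m) ∈ _ at this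
    rw [Sg.hT_apply, Sg.hT_apply, e, ← map_mul] at this
    convert this using 2
    have hσ : ∀ c : Kˣ, s.σ c ≠ 0 := fun c => (s.σu c).ne_zero
    have := hσ α
    have := hσ β
    ext <;> simp <;> field_simp
  · have e := h.m3
    rw [pow_succ, pow_two] at e
    have e' : F.m = (F.u (x1 1) * (F.m * F.u (x1 1) * F.m) * F.u (x1 1))⁻¹ :=
      eq_inv_of_mul_eq_one_left (by rw [← e]; group)
    exact Set.mem_of_eq_of_mem e'
      (inv_mem (mul_mem (mul_mem (l (F.lt.u_mem_C _)) (r (F.lt.u_mem_C _))) (l (F.lt.u_mem_C _))))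

theorem RF0.BF_le (_ : RF0 F) : F.BF ≤ F.lt.C ⊔ F.H := sup_le_sup_right F.lt.S_le_C _

/-- `X` is a TI-set in `G0`. -/
theorem RF.mem_of_conj (h : RF F) (hi : Function.Injective F.u) {g x : G} (hg : g ∈ F.G0) (hx : x ∈ F.lt.X)
    (h1 : x ≠ 1) (k : g * x * g⁻¹ ∈ F.lt.X) : g ∈ F.lt.C ⊔ F.H := by
  obtain ⟨b, j, hj, b1, h1', b2, h2, rfl⟩ := h.bruhat hg
  have hx' := conj_mem_of_norm (h.BF_norm_X h2) hx
  have h1'' : b2 * x * b2⁻¹ ≠ 1 := fun e => h1 (by simpa using e)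
  have k' : F.aw b j * (b2 * x * b2⁻¹) * (F.aw b j)⁻¹ ∈ F.lt.X := by
    have := conj_mem_of_norm' (h.BF_norm_X h1') k
    simpa [mul_assoc] using this
  generalize b2 * x * b2⁻¹ = y at hx' h1'' k'
  suffices F.aw b j ∈ F.lt.C ⊔ F.H from mul_mem (mul_mem (h.BF_le h1') this) (h.BF_le h2)
  have T : ∀ i ≤ 7, F.aw true (i + 1) * y * (F.aw true (i + 1))⁻¹ ∈ F.lt.X → F.aw true (i + 1) ∈ F.lt.C ⊔ F.H :=
    fun i hi7 k => by
      rcases i with _ | i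
      · simpa [Ft.aw_succ] using mem_sup_left F.lt.n_mem_C
      · refine absurd ?_ (h.aw_X hi (j := i) (by omega) hx' h1'')
        have e : F.n * y * F.n⁻¹ = y := by
          rw [mul_inv_eq_iff_eq_mul]; exact (mem_cent.1 (h.rc.C_le_cent_X F.lt.n_mem_C) y hx').symm
        rw [← e]
        rw [F.aw_succ] at k
        simpa [mul_assoc] using k
  rcases j with _ | j
  · simp
  cases b
  · by_cases j7 : j = 7
    · subst j7
      have e : F.aw false (7 + 1) = F.aw true (7 + 1) := h.aw_eight true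
      rw [e] at k' ⊢
      exact T 7 le_rfl k'
    · exact absurd k' (h.aw_X hi (by omega) hx' h1'')
  · exact T j (by omega) k'

theorem RF.norm_X (h : RF F) (hi : Function.Injective F.u) : F.G0 ⊓ 𝐍[F.lt.X] = F.lt.C ⊔ F.H := by
  have o : OC F.lt := ⟨h.rc, hi⟩
  refine le_antisymm (fun g hg => h.mem_of_conj hi hg.1 F.lt.τ_mem_X (fun e => ?_) (conj_mem_of_norm hg.2 F.lt.τ_mem_X))
    (sup_le (le_inf F.C_le_G0 (norm_of_cent h.rc.C_le_cent_X)) (le_inf F.H_le_G0 (le_sup_right.trans h.BF_norm_X)))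
  have := o.orderOf_τ
  rw [e, orderOf_one] at this
  omega

theorem RF.cent_τ (h : RF F) (hi : Function.Injective F.u) : F.G0 ⊓ 𝐂₁[F.lt.τ] = F.lt.C := by
  refine le_antisymm (fun g hg => ?_) (le_inf F.C_le_G0 h.rc.C_le_cent_τ)
  have o : OC F.lt := ⟨h.rc, hi⟩
  have h1 : F.lt.τ ≠ 1 := fun e => by
    have := o.orderOf_τ
    rw [e, orderOf_one] at this
    omega
  have := h.mem_of_conj hi hg.1 F.lt.τ_mem_X h1 (by rw [mem_c1.1 hg.2, mul_inv_cancel_right]; exact F.lt.τ_mem_X)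
  obtain ⟨c, hc, _, ⟨⟨α, β⟩, rfl⟩, rfl⟩ := (mem_sup_norm h.H_norm_C).1 this
  refine mul_mem hc ?_
  have e := mem_c1.1 ((mul_mem_cancel_left (h.rc.C_le_cent_τ hc)).1 hg.2)
  rw [← mul_inv_eq_iff_eq_mul] at e
  have e2 := congrArg SG.u4 (hi ((h.tu α β (w4 0 1)).symm.trans e))
  simp only [dl_u4, w4_u4, mul_one] at e2
  obtain ⟨d, hd⟩ := s.exists_wt (i := 0) (j := 1) (by norm_num) β
  rw [zpow_zero, zpow_one, one_mul] at hd
  subst hd
  have e3 : α * (d * s.σu d) = 1 := s.eq_one_of_wt' 2 1 (by norm_num) (by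
    rw [← e2]; simp; ring)
  have : (α, s.σu d) = s.hT d := by rw [Sg.hT_apply, eq_inv_of_mul_eq_one_left e3]
  rw [this]
  exact F.lt.h_mem_C d

theorem RF.syl (h : RF F) (hi : Function.Injective F.u) : Syl 2 F.lt.S F.G0 := by
  have o : OC F.lt := ⟨h.rc, hi⟩
  refine Syl.of_norm h.rc.pg_S (F.lt.S_le_C.trans F.C_le_G0) fun P hP h1 h2 h3 => o.syl_C.ge_of_le hP h1 fun g hg => ?_
  have hX : g ∈ 𝐍[F.lt.X] := by
    rw [← o.cent_S]; exact norm_inf h3 (norm_cent h3) hg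
  have : g ∈ F.lt.C ⊔ F.H := h.norm_X hi ▸ ⟨h2 hg, hX⟩
  obtain ⟨c, hc, _, ⟨x, rfl⟩, rfl⟩ := (mem_sup_norm h.H_norm_C).1 this
  refine mul_mem hc ?_
  have pw : ∀ k : ℕ, (c * F.t x) ^ k * (F.t x ^ k)⁻¹ ∈ F.lt.C := fun k => by
    induction k with
    | zero => simp
    | succ k ih =>
      have : (c * F.t x) ^ (k + 1) * (F.t x ^ (k + 1))⁻¹ =
          c * (F.t x * ((c * F.t x) ^ k * (F.t x ^ k)⁻¹) * (F.t x)⁻¹) := by rw [pow_succ', pow_succ']; group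
      rw [this]
      exact mul_mem hc (conj_mem_of_norm (h.H_norm_C (F.t_mem_H x)) ih)
  obtain ⟨k, hk⟩ := pg_iff.1 hP _ hg
  have := pw (2 ^ k)
  rw [hk, one_mul, inv_mem_iff] at this
  refine mem_of_pow_mem (p := 2) (Nat.Coprime.coprime_dvd_left ((orderOf_map_dvd F.t x).trans (orderOf_dvd_natCard x)) ?_)
    this
  rw [Nat.card_prod]
  exact Nat.coprime_two_right.2 (Sg.odd_card_units.mul Sg.odd_card_units)

theorem RF.classes (h : RF F) (hi : Function.Injective F.u) {g : G} (hg : g ∈ F.G0) (h2 : g * g = 1)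
    (h1 : g ≠ 1) : ∃ x ∈ F.G0, x * g * x⁻¹ = F.lt.τ ∨ x * g * x⁻¹ = F.u (x5 1) := by
  have o : OC F.lt := ⟨h.rc, hi⟩
  have tr : ∀ {y g' : G}, y ∈ F.G0 → (∃ x ∈ F.G0, x * (y * g' * y⁻¹) * x⁻¹ = F.lt.τ ∨ x * (y * g' * y⁻¹) * x⁻¹ = F.u (x5 1)) →
      ∃ x ∈ F.G0, x * g' * x⁻¹ = F.lt.τ ∨ x * g' * x⁻¹ = F.u (x5 1) := fun {y g'} hy ⟨x, hx, e⟩ =>
    ⟨x * y, mul_mem hx hy, by simpa [mul_assoc] using e⟩
  have t2 : ∃ x ∈ F.G0, x * F.u (w6 0 1) * x⁻¹ = F.lt.τ ∨ x * F.u (w6 0 1) * x⁻¹ = F.u (x5 1) :=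
    ⟨F.m, F.m_mem_G0, Or.inl (by
      rw [h.m_inv, h.m_u (by simp)]; change _ = F.u (w4 0 1); congr 1; ext <;> simp)⟩
  have t3 : ∃ x ∈ F.G0, x * F.u (x5 1) * x⁻¹ = F.lt.τ ∨ x * F.u (x5 1) * x⁻¹ = F.u (x5 1) :=
    ⟨1, one_mem _, Or.inr (by simp)⟩
  have pg : IsPGroup 2 (zpowers g) := IsPGroup.of_card (n := 1) (by
    rw [Nat.card_zpowers, orderOf_eq_prime (by rw [pow_two, h2]) h1, pow_one])
  obtain ⟨y, hy, e⟩ := (h.syl hi).conj_le pg (zpowers_le.2 hg)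
  have hS := cj_le_iff.1 e g (mem_zpowers g)
  refine tr hy ?_
  have h2' : y * g * y⁻¹ * (y * g * y⁻¹) = 1 := by
    calc y * g * y⁻¹ * (y * g * y⁻¹) = y * (g * g) * y⁻¹ := by group
      _ = 1 := by rw [h2]; group
  have h1' : y * g * y⁻¹ ≠ 1 := fun e => h1 (by simpa using e)
  generalize y * g * y⁻¹ = g' at hS h2' h1'
  by_cases hX : g' ∈ F.lt.X
  · obtain ⟨p, hp, rfl⟩ := hX
    obtain ⟨a, rfl⟩ := mem_Xs_iff.1 hp
    have a0 : a ≠ 0 := fun e => h1' (by rw [e]; exact map_one F.u)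
    obtain ⟨α, hα⟩ := s.exists_wt' 2 1 (by norm_num) (inv_ne_zero a0)
    refine ⟨F.t (α, 1), F.t_mem_G0 _, Or.inl ?_⟩
    rw [Ft.lt_u, h.tu]
    change _ = F.u (w4 0 1)
    congr 1
    rw [pow_one] at hα
    ext <;> simp [hα, a0]
  obtain ⟨c, hc, k⟩ := o.conj_inv (F.lt.S_le_C hS) h2' hX
  refine tr (F.C_le_G0 hc) ?_
  rcases k with k | k | k | ⟨a, k⟩ <;> rw [k]
  · exact t2
  · exact t3
  · refine ⟨F.n * F.m, mul_mem F.n_mem_G0 F.m_mem_G0, Or.inr ?_⟩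
    have e1 : F.m * F.u (x7 1) * F.m = F.u (x3 1) := by rw [h.m_u (by simp)]; congr 1; ext <;> simp
    have e2 : F.n * F.u (x3 1) * F.n = F.u (x5 1) := by rw [h.n_u (by simp)]; congr 1; ext <;> simp
    rw [← e2, ← e1, mul_inv_rev, h.m_inv, h.n_inv, Ft.lt_u]; group
  · refine tr F.m_mem_G0 ?_
    rw [h.m_inv, Ft.lt_u, h.m_u (by simp)]
    obtain ⟨c, hc, k⟩ := h.rc.conj_V (g := F.u (SG.mu (w4 0 a * w8 0 1))) (Lt.u_mem_im (L := F.lt) (by simp))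
      fun k => by have := (mem_map_iff_mem hi).1 k; simp at this
    refine tr (F.C_le_G0 hc) ?_
    rcases k with k | k <;> rw [k]
    exacts [t2, t3]

theorem iso_of_graph {G' : Type*} [Group G'] {Γ : Subgroup (G × G')} {A : Subgroup G} {A' : Subgroup G'}
    (h1 : Γ.map (MonoidHom.fst G G') = A) (h2 : Γ.map (MonoidHom.snd G G') = A') (i1 : ∀ g ∈ Γ, g.1 = 1 → g = 1)
    (i2 : ∀ g ∈ Γ, g.2 = 1 → g = 1) :
    ∃ e : A ≃* A', ∀ x y, (x, y) ∈ Γ → ∀ hx : x ∈ A, (e ⟨x, hx⟩ : G') = y := by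
  subst h1 h2
  have b1 : Function.Bijective ((MonoidHom.fst G G').subgroupMap Γ) :=
    ⟨(injective_iff_map_eq_one _).2 fun g e => Subtype.ext (i1 g g.2 (congrArg Subtype.val e)),
      MonoidHom.subgroupMap_surjective _ _⟩
  have b2 : Function.Bijective ((MonoidHom.snd G G').subgroupMap Γ) :=
    ⟨(injective_iff_map_eq_one _).2 fun g e => Subtype.ext (i2 g g.2 (congrArg Subtype.val e)),
      MonoidHom.subgroupMap_surjective _ _⟩
  refine ⟨(MulEquiv.ofBijective _ b1).symm.trans (MulEquiv.ofBijective _ b2), fun x y hxy hx => ?_⟩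
  have : (MulEquiv.ofBijective _ b1).symm ⟨x, hx⟩ = ⟨(x, y), hxy⟩ := (MulEquiv.symm_apply_eq _).2 rfl
  rw [MulEquiv.trans_apply, this]; rfl

/-- A homomorphism that carries the letters to faithful letters is injective. -/
theorem RF.inj_of {G' : Type*} [Group G'] [Finite G'] {F' : Ft s G'} (h : RF F) (h' : RF F')
    (hi' : Function.Injective F'.u) (f : G →* G') (hu : ∀ p, f (F.u p) = F'.u p) (ht : ∀ x, f (F.t x) = F'.t x)
    (hn : f F.n = F'.n) (hm : f F.m = F'.m) {g : G} (hg : g ∈ F.G0) (e : f g = 1) : g = 1 := by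
  obtain ⟨b, k, hk, b1, h1, b2, h2, rfl⟩ := h.bruhat hg
  have hB : ∀ x ∈ F.BF, f x ∈ F'.BF := fun x hx =>
    F.BF_le (M := F'.BF.comap f) (fun p => by rw [mem_comap, hu]; exact F'.u_mem_BF p)
      (fun x => by rw [mem_comap, ht]; exact F'.t_mem_BF x) hx
  have hw : ∀ k b, f (F.aw b k) = F'.aw b k := fun k => by
    induction k with
    | zero => simp
    | succ k ih => intro b; rw [F.aw_succ, F'.aw_succ, map_mul, ih]; cases b <;> simp [hn, hm]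
  rcases k with _ | k
  · rw [F.aw_zero, mul_one] at e ⊢
    obtain ⟨p, x, e'⟩ := h.mem_BF.1 (mul_mem h1 h2)
    rw [e', map_mul, hu, ht] at e
    obtain ⟨rfl, rfl⟩ := h'.ut_inj hi' e
    rw [e', map_one, map_one, mul_one]
  · refine absurd ?_ (h'.aw_not_mem hi' b (k := k) (by omega))
    rw [map_mul, map_mul, hw] at e
    rw [← mul_mem_cancel_left (hB _ h1), ← mul_mem_cancel_right (hB _ h2), e]
    exact one_mem _

/-- The relations determine the group. -/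
theorem RF.iso {G' : Type*} [Group G'] [Finite G'] {F' : Ft s G'} (h : RF F) (hi : Function.Injective F.u) (h' : RF F')
    (hi' : Function.Injective F'.u) : ∃ e : F.G0 ≃* F'.G0, (∀ p, (e ⟨F.u p, F.u_mem_G0 p⟩ : G') = F'.u p) ∧
      (∀ x, (e ⟨F.t x, F.t_mem_G0 x⟩ : G') = F'.t x) ∧ (e ⟨F.n, F.n_mem_G0⟩ : G') = F'.n ∧
      (e ⟨F.m, F.m_mem_G0⟩ : G') = F'.m := by
  let E : Ft s (G × G') := ⟨F.u.prod F'.u, F.t.prod F'.t, (F.n, F'.n), (F.m, F'.m)⟩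
  have hE : RF E :=
    { rc :=
        { nn := Prod.ext h.rc.nn h'.rc.nn
          nu := fun p a b => Prod.ext (h.rc.nu p a b) (h'.rc.nu p a b)
          hu := fun c p => Prod.ext (h.rc.hu c p) (h'.rc.hu c p)
          nh := fun c => Prod.ext (h.rc.nh c) (h'.rc.nh c)
          r1 := fun a v N e => Prod.ext (h.rc.r1 a v N e) (h'.rc.r1 a v N e) }
      mm := Prod.ext h.mm h'.mm
      mu := fun p a => Prod.ext (h.mu p a) (h'.mu p a)
      tu := fun a b p => Prod.ext (h.tu a b p) (h'.tu a b p)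
      nt := fun a b => Prod.ext (h.nt a b) (h'.nt a b)
      mt := fun a b => Prod.ext (h.mt a b) (h'.mt a b)
      m3 := Prod.ext h.m3 h'.m3
      br := Prod.ext h.br h'.br }
  obtain ⟨e, he⟩ := iso_of_graph (Γ := E.G0) (A := F.G0) (A' := F'.G0)
    (le_antisymm (map_le_iff_le_comap.2 (E.G0_le F.u_mem_G0 F.t_mem_G0 F.n_mem_G0 F.m_mem_G0))
      (F.G0_le (fun p => ⟨_, E.u_mem_G0 p, rfl⟩) (fun p => ⟨_, E.t_mem_G0 p, rfl⟩) ⟨_, E.n_mem_G0, rfl⟩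
        ⟨_, E.m_mem_G0, rfl⟩))
    (le_antisymm (map_le_iff_le_comap.2 (E.G0_le F'.u_mem_G0 F'.t_mem_G0 F'.n_mem_G0 F'.m_mem_G0))
      (F'.G0_le (fun p => ⟨_, E.u_mem_G0 p, rfl⟩) (fun p => ⟨_, E.t_mem_G0 p, rfl⟩) ⟨_, E.n_mem_G0, rfl⟩
        ⟨_, E.m_mem_G0, rfl⟩))
    (fun g hg k => hE.inj_of h hi (MonoidHom.fst G G') (fun _ => rfl) (fun _ => rfl) rfl rfl hg k)
    (fun g hg k => hE.inj_of h' hi' (MonoidHom.snd G G') (fun _ => rfl) (fun _ => rfl) rfl rfl hg k)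
  exact ⟨e, fun p => he _ _ (E.u_mem_G0 p) _, fun p => he _ _ (E.t_mem_G0 p) _, he _ _ E.n_mem_G0 _,
    he _ _ E.m_mem_G0 _⟩

end Cfsg.Agent.Og
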