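import Mathlib
import Cfsg.Agent.Og.KitG
import Cfsg.Agent.Og.K2

/-! Fusion: movers, and `τ` is not conjugate to `x₅(1)`. -/

set_option autoImplicit false
set_option linter.unusedSectionVars false
set_option linter.unusedSimpArgs false

namespace Cfsg.Agent.Og

open Cfsg.Agent.Loc.Mss Subgroup SG
open scoped commutatorElement

variable {K : Type*} [Field K] [CharP K 2] [Finite K] {s : Sg K} {G : Type*} [Group G]

namespace A1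

variable (s) in
def As : Subgroup (SG s) where
  carrier := {p | p.a1 = 0 ∧ p.a2 = 0 ∧ p.a8 = 0 ∧ p.u8 = 0}
  mul_mem' := fun {p r} hp hr => by simp_all
  one_mem' := by simp
  inv_mem' := fun {p} hp => by simp_all

@[simp] theorem mem_As {p : SG s} : p ∈ As s ↔ p.a1 = 0 ∧ p.a2 = 0 ∧ p.a8 = 0 ∧ p.u8 = 0 := Iff.rfl

variable (s) in
def As' : Subgroup (SG s) where
  carrier := {p | p.a1 = 0 ∧ p.a2 = 0 ∧ p.a8 = 0 ∧ p.u8 = 0 ∧ p.a4 = p.a6 ∧ p.a7 = p.a6}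
  mul_mem' := fun {p r} hp hr => by simp_all
  one_mem' := by simp
  inv_mem' := fun {p} hp => by simp_all

@[simp] theorem mem_As' {p : SG s} :
    p ∈ As' s ↔ p.a1 = 0 ∧ p.a2 = 0 ∧ p.a8 = 0 ∧ p.u8 = 0 ∧ p.a4 = p.a6 ∧ p.a7 = p.a6 := Iff.rfl

variable (s) in
def Ws : Subgroup (SG s) where
  carrier := {p | p.a1 = 0 ∧ p.a2 = 0 ∧ p.u2 = 0 ∧ p.a3 = 0 ∧ p.a4 = 0 ∧ p.a6 = 0 ∧ p.a7 = 0 ∧
    p.a8 = 0 ∧ p.u8 = 0}
  mul_mem' := fun {p r} hp hr => by simp_all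
  one_mem' := by simp
  inv_mem' := fun {p} hp => by simp_all

@[simp] theorem mem_Ws {p : SG s} : p ∈ Ws s ↔ p.a1 = 0 ∧ p.a2 = 0 ∧ p.u2 = 0 ∧ p.a3 = 0 ∧
    p.a4 = 0 ∧ p.a6 = 0 ∧ p.a7 = 0 ∧ p.a8 = 0 ∧ p.u8 = 0 := Iff.rfl

theorem g2_le : ⁅T3s s, T3s s⁆ ≤ As s := commutator_le.2 fun p hp r hr => by
  simp_all [commutatorElement_def]
  grind

theorem g3_le : ⁅As s, T3s s⁆ ≤ Vs s := commutator_le.2 fun p hp r hr => by
  simp_all [commutatorElement_def]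
  grind

theorem g4_le : ⁅Vs s, T3s s⁆ ≤ Ws s := commutator_le.2 fun p hp r hr => by
  simp_all [commutatorElement_def]
  grind

theorem g5_le : ⁅Ws s, T3s s⁆ ≤ Xs s := commutator_le.2 fun p hp r hr => by
  simp_all [commutatorElement_def]
  grind

theorem g2_le' (h : ∀ c, s.σ c = c) : ⁅T3s s, T3s s⁆ ≤ As' s := commutator_le.2 fun p hp r hr => by
  simp_all [commutatorElement_def]
  grind

theorem g3_le' (h : ∀ c, s.σ c = c) : ⁅As' s, T3s s⁆ ≤ Ws s := commutator_le.2 fun p hp r hr => by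
  simp_all [commutatorElement_def]
  grind

theorem tau_eq {p : SG s} (hp : p ∈ Ws s) (h : p.u6 ≠ 0) : ⁅p, (x1 (p.u6)⁻¹ : SG s)⁆ = w4 0 1 := by
  ext <;> simp_all [commutatorElement_def] <;> grind

theorem u6_V {p : SG s} (hp : p ∈ Vs s) (c : K) :
    ⁅p, (w8 0 c : SG s)⁆.u6 = s.σ c * p.u2 + c * p.a3 := by
  simp_all [commutatorElement_def]
  grind

theorem u2_A {p : SG s} (hp : p ∈ As s) (c : K) :
    ⁅p, (x1 c : SG s)⁆.u2 = p.a4 * c + p.a6 * s.σ c ∧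
      ⁅p, (x1 c : SG s)⁆.a3 = s.σ p.a6 * c + p.a7 * s.σ c := by
  simp_all [commutatorElement_def]
  grind

theorem a4_T : ⁅(x1 1 : SG s), (w8 0 1 : SG s)⁆.a4 = 1 ∧ ⁅(x1 1 : SG s), (w8 0 1 : SG s)⁆.a6 = 1 ∧
    ⁅(x1 1 : SG s), (w8 0 1 : SG s)⁆.a7 = 1 := by
  simp [commutatorElement_def]

theorem u6_ne {c : K} (h : s.σ c ≠ c) :
    ⁅⁅⁅(x1 1 : SG s), (w8 0 1 : SG s)⁆, (x1 c : SG s)⁆, (w8 0 c : SG s)⁆.u6 ≠ 0 := by
  have h1 : ⁅(x1 1 : SG s), (w8 0 1 : SG s)⁆ ∈ As s :=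
    g2_le (commutator_mem_commutator (by simp) (by simp))
  rw [u6_V (g3_le (commutator_mem_commutator h1 (by simp))), (u2_A h1 c).1, (u2_A h1 c).2,
    a4_T.1, a4_T.2.1, a4_T.2.2, map_one,
    show s.σ c * (1 * c + 1 * s.σ c) + c * (1 * c + 1 * s.σ c) = (s.σ c - c) ^ 2 by grind]
  exact pow_ne_zero _ (sub_ne_zero.2 h)

theorem u6_ne' : ⁅⁅(x1 1 : SG s), (x7 1 : SG s)⁆, (w8 0 1 : SG s)⁆.u6 ≠ 0 := by
  have : ⁅⁅(x1 1 : SG s), (x7 1 : SG s)⁆, (w8 0 1 : SG s)⁆.u6 = 1 := by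
    simp [commutatorElement_def]
    grind
  rw [this]
  exact one_ne_zero

theorem im_comm (L : Lt s G) (A B : Subgroup (SG s)) : L.im ⁅A, B⁆ = ⁅L.im A, L.im B⁆ :=
  map_commutator _ _ _

theorem norm_im {L : Lt s G} {A B : Subgroup (SG s)} {M : Subgroup G} (hA : M ≤ 𝐍[L.im A])
    (hB : M ≤ 𝐍[L.im B]) : M ≤ 𝐍[L.im ⁅A, B⁆] := by
  rw [im_comm]; exact norm_comm hA hB

theorem exists_char (L : Lt s G) :
    ∃ E : Subgroup (SG s), 𝐍[L.im (T3s s)] ≤ 𝐍[L.im E] ∧ E ≤ Xs s ∧ w4 0 1 ∈ E := by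
  have key : ∀ A : Subgroup (SG s), 𝐍[L.im (T3s s)] ≤ 𝐍[L.im A] → A ≤ Ws s → ∀ p ∈ A, p.u6 ≠ 0 →
      ∃ E : Subgroup (SG s), 𝐍[L.im (T3s s)] ≤ 𝐍[L.im E] ∧ E ≤ Xs s ∧ w4 0 1 ∈ E :=
    fun A h1 h2 p hp h3 => ⟨⁅A, T3s s⁆, norm_im h1 le_rfl, (commutator_mono h2 le_rfl).trans g5_le,
      tau_eq (h2 hp) h3 ▸ commutator_mem_commutator hp (by simp)⟩
  have n2 : 𝐍[L.im (T3s s)] ≤ 𝐍[L.im ⁅T3s s, T3s s⁆] := norm_im le_rfl le_rfl
  by_cases h : ∀ c, s.σ c = c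
  · exact key _ (norm_im n2 le_rfl) ((commutator_mono (g2_le' h) le_rfl).trans (g3_le' h)) _
      (commutator_mem_commutator (commutator_mem_commutator (by simp) (by simp)) (by simp)) u6_ne'
  · obtain ⟨c, hc⟩ := not_forall.1 h
    exact key _ (norm_im (norm_im n2 le_rfl) le_rfl)
      ((commutator_mono ((commutator_mono g2_le le_rfl).trans g3_le) le_rfl).trans g4_le) _
      (commutator_mem_commutator (commutator_mem_commutator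
        (commutator_mem_commutator (by simp) (by simp)) (by simp)) (by simp)) (u6_ne hc)

theorem sq_of_isConj [Finite G] {L : Lt s G} (h : OC L) {d : G} (hc : IsConj L.τ d) : d * d = 1 := by
  obtain ⟨g, rfl⟩ := isConj_iff.1 hc
  rw [conj_mul, ← pow_two, ← h.orderOf_τ, pow_orderOf_eq_one, mul_one, mul_inv_cancel]

end A1

variable [Finite G] {L : Lt s G}

/-- For a conjugate `d` of `τ` in `C - X` some element normalizes `C_C(d)` but not `X`. -/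
theorem St.exists_mover (h : St L) {d : G} (hd : d ∈ L.C) (hX : d ∉ L.X) (hc : IsConj L.τ d) :
    ∃ y ∈ 𝐍[L.C ⊓ 𝐂₁[d]], y ∉ 𝐍[L.X] := by
  by_contra hn
  push Not at hn
  obtain ⟨h1, h2⟩ := h.toOC.pg_cent hd (A1.sq_of_isConj h.toOC hc) hX
  obtain ⟨g, rfl⟩ := isConj_iff.1 hc
  have h' := h.cjg g
  have h3 : Syl 2 (L.C ⊓ 𝐂₁[g * L.τ * g⁻¹]) (L.cjg g).C :=
    Syl.of_norm h1 (h'.le_C h1 (inf_le_right.trans h'.nrm)) fun P hP _ hC hN =>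
      le_inf (h.le_C hP fun x hx => h.norm_X ▸ hn x (hN hx)) (hC.trans h'.toOC.toRC.C_le_cent_τ)
  rw [h3.card_eq h'.toOC.syl_C, h'.toOC.card_S] at h2
  exact lt_irrefl _ h2

theorem St.A1 (h : St L) : ¬ IsConj L.τ (L.u (x5 1)) := by
  intro hc
  obtain ⟨y, hy, hn⟩ := h.exists_mover (L.u_mem_C _) (by rw [h.toOC.u_mem_im]; simp) hc
  rw [h.toOC.cent3] at hy
  obtain ⟨E, h1, h2, h3⟩ := A1.exists_char L
  exact hn (h.norm_X ▸ h.mem_norm_C (Lt.im_mono h2 (conj_mem_of_norm (h1 hy) (Lt.u_mem_im h3))))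

end Cfsg.Agent.Og
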