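import Mathlib
import Cfsg.Agent.Og.BA

/-! Statements about the Sylow subgroup over the field with two elements are decided on bit vectors: bit `j` of each
of twelve numbers is a coordinate of the `j`-th element. -/

set_option autoImplicit false
set_option linter.unusedSectionVars false

namespace Cfsg.Agent.Og

open SG
open scoped commutatorElement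

/-- Twelve bit vectors. -/
structure SN where
  a1 : ℕ
  a2 : ℕ
  u2 : ℕ
  a3 : ℕ
  a4 : ℕ
  u4 : ℕ
  a5 : ℕ
  a6 : ℕ
  u6 : ℕ
  a7 : ℕ
  a8 : ℕ
  u8 : ℕ

namespace SN

local infixl:65 " +ₓ " => Nat.xor
local infixl:70 " *ₓ " => Nat.land

/-- The product. -/
def mul (p r : SN) : SN where
  a1 := p.a1 +ₓ r.a1
  a2 := p.a2 +ₓ r.a2 +ₓ (p.a8 *ₓ r.a1)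
  u2 := p.u2 +ₓ r.u2 +ₓ (p.a2 *ₓ r.a2) +ₓ (p.a4 *ₓ r.a1) +ₓ (p.a6 *ₓ r.a1) +ₓ (p.u8 *ₓ r.a1) +ₓ ((p.a2 *ₓ p.a8) *ₓ r.a1)
       +ₓ ((p.a8 *ₓ r.a1) *ₓ r.a2)
  a3 := p.a3 +ₓ r.a3 +ₓ (p.a4 *ₓ r.a2) +ₓ (p.a6 *ₓ r.a1) +ₓ (p.a7 *ₓ r.a1) +ₓ (p.a8 *ₓ r.a2) +ₓ (p.a8 *ₓ r.u2) +ₓ (p.a8 *ₓ r.a1)
       +ₓ (p.u8 *ₓ r.a1) +ₓ ((p.a4 *ₓ p.a8) *ₓ r.a1) +ₓ ((p.a8 *ₓ p.u8) *ₓ r.a1) +ₓ ((p.u8 *ₓ r.a1) *ₓ r.a2)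
  a4 := p.a4 +ₓ r.a4 +ₓ (p.a8 *ₓ r.a2) +ₓ (p.u8 *ₓ r.a1)
  u4 := p.u4 +ₓ r.u4 +ₓ (p.a4 *ₓ r.a4) +ₓ (p.a5 *ₓ r.a2) +ₓ (p.a6 *ₓ r.a3) +ₓ (p.a7 *ₓ r.a2) +ₓ (p.a7 *ₓ r.u2) +ₓ (p.a8 *ₓ r.a3)
       +ₓ (p.a8 *ₓ r.a2) +ₓ (p.a8 *ₓ r.a1) +ₓ (p.u6 *ₓ r.a1) +ₓ (p.u8 *ₓ r.a2) +ₓ (p.u8 *ₓ r.u2) +ₓ (p.u8 *ₓ r.a1)
       +ₓ ((p.a4 *ₓ p.a8) *ₓ r.a2) +ₓ ((p.a4 *ₓ p.u8) *ₓ r.a1) +ₓ ((p.a5 *ₓ p.a8) *ₓ r.a1) +ₓ ((p.a6 *ₓ p.a7) *ₓ r.a1)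
       +ₓ ((p.a6 *ₓ p.a8) *ₓ r.a2) +ₓ ((p.a6 *ₓ p.a8) *ₓ r.u2) +ₓ ((p.a6 *ₓ p.a8) *ₓ r.a1) +ₓ ((p.a6 *ₓ p.u8) *ₓ r.a1)
       +ₓ ((p.a7 *ₓ p.a8) *ₓ r.a1) +ₓ ((p.a7 *ₓ r.a1) *ₓ r.a2) +ₓ ((p.a7 *ₓ p.a8) *ₓ r.a1) +ₓ ((p.a7 *ₓ p.u8) *ₓ r.a1)
       +ₓ ((p.a8 *ₓ r.a2) *ₓ r.a3) +ₓ ((p.a8 *ₓ p.u8) *ₓ r.a1) +ₓ ((p.a8 *ₓ r.a2) *ₓ r.a4) +ₓ ((p.a8 *ₓ p.u8) *ₓ r.a1)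
       +ₓ ((p.a8 *ₓ r.a1) *ₓ r.a3) +ₓ ((p.a8 *ₓ r.a2) *ₓ r.u2) +ₓ ((p.a8 *ₓ r.a1) *ₓ r.a2) +ₓ ((p.u8 *ₓ r.a1) *ₓ r.a2)
       +ₓ ((p.u8 *ₓ r.a1) *ₓ r.u2) +ₓ ((p.u8 *ₓ r.a1) *ₓ r.a4) +ₓ ((p.u8 *ₓ r.a1) *ₓ r.a3) +ₓ ((p.u8 *ₓ r.a2) *ₓ r.u2)
       +ₓ ((p.u8 *ₓ r.a1) *ₓ r.a2) +ₓ (((p.a6 *ₓ p.a8) *ₓ p.u8) *ₓ r.a1) +ₓ (((p.a6 *ₓ p.u8) *ₓ r.a1) *ₓ r.a2)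
       +ₓ (((p.a7 *ₓ p.a8) *ₓ r.a1) *ₓ r.a2) +ₓ (((p.a8 *ₓ p.u8) *ₓ r.a1) *ₓ r.a2) +ₓ (((p.a8 *ₓ p.u8) *ₓ r.a1) *ₓ r.a2)
  a5 := p.a5 +ₓ r.a5 +ₓ (p.a6 *ₓ r.a4) +ₓ (p.a7 *ₓ r.a1) +ₓ (p.a7 *ₓ r.a2) +ₓ (p.a8 *ₓ r.a3) +ₓ (p.a8 *ₓ r.u2) +ₓ (p.a8 *ₓ r.a1)
       +ₓ (p.u8 *ₓ r.u2) +ₓ (p.u8 *ₓ r.a1) +ₓ ((p.a6 *ₓ p.a8) *ₓ r.a2) +ₓ ((p.a6 *ₓ p.u8) *ₓ r.a1) +ₓ ((p.a7 *ₓ p.a8) *ₓ r.a1)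
       +ₓ ((p.a8 *ₓ p.u8) *ₓ r.a1) +ₓ ((p.a8 *ₓ r.a2) *ₓ r.a4) +ₓ ((p.a8 *ₓ r.a1) *ₓ r.a4) +ₓ ((p.u8 *ₓ r.a1) *ₓ r.a2)
       +ₓ ((p.u8 *ₓ r.a1) *ₓ r.a4)
  a6 := p.a6 +ₓ r.a6 +ₓ (p.a8 *ₓ r.a2) +ₓ (p.a8 *ₓ r.a1) +ₓ (p.u8 *ₓ r.a1)
  u6 := p.u6 +ₓ r.u6 +ₓ (p.a6 *ₓ r.a6) +ₓ (p.a7 *ₓ r.a2) +ₓ (p.a7 *ₓ r.a4) +ₓ (p.a8 *ₓ r.a5) +ₓ (p.a8 *ₓ r.u2) +ₓ (p.a8 *ₓ r.a1)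
       +ₓ (p.u8 *ₓ r.a2) +ₓ (p.u8 *ₓ r.u2) +ₓ (p.u8 *ₓ r.a3) +ₓ ((p.a6 *ₓ p.a8) *ₓ r.a2) +ₓ ((p.a6 *ₓ p.a8) *ₓ r.a1)
       +ₓ ((p.a6 *ₓ p.u8) *ₓ r.a1) +ₓ ((p.a7 *ₓ p.a8) *ₓ r.a1) +ₓ ((p.a7 *ₓ p.a8) *ₓ r.a2) +ₓ ((p.a7 *ₓ p.u8) *ₓ r.a1)
       +ₓ ((p.a8 *ₓ r.a2) *ₓ r.a6) +ₓ ((p.a8 *ₓ p.u8) *ₓ r.u2) +ₓ ((p.a8 *ₓ p.u8) *ₓ r.a1) +ₓ ((p.a8 *ₓ p.u8) *ₓ r.a1)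
       +ₓ ((p.a8 *ₓ r.a1) *ₓ r.a6) +ₓ ((p.a8 *ₓ r.a1) *ₓ r.a4) +ₓ ((p.a8 *ₓ r.a1) *ₓ r.a2) +ₓ ((p.u8 *ₓ r.a1) *ₓ r.a4)
       +ₓ ((p.u8 *ₓ r.a1) *ₓ r.a6) +ₓ ((p.u8 *ₓ r.a2) *ₓ r.a4) +ₓ ((p.u8 *ₓ r.a1) *ₓ r.a2)
       +ₓ (((p.a8 *ₓ p.u8) *ₓ r.a1) *ₓ r.a2) +ₓ (((p.a8 *ₓ p.u8) *ₓ r.a1) *ₓ r.a2) +ₓ (((p.a8 *ₓ p.u8) *ₓ r.a1) *ₓ r.a4)
  a7 := p.a7 +ₓ r.a7 +ₓ (p.a8 *ₓ r.a6) +ₓ (p.a8 *ₓ r.a1) +ₓ (p.u8 *ₓ r.a1) +ₓ (p.u8 *ₓ r.a2) +ₓ ((p.a8 *ₓ p.u8) *ₓ r.a1)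
  a8 := p.a8 +ₓ r.a8
  u8 := p.u8 +ₓ r.u8 +ₓ (p.a8 *ₓ r.a8)

/-- The inverse. -/
def inv (p : SN) : SN where
  a1 := p.a1
  a2 := p.a2 +ₓ (p.a1 *ₓ p.a8)
  u2 := p.a2 +ₓ p.u2 +ₓ (p.a1 *ₓ p.a6) +ₓ (p.a1 *ₓ p.a4) +ₓ (p.a1 *ₓ p.a8) +ₓ (p.a1 *ₓ p.u8) +ₓ ((p.a1 *ₓ p.a2) *ₓ p.a8)
  a3 := p.a3 +ₓ (p.a1 *ₓ p.a7) +ₓ (p.a1 *ₓ p.a6) +ₓ (p.a1 *ₓ p.a8) +ₓ (p.a1 *ₓ p.u8) +ₓ (p.a2 *ₓ p.a4) +ₓ (p.a8 *ₓ p.u2)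
       +ₓ ((p.a1 *ₓ p.a2) *ₓ p.a8) +ₓ ((p.a1 *ₓ p.a2) *ₓ p.u8) +ₓ ((p.a1 *ₓ p.a6) *ₓ p.a8) +ₓ ((p.a1 *ₓ p.a4) *ₓ p.a8)
       +ₓ ((p.a1 *ₓ p.a8) *ₓ p.u8)
  a4 := p.a4 +ₓ (p.a1 *ₓ p.a8) +ₓ (p.a1 *ₓ p.u8) +ₓ (p.a2 *ₓ p.a8)
  u4 := p.a4 +ₓ p.u4 +ₓ (p.a1 *ₓ p.a6) +ₓ (p.a1 *ₓ p.u6) +ₓ (p.a1 *ₓ p.u8) +ₓ (p.a2 *ₓ p.a5) +ₓ (p.a2 *ₓ p.a8) +ₓ (p.a2 *ₓ p.u8)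
       +ₓ (p.a3 *ₓ p.a8) +ₓ (p.a3 *ₓ p.a6) +ₓ (p.a7 *ₓ p.u2) +ₓ (p.a8 *ₓ p.u2) +ₓ (p.u2 *ₓ p.u8) +ₓ ((p.a1 *ₓ p.a2) *ₓ p.a8)
       +ₓ ((p.a1 *ₓ p.a6) *ₓ p.a7) +ₓ ((p.a1 *ₓ p.a6) *ₓ p.a8) +ₓ ((p.a1 *ₓ p.a2) *ₓ p.a7) +ₓ ((p.a1 *ₓ p.a3) *ₓ p.u8)
       +ₓ ((p.a1 *ₓ p.a4) *ₓ p.a7) +ₓ ((p.a1 *ₓ p.a8) *ₓ p.u2) +ₓ ((p.a1 *ₓ p.u2) *ₓ p.u8) +ₓ ((p.a1 *ₓ p.a2) *ₓ p.a8)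
       +ₓ ((p.a1 *ₓ p.a2) *ₓ p.u8) +ₓ ((p.a1 *ₓ p.a6) *ₓ p.a8) +ₓ ((p.a1 *ₓ p.a6) *ₓ p.u8) +ₓ ((p.a1 *ₓ p.a7) *ₓ p.u8)
       +ₓ ((p.a1 *ₓ p.a4) *ₓ p.a8) +ₓ ((p.a1 *ₓ p.a4) *ₓ p.u8) +ₓ ((p.a1 *ₓ p.a6) *ₓ p.a8) +ₓ ((p.a1 *ₓ p.a7) *ₓ p.a8)
       +ₓ ((p.a1 *ₓ p.a8) *ₓ p.u8) +ₓ ((p.a1 *ₓ p.a8) *ₓ p.u8) +ₓ ((p.a2 *ₓ p.a3) *ₓ p.a8) +ₓ ((p.a2 *ₓ p.a4) *ₓ p.a6)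
       +ₓ ((p.a2 *ₓ p.u2) *ₓ p.u8) +ₓ ((p.a2 *ₓ p.a4) *ₓ p.a8) +ₓ (((p.a1 *ₓ p.a2) *ₓ p.a6) *ₓ p.u8)
       +ₓ (((p.a1 *ₓ p.a2) *ₓ p.a7) *ₓ p.a8) +ₓ (((p.a1 *ₓ p.a2) *ₓ p.a8) *ₓ p.u8) +ₓ (((p.a1 *ₓ p.a2) *ₓ p.a6) *ₓ p.a8)
       +ₓ (((p.a1 *ₓ p.a2) *ₓ p.a8) *ₓ p.u8)
  a5 := p.a5 +ₓ (p.a1 *ₓ p.a7) +ₓ (p.a1 *ₓ p.a8) +ₓ (p.a1 *ₓ p.u8) +ₓ (p.a2 *ₓ p.a7) +ₓ (p.a2 *ₓ p.u8) +ₓ (p.a3 *ₓ p.a8)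
       +ₓ (p.a4 *ₓ p.a6) +ₓ (p.u2 *ₓ p.u8) +ₓ ((p.a1 *ₓ p.a6) *ₓ p.u8) +ₓ ((p.a1 *ₓ p.a7) *ₓ p.a8) +ₓ ((p.a1 *ₓ p.a2) *ₓ p.a8)
       +ₓ ((p.a1 *ₓ p.a2) *ₓ p.u8) +ₓ ((p.a1 *ₓ p.a6) *ₓ p.a8) +ₓ ((p.a1 *ₓ p.a8) *ₓ p.u8)
  a6 := p.a6 +ₓ (p.a1 *ₓ p.u8) +ₓ (p.a2 *ₓ p.a8)
  u6 := p.a6 +ₓ p.u6 +ₓ (p.a1 *ₓ p.a8) +ₓ (p.a2 *ₓ p.a7) +ₓ (p.a3 *ₓ p.a8) +ₓ (p.a3 *ₓ p.u8) +ₓ (p.a4 *ₓ p.a7) +ₓ (p.a5 *ₓ p.a8)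
       +ₓ (p.a8 *ₓ p.u2) +ₓ (p.u2 *ₓ p.u8) +ₓ ((p.a1 *ₓ p.a2) *ₓ p.a8) +ₓ ((p.a1 *ₓ p.a2) *ₓ p.u8) +ₓ ((p.a1 *ₓ p.a6) *ₓ p.a8)
       +ₓ ((p.a1 *ₓ p.a6) *ₓ p.u8) +ₓ ((p.a1 *ₓ p.a7) *ₓ p.a8) +ₓ ((p.a1 *ₓ p.a7) *ₓ p.u8) +ₓ ((p.a1 *ₓ p.a2) *ₓ p.a8)
       +ₓ ((p.a1 *ₓ p.a6) *ₓ p.a8) +ₓ ((p.a1 *ₓ p.a7) *ₓ p.a8) +ₓ ((p.a1 *ₓ p.a8) *ₓ p.u8) +ₓ ((p.a1 *ₓ p.a8) *ₓ p.u8)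
       +ₓ ((p.a2 *ₓ p.a7) *ₓ p.a8) +ₓ ((p.a2 *ₓ p.a6) *ₓ p.a8) +ₓ ((p.a2 *ₓ p.a8) *ₓ p.u8) +ₓ ((p.a4 *ₓ p.a6) *ₓ p.a8)
       +ₓ ((p.a8 *ₓ p.u2) *ₓ p.u8) +ₓ (((p.a1 *ₓ p.a2) *ₓ p.a8) *ₓ p.u8) +ₓ (((p.a1 *ₓ p.a6) *ₓ p.a8) *ₓ p.u8)
       +ₓ (((p.a1 *ₓ p.a2) *ₓ p.a8) *ₓ p.u8)
  a7 := p.a7 +ₓ (p.a1 *ₓ p.a8) +ₓ (p.a1 *ₓ p.u8) +ₓ (p.a2 *ₓ p.a8) +ₓ (p.a2 *ₓ p.u8) +ₓ (p.a6 *ₓ p.a8)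
       +ₓ ((p.a1 *ₓ p.a8) *ₓ p.u8)
  a8 := p.a8
  u8 := p.a8 +ₓ p.u8

/-- The map `nu`. -/
def nu (p : SN) : SN where
  a1 := p.a7
  a2 := p.a6
  u2 := p.u6 +ₓ (p.a2 *ₓ p.a7) +ₓ (p.a4 *ₓ p.a7)
  a3 := p.a5 +ₓ (p.a1 *ₓ p.a7) +ₓ (p.a2 *ₓ p.a7) +ₓ (p.a4 *ₓ p.a6)
  a4 := p.a4
  u4 := p.u4 +ₓ (p.a1 *ₓ p.a6) +ₓ (p.a1 *ₓ p.u6) +ₓ (p.a2 *ₓ p.a5) +ₓ (p.a3 *ₓ p.a6) +ₓ (p.a7 *ₓ p.u2)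
       +ₓ ((p.a1 *ₓ p.a6) *ₓ p.a7) +ₓ ((p.a1 *ₓ p.a2) *ₓ p.a7) +ₓ ((p.a1 *ₓ p.a4) *ₓ p.a7) +ₓ ((p.a2 *ₓ p.a4) *ₓ p.a6)
  a5 := p.a3 +ₓ (p.a1 *ₓ p.a7) +ₓ (p.a1 *ₓ p.a6) +ₓ (p.a2 *ₓ p.a4)
  a6 := p.a2
  u6 := p.u2 +ₓ (p.a1 *ₓ p.a6) +ₓ (p.a1 *ₓ p.a4)
  a7 := p.a1
  a8 := 0
  u8 := 0

/-- The map `mu`. -/
def mu (p : SN) : SN where
  a1 := 0
  a2 := p.a8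
  u2 := p.u8
  a3 := p.a7 +ₓ (p.a2 *ₓ p.a8) +ₓ (p.a2 *ₓ p.u8) +ₓ (p.a6 *ₓ p.a8)
  a4 := p.a6 +ₓ (p.a2 *ₓ p.a8)
  u4 := p.u6 +ₓ (p.a2 *ₓ p.a7) +ₓ (p.a2 *ₓ p.a8) +ₓ (p.a3 *ₓ p.a8) +ₓ (p.a3 *ₓ p.u8) +ₓ (p.a4 *ₓ p.a7) +ₓ (p.a5 *ₓ p.a8)
       +ₓ (p.a8 *ₓ p.u2) +ₓ (p.u2 *ₓ p.u8) +ₓ ((p.a2 *ₓ p.a6) *ₓ p.a8) +ₓ ((p.a2 *ₓ p.a7) *ₓ p.a8) +ₓ ((p.a2 *ₓ p.a8) *ₓ p.u8)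
       +ₓ ((p.a4 *ₓ p.a6) *ₓ p.a8) +ₓ ((p.a8 *ₓ p.u2) *ₓ p.u8)
  a5 := p.a5 +ₓ (p.a2 *ₓ p.a7) +ₓ (p.a2 *ₓ p.u8) +ₓ (p.a3 *ₓ p.a8) +ₓ (p.a4 *ₓ p.a6) +ₓ (p.u2 *ₓ p.u8)
  a6 := p.a4 +ₓ (p.a2 *ₓ p.a8)
  u6 := p.u4 +ₓ (p.a2 *ₓ p.a5) +ₓ (p.a2 *ₓ p.u8) +ₓ (p.a3 *ₓ p.a8) +ₓ (p.a3 *ₓ p.a6) +ₓ (p.a7 *ₓ p.u2) +ₓ (p.a8 *ₓ p.u2)
       +ₓ (p.u2 *ₓ p.u8) +ₓ ((p.a2 *ₓ p.a4) *ₓ p.a8) +ₓ ((p.a2 *ₓ p.a3) *ₓ p.a8) +ₓ ((p.a2 *ₓ p.a4) *ₓ p.a6)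
       +ₓ ((p.a2 *ₓ p.u2) *ₓ p.u8)
  a7 := p.a3 +ₓ (p.a2 *ₓ p.a4) +ₓ (p.a8 *ₓ p.u2)
  a8 := p.a2
  u8 := p.u2

/-- The element with code `A` where `c` has a bit, and `1` elsewhere. -/
def sc (c A : ℕ) : SN :=
  ⟨cond (A.testBit 0) c 0,
   cond (A.testBit 1) c 0,
   cond (A.testBit 2) c 0,
   cond (A.testBit 3) c 0,
   cond (A.testBit 4) c 0,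
   cond (A.testBit 5) c 0,
   cond (A.testBit 6) c 0,
   cond (A.testBit 7) c 0,
   cond (A.testBit 8) c 0,
   cond (A.testBit 9) c 0,
   cond (A.testBit 10) c 0,
   cond (A.testBit 11) c 0⟩

/-- The places where two vectors differ. -/
def neq (p r : SN) : ℕ :=
  (p.a1 +ₓ r.a1) ||| (p.a2 +ₓ r.a2) ||| (p.u2 +ₓ r.u2) ||| (p.a3 +ₓ r.a3) ||| (p.a4 +ₓ r.a4) ||| (p.u4 +ₓ r.u4) |||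
  (p.a5 +ₓ r.a5) ||| (p.a6 +ₓ r.a6) ||| (p.u6 +ₓ r.u6) ||| (p.a7 +ₓ r.a7) ||| (p.a8 +ₓ r.a8) ||| (p.u8 +ₓ r.u8)

/-- A coordinate. -/
def co (p : SN) : ℕ → ℕ
  | 0 => p.a1
  | 1 => p.a2
  | 2 => p.u2
  | 3 => p.a3
  | 4 => p.a4
  | 5 => p.u4
  | 6 => p.a5
  | 7 => p.a6
  | 8 => p.u6
  | 9 => p.a7
  | 10 => p.a8
  | _ => p.u8

/-- The map that sends the twelve letters to the elements with codes `l`. -/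
def ph (l : List ℕ) (p : SN) : SN :=
  mul (mul (mul (mul (mul (mul (mul (mul (mul (mul (mul (sc p.a1 (l.getD 0 0))
    (sc p.a2 (l.getD 1 0)))
    (sc p.u2 (l.getD 2 0)))
    (sc p.a3 (l.getD 3 0)))
    (sc p.a4 (l.getD 4 0)))
    (sc p.u4 (l.getD 5 0)))
    (sc p.a5 (l.getD 6 0)))
    (sc p.a6 (l.getD 7 0)))
    (sc p.u6 (l.getD 8 0)))
    (sc p.a7 (l.getD 9 0)))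
    (sc p.a8 (l.getD 10 0)))
    (sc p.u8 (l.getD 11 0))

end SN

variable {K : Type*} [Field K] {s : Sg K}

/-- Bit `j` of `n`. -/
def bt (K : Type*) [Field K] (j n : ℕ) : K := if n.testBit j then 1 else 0

theorem bt_zero (j : ℕ) : bt K j 0 = 0 := by simp [bt]

theorem bt_land (j a b : ℕ) : bt K j (Nat.land a b) = bt K j a * bt K j b := by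
  have : (Nat.land a b).testBit j = _ := Nat.testBit_and a b j
  unfold bt; rw [this]; cases a.testBit j <;> cases b.testBit j <;> simp

theorem bt_xor [CharP K 2] (j a b : ℕ) : bt K j (Nat.xor a b) = bt K j a + bt K j b := by
  have : (Nat.xor a b).testBit j = _ := Nat.testBit_xor a b j
  unfold bt; rw [this]; cases a.testBit j <;> cases b.testBit j <;> simp [CharTwo.add_self_eq_zero]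

theorem σ_bt (j a : ℕ) : s.σ (bt K j a) = bt K j a := by unfold bt; split <;> simp

theorem bt_pow (j a n : ℕ) : bt K j a ^ (n + 1) = bt K j a := by unfold bt; split <;> simp

theorem bt_mul (j a : ℕ) : bt K j a * bt K j a = bt K j a := by unfold bt; split <;> simp

theorem mul_bt (x : K) (j a : ℕ) : x * bt K j a * bt K j a = x * bt K j a := by rw [mul_assoc, bt_mul]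

theorem bt_eq_zero {j a : ℕ} : bt K j a = 0 ↔ a.testBit j = false := by
  unfold bt; cases a.testBit j <;> simp

theorem bt_inj {j a b : ℕ} : bt K j a = bt K j b ↔ a.testBit j = b.testBit j := by
  unfold bt; cases a.testBit j <;> cases b.testBit j <;> simp

theorem bt_cond (j c A i : ℕ) : bt K j (cond (A.testBit i) c 0) = bt K j c * bt K i A := by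
  unfold bt; cases A.testBit i <;> simp

namespace SG

/-- The element with code `A`. -/
def cst (A : ℕ) : SG s := ⟨bt K 0 A, bt K 1 A, bt K 2 A, bt K 3 A, bt K 4 A, bt K 5 A,
  bt K 6 A, bt K 7 A, bt K 8 A, bt K 9 A, bt K 10 A, bt K 11 A⟩

/-- The element with code `A` for `c = 1`, and `1` for `c = 0`. -/
def sc (c : K) (A : ℕ) : SG s := ⟨c * bt K 0 A, c * bt K 1 A, c * bt K 2 A, c * bt K 3 A,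
  c * bt K 4 A, c * bt K 5 A, c * bt K 6 A, c * bt K 7 A, c * bt K 8 A,
  c * bt K 9 A, c * bt K 10 A, c * bt K 11 A⟩

/-- A coordinate. -/
def co (p : SG s) : ℕ → K
  | 0 => p.a1
  | 1 => p.a2
  | 2 => p.u2
  | 3 => p.a3
  | 4 => p.a4
  | 5 => p.u4
  | 6 => p.a5
  | 7 => p.a6
  | 8 => p.u6
  | 9 => p.a7
  | 10 => p.a8
  | _ => p.u8

/-- The map that sends the twelve letters to the elements with codes `l`. -/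
def ph (l : List ℕ) (p : SG s) : SG s :=
  sc p.a1 (l.getD 0 0) * sc p.a2 (l.getD 1 0) * sc p.u2 (l.getD 2 0) * sc p.a3 (l.getD 3 0) *
    sc p.a4 (l.getD 4 0) * sc p.u4 (l.getD 5 0) * sc p.a5 (l.getD 6 0) * sc p.a6 (l.getD 7 0) *
    sc p.u6 (l.getD 8 0) * sc p.a7 (l.getD 9 0) * sc p.a8 (l.getD 10 0) * sc p.u8 (l.getD 11 0)

theorem sc_one (A : ℕ) : (sc 1 A : SG s) = cst A := by simp [sc, cst]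

theorem sc_zero (A : ℕ) : (sc 0 A : SG s) = 1 := by ext <;> simp [sc]

end SG

namespace SN

variable (s) in
/-- The `j`-th element. -/
def ev (j : ℕ) (p : SN) : SG s := ⟨bt K j p.a1, bt K j p.a2, bt K j p.u2, bt K j p.a3, bt K j p.a4,
  bt K j p.u4, bt K j p.a5, bt K j p.a6, bt K j p.u6, bt K j p.a7, bt K j p.a8, bt K j p.u8⟩

theorem ev_sc (j c A : ℕ) : ev s j (sc c A) = SG.sc (bt K j c) A := by simp only [ev, sc, SG.sc, bt_cond]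

theorem ev_co (j : ℕ) (p : SN) (i : ℕ) : (ev s j p).co i = bt K j (p.co i) := by
  unfold SG.co co; split <;> rfl

theorem neq_iff (j : ℕ) (p r : SN) : (neq p r).testBit j = false ↔ ev s j p = ev s j r := by
  have e : ∀ a b : ℕ, (Nat.xor a b).testBit j = _ := fun a b => Nat.testBit_xor a b j
  simp only [neq, ev, SG.mk.injEq, bt_inj, Nat.testBit_or, e, Bool.or_eq_false_iff, and_assoc, bne_eq_false_iff_eq]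

variable [CharP K 2]

theorem ev_mul (j : ℕ) (p r : SN) : ev s j (mul p r) = ev s j p * ev s j r := by
  ext <;> simp only [ev, mul, bt_xor, bt_land, mul_a1, mul_a2, mul_u2, mul_a3, mul_a4, mul_u4, mul_a5, mul_a6, mul_u6, mul_a7, mul_a8, mul_u8, σ_bt, bt_pow, bt_mul, mul_bt]

theorem ev_inv (j : ℕ) (p : SN) : ev s j (inv p) = (ev s j p)⁻¹ := by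
  ext <;> simp only [ev, inv, bt_xor, bt_land, inv_a1, inv_a2, inv_u2, inv_a3, inv_a4, inv_u4, inv_a5, inv_a6, inv_u6, inv_a7, inv_a8, inv_u8, σ_bt, bt_pow, bt_mul, mul_bt]

theorem ev_nu (j : ℕ) (p : SN) : ev s j (nu p) = SG.nu (ev s j p) := by
  simp only [ev, nu, SG.nu, bt_xor, bt_land, bt_zero, σ_bt, bt_pow, bt_mul, mul_bt]

theorem ev_mu (j : ℕ) (p : SN) : ev s j (mu p) = SG.mu (ev s j p) := by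
  simp only [ev, mu, SG.mu, bt_xor, bt_land, bt_zero, σ_bt, bt_pow, bt_mul, mul_bt]

theorem ev_ph (j : ℕ) (l : List ℕ) (p : SN) : ev s j (ph l p) = SG.ph l (ev s j p) := by
  simp only [ph, ev_mul, ev_sc, SG.ph]; simp only [ev]

end SN

end Cfsg.Agent.Og
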