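import Mathlib
import Cfsg.Agent.Og.ENA

/-! The decision procedure: `dec0`, `dec1`, `dec2` prove statements with no, one or two quantified elements of `SG s`
over the field with two elements from a `by decide +kernel`. -/

set_option autoImplicit false
set_option linter.unusedSectionVars false

namespace Cfsg.Agent.Og

open SG
open scoped commutatorElement

/-- Terms in two variables. -/
inductive Tm
  | vx | vy
  | cst (A : ℕ)
  | mul (a b : Tm)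
  | inv (a : Tm)
  | nu (a : Tm)
  | mu (a : Tm)
  | ph (l : List ℕ) (a : Tm)

/-- Formulas. -/
inductive Fm
  | tt
  | eq (a b : Tm)
  | co (a : Tm) (i : ℕ)
  | not (f : Fm)
  | and (f g : Fm)
  | or (f g : Fm)
  | iff (f g : Fm)

variable {K : Type*} [Field K] [CharP K 2] {s : Sg K}

namespace Tm

/-- The value of a term. -/
def ev (p q : SG s) : Tm → SG s
  | vx => p
  | vy => q
  | cst A => SG.cst A
  | mul a b => a.ev p q * b.ev p q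
  | inv a => (a.ev p q)⁻¹
  | nu a => SG.nu (a.ev p q)
  | mu a => SG.mu (a.ev p q)
  | ph l a => SG.ph l (a.ev p q)

/-- The vector of values. -/
noncomputable def sl (M : ℕ) (X Y : SN) (t : Tm) : SN :=
  Tm.rec X Y (fun A => SN.sc M A) (fun _ _ a b => a.mul b) (fun _ a => a.inv) (fun _ a => a.nu) (fun _ a => a.mu)
    (fun l _ a => SN.ph l a) t

theorem ev_sl {M j : ℕ} (h : M.testBit j = true) (X Y : SN) (t : Tm) :
    SN.ev s j (t.sl M X Y) = t.ev (SN.ev s j X) (SN.ev s j Y) := by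
  induction t with
  | vx => rfl
  | vy => rfl
  | cst A => exact (SN.ev_sc ..).trans (by rw [bt, if_pos h, sc_one]; rfl)
  | mul a b h1 h2 => exact (SN.ev_mul ..).trans (congrArg₂ _ h1 h2)
  | inv a h1 => exact (SN.ev_inv ..).trans (congrArg _ h1)
  | nu a h1 => exact (SN.ev_nu ..).trans (congrArg _ h1)
  | mu a h1 => exact (SN.ev_mu ..).trans (congrArg _ h1)
  | ph l a h1 => exact (SN.ev_ph ..).trans (congrArg _ h1)

/-- Powers. -/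
def pow (a : Tm) : ℕ → Tm
  | 0 => cst 0
  | n + 1 => mul (pow a n) a

end Tm

namespace Fm

/-- The meaning of a formula. -/
def sat (p q : SG s) : Fm → Prop
  | tt => True
  | eq a b => a.ev p q = b.ev p q
  | co a i => (a.ev p q).co i = 0
  | not f => ¬ f.sat p q
  | and f g => f.sat p q ∧ g.sat p q
  | or f g => f.sat p q ∨ g.sat p q
  | iff f g => (f.sat p q ↔ g.sat p q)

/-- The vector of truth values. -/
noncomputable def sl (M : ℕ) (X Y : SN) (f : Fm) : ℕ :=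
  Fm.rec M (fun a b => Nat.xor M ((a.sl M X Y).neq (b.sl M X Y))) (fun a i => Nat.xor M ((a.sl M X Y).co i))
    (fun _ a => Nat.xor M a) (fun _ _ a b => Nat.land a b) (fun _ _ a b => Nat.lor a b)
    (fun _ _ a b => Nat.xor M (Nat.xor a b)) f

theorem sl_iff {M j : ℕ} (h : M.testBit j = true) (X Y : SN) (f : Fm) :
    (f.sl M X Y).testBit j = true ↔ f.sat (SN.ev s j X) (SN.ev s j Y) := by
  have e : ∀ a, (Nat.xor M a).testBit j = true ↔ a.testBit j = false := fun a => by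
    rw [show (Nat.xor M a).testBit j = _ from Nat.testBit_xor M a j, h]; simp
  induction f with
  | tt => exact iff_of_true h trivial
  | eq a b => exact (e _).trans ((SN.neq_iff (s := s) ..).trans (by rw [Tm.ev_sl h, Tm.ev_sl h]; rfl))
  | co a i => exact (e _).trans (bt_eq_zero.symm.trans (by rw [← SN.ev_co (s := s), Tm.ev_sl h]; rfl))
  | not f h1 => exact (e _).trans (Bool.eq_false_iff.trans (not_congr h1))
  | and f g h1 h2 =>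
    exact (congrArg (· = true) (Nat.testBit_and ..)).to_iff.trans (Bool.and_eq_true_iff.trans (and_congr h1 h2))
  | or f g h1 h2 =>
    exact (congrArg (· = true) (Nat.testBit_or ..)).to_iff.trans (Bool.or_eq_true_iff.trans (or_congr h1 h2))
  | iff f g h1 h2 =>
    refine (e _).trans (.trans ?_ (iff_congr h1 h2))
    rw [show (Nat.xor _ _).testBit j = _ from Nat.testBit_xor ..]
    exact (by decide : ∀ a b : Bool, (a ^^ b) = false ↔ (a = true ↔ b = true)) _ _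

/-- A disjunction over a list. -/
def ex (l : List ℕ) (f : ℕ → Fm) : Fm := l.foldr (fun A g => or (f A) g) (not tt)

/-- A conjunction over a list. -/
def all (l : List ℕ) (f : ℕ → Fm) : Fm := l.foldr (fun A g => and (f A) g) tt

end Fm

/-- Bit `j` is bit `k` of `j`, for `j < 2 ^ n`. -/
noncomputable def col (k n : ℕ) : ℕ :=
  Nat.rec 0 (fun i c => cond (Nat.beq i k) (Nat.shiftLeft (Nat.sub (Nat.pow 2 (Nat.pow 2 i)) 1) (Nat.pow 2 i))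
    (Nat.lor c (Nat.shiftLeft c (Nat.pow 2 i)))) n

theorem testBit_col (k n j : ℕ) : (col k n).testBit j = (decide (j < 2 ^ n) && j.testBit k) := by
  induction n generalizing j with
  | zero =>
    rcases j with _ | j <;> simp [col]
  | succ n ih =>
    have e : col k (n + 1) = cond (Nat.beq n k) ((2 ^ 2 ^ n - 1) <<< 2 ^ n) (col k n ||| col k n <<< 2 ^ n) := rfl
    have hb : n ≠ k → Nat.beq n k = false := fun h => Bool.eq_false_iff.2 fun e => h (Nat.eq_of_beq_eq_true e)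
    rw [e]
    by_cases hj : j < 2 ^ n
    · have h1 : j < 2 ^ (n + 1) := by omega
      by_cases hk : n = k
      · subst hk
        simp [Nat.testBit_shiftLeft, hj.not_ge, Nat.testBit_lt_two_pow hj]
      · simp [hb hk, ih, Nat.testBit_shiftLeft, hj.not_ge, hj, h1]
    · obtain ⟨i, rfl⟩ := Nat.exists_eq_add_of_le (not_lt.1 hj)
      have h1 : (2 ^ n + i < 2 ^ (n + 1)) ↔ i < 2 ^ n := by omega
      by_cases hi : i < 2 ^ n
      · by_cases hk : n = k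
        · subst hk
          simp [Nat.testBit_shiftLeft, h1, hi, Nat.testBit_two_pow_add_eq, Nat.testBit_lt_two_pow hi]
        · rcases lt_or_gt_of_ne hk with h2 | h2
          · have h3 : 2 ^ (n + 1) ≤ 2 ^ k := Nat.pow_le_pow_right two_pos h2
            simp [hb hk, ih, Nat.testBit_shiftLeft, Nat.testBit_lt_two_pow ((h1.2 hi).trans_le h3),
              Nat.testBit_lt_two_pow (show i < 2 ^ k by omega)]
          · simp [hb hk, ih, Nat.testBit_shiftLeft, h1, hi, Nat.testBit_two_pow_add_gt h2]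
      · cases Nat.beq n k <;> simp [ih, Nat.testBit_shiftLeft, h1, hi]

/-- The generic element read from the bits `o, ..., o + 11` of the place. -/
noncomputable def gnr (o n : ℕ) : SN :=
  ⟨col (o + 0) n, col (o + 1) n, col (o + 2) n, col (o + 3) n, col (o + 4) n, col (o + 5) n,
   col (o + 6) n, col (o + 7) n, col (o + 8) n, col (o + 9) n, col (o + 10) n, col (o + 11) n⟩

/-- The check on `2 ^ n` places. -/
noncomputable def Fm.chk (f : Fm) (n : ℕ) : Bool :=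
  Nat.beq (Nat.land (Nat.sub (Nat.pow 2 (Nat.pow 2 n)) 1) (f.sl (Nat.sub (Nat.pow 2 (Nat.pow 2 n)) 1) (gnr 0 n) (gnr 12 n)))
    (Nat.sub (Nat.pow 2 (Nat.pow 2 n)) 1)

theorem Fm.sat_of_chk {f : Fm} {n : ℕ} (h : f.chk n = true) {j : ℕ} (hj : j < 2 ^ n) :
    f.sat (SN.ev s j (gnr 0 n)) (SN.ev s j (gnr 12 n)) := by
  have e : (2 ^ 2 ^ n - 1).testBit j = true := by simp [hj]
  refine (Fm.sl_iff e ..).1 ?_
  have h1 := congrArg (·.testBit j) (Nat.eq_of_beq_eq_true h)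
  exact (Bool.and_eq_true_iff.1 ((Nat.testBit_and ..).symm.trans (h1.trans e))).2

/-- The field has two elements. -/
def Two (K : Type*) [Field K] : Prop := ∀ a : K, a = 0 ∨ a = 1

omit [CharP K 2] in
theorem Two.of (h : ∀ c : Kˣ, c = 1) : Two K := fun a =>
  (eq_or_ne a 0).imp_right fun e => congrArg Units.val (h (Units.mk0 a e))

omit [CharP K 2] in
theorem Two.ne_zero (h : Two K) (a : K) : ¬ a = 0 ↔ a = 1 := by rcases h a with e | e <;> simp [e]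

omit [CharP K 2] in
theorem Two.exists_ev (h : Two K) (p q : SG s) (n : ℕ) : ∃ j < 2 ^ n,
    (12 ≤ n → SN.ev s j (gnr 0 n) = p) ∧ (24 ≤ n → SN.ev s j (gnr 12 n) = q) := by
  classical
  let c : ℕ → K := fun i => if i < 12 then p.co i else q.co (i - 12)
  let j := Nat.ofBits fun i : Fin n => decide (c i = 1)
  have hj : j < 2 ^ n := Nat.ofBits_lt_two_pow _
  have e : ∀ k < n, bt K j (col k n) = c k := fun k hk => by
    rw [bt, testBit_col, Nat.testBit_ofBits_lt _ _ hk]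
    rcases h (c k) with e | e <;> simp [e, hj]
  exact ⟨j, hj, fun hn => by ext <;> exact e _ (by omega), fun hn => by ext <;> exact e _ (by omega)⟩

/-- `t` is a term for `x`. -/
class RT (p q x : SG s) (t : outParam Tm) : Prop where
  eq : t.ev p q = x

/-- `f` is a formula for `P`. -/
class RP (p q : SG s) (P : Prop) (f : outParam Fm) : Prop where
  iff : Two K → (f.sat p q ↔ P)

theorem dec2 (h2 : Two K) {P : SG s → SG s → Prop} {f : Fm} [h : ∀ p q, RP p q (P p q) f] (c : f.chk 24 = true)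
    (p q : SG s) : P p q := by
  obtain ⟨j, hj, e1, e2⟩ := h2.exists_ev p q 24
  exact ((h p q).iff h2).1 (e1 (by norm_num) ▸ e2 le_rfl ▸ Fm.sat_of_chk c hj)

theorem dec1 (h2 : Two K) {P : SG s → Prop} {f : Fm} [h : ∀ p q, RP p q (P p) f] (c : f.chk 12 = true)
    (p : SG s) : P p := by
  obtain ⟨j, hj, e1, -⟩ := h2.exists_ev p p 12
  exact ((h p _).iff h2).1 (e1 le_rfl ▸ Fm.sat_of_chk c hj)

theorem dec0 (s : Sg K) (h2 : Two K) {P : Prop} {f : Fm} [h : ∀ p q : SG s, RP p q P f] (c : f.chk 0 = true) : P :=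
  ((h _ _).iff h2).1 (Fm.sat_of_chk c (j := 0) one_pos)

section
variable {p q x y : SG s} {a b : Tm} {P Q : Prop} {f g : Fm}

instance (priority := low) RT.vx : RT p q p .vx := ⟨rfl⟩
instance (priority := low) RT.vy : RT p q q .vy := ⟨rfl⟩
instance RT.cst {A : ℕ} : RT p q (SG.cst A) (.cst A) := ⟨rfl⟩
instance RT.one : RT p q 1 (.cst 0) := ⟨by ext <;> simp [Tm.ev, SG.cst, bt]⟩
instance RT.mul [h : RT p q x a] [h' : RT p q y b] : RT p q (x * y) (.mul a b) := ⟨congrArg₂ _ h.eq h'.eq⟩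
instance RT.inv [h : RT p q x a] : RT p q x⁻¹ (.inv a) := ⟨congrArg _ h.eq⟩
instance RT.nu [h : RT p q x a] : RT p q (SG.nu x) (.nu a) := ⟨congrArg _ h.eq⟩
instance RT.mu [h : RT p q x a] : RT p q (SG.mu x) (.mu a) := ⟨congrArg _ h.eq⟩
instance RT.ph {l : List ℕ} [h : RT p q x a] : RT p q (SG.ph l x) (.ph l a) := ⟨congrArg _ h.eq⟩
instance RT.comm [h : RT p q x a] [h' : RT p q y b] : RT p q ⁅x, y⁆ (.mul (.mul (.mul a b) (.inv a)) (.inv b)) :=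
  ⟨by rw [← h.eq, ← h'.eq]; rfl⟩
instance RT.pow {n : ℕ} [h : RT p q x a] : RT p q (x ^ n) (a.pow n) := ⟨by
  induction n with
  | zero => exact RT.one.eq.trans (pow_zero _).symm
  | succ n ih => exact (congrArg₂ _ ih h.eq).trans (pow_succ _ _).symm⟩
instance RT.c_x11 : RT p q (x1 1) (.cst 1) := ⟨by ext <;> simp [Tm.ev, SG.cst, bt] <;> rfl⟩
instance RT.c_x31 : RT p q (x3 1) (.cst 8) := ⟨by ext <;> simp [Tm.ev, SG.cst, bt] <;> rfl⟩
instance RT.c_x51 : RT p q (x5 1) (.cst 64) := ⟨by ext <;> simp [Tm.ev, SG.cst, bt] <;> rfl⟩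
instance RT.c_x71 : RT p q (x7 1) (.cst 512) := ⟨by ext <;> simp [Tm.ev, SG.cst, bt] <;> rfl⟩
instance RT.c_w210 : RT p q (w2 1 0) (.cst 2) := ⟨by ext <;> simp [Tm.ev, SG.cst, bt] <;> rfl⟩
instance RT.c_w201 : RT p q (w2 0 1) (.cst 4) := ⟨by ext <;> simp [Tm.ev, SG.cst, bt] <;> rfl⟩
instance RT.c_w211 : RT p q (w2 1 1) (.cst 6) := ⟨by ext <;> simp [Tm.ev, SG.cst, bt] <;> rfl⟩
instance RT.c_w410 : RT p q (w4 1 0) (.cst 16) := ⟨by ext <;> simp [Tm.ev, SG.cst, bt] <;> rfl⟩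
instance RT.c_w401 : RT p q (w4 0 1) (.cst 32) := ⟨by ext <;> simp [Tm.ev, SG.cst, bt] <;> rfl⟩
instance RT.c_w411 : RT p q (w4 1 1) (.cst 48) := ⟨by ext <;> simp [Tm.ev, SG.cst, bt] <;> rfl⟩
instance RT.c_w610 : RT p q (w6 1 0) (.cst 128) := ⟨by ext <;> simp [Tm.ev, SG.cst, bt] <;> rfl⟩
instance RT.c_w601 : RT p q (w6 0 1) (.cst 256) := ⟨by ext <;> simp [Tm.ev, SG.cst, bt] <;> rfl⟩
instance RT.c_w611 : RT p q (w6 1 1) (.cst 384) := ⟨by ext <;> simp [Tm.ev, SG.cst, bt] <;> rfl⟩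
instance RT.c_w810 : RT p q (w8 1 0) (.cst 1024) := ⟨by ext <;> simp [Tm.ev, SG.cst, bt] <;> rfl⟩
instance RT.c_w801 : RT p q (w8 0 1) (.cst 2048) := ⟨by ext <;> simp [Tm.ev, SG.cst, bt] <;> rfl⟩
instance RT.c_w811 : RT p q (w8 1 1) (.cst 3072) := ⟨by ext <;> simp [Tm.ev, SG.cst, bt] <;> rfl⟩
instance RT.c_zv10 : RT p q (zv 1 0) (.cst 32) := ⟨by ext <;> simp [Tm.ev, SG.cst, bt] <;> rfl⟩
instance RT.c_zv01 : RT p q (zv 0 1) (.cst 256) := ⟨by ext <;> simp [Tm.ev, SG.cst, bt] <;> rfl⟩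
instance RT.c_zv11 : RT p q (zv 1 1) (.cst 288) := ⟨by ext <;> simp [Tm.ev, SG.cst, bt] <;> rfl⟩

instance RP.tt : RP p q True .tt := ⟨fun _ => .rfl⟩
instance RP.ff : RP p q False (.not .tt) := ⟨fun _ => not_true⟩
instance RP.eq [h : RT p q x a] [h' : RT p q y b] : RP p q (x = y) (.eq a b) := ⟨fun _ => by rw [← h.eq, ← h'.eq]; rfl⟩
instance RP.ne [h : RT p q x a] [h' : RT p q y b] : RP p q (x ≠ y) (.not (.eq a b)) :=
  ⟨fun _ => by rw [← h.eq, ← h'.eq]; rfl⟩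
instance RP.not [h : RP p q P f] : RP p q (¬ P) (.not f) := ⟨fun k => not_congr (h.iff k)⟩
instance RP.and [h : RP p q P f] [h' : RP p q Q g] : RP p q (P ∧ Q) (.and f g) :=
  ⟨fun k => and_congr (h.iff k) (h'.iff k)⟩
instance RP.or [h : RP p q P f] [h' : RP p q Q g] : RP p q (P ∨ Q) (.or f g) := ⟨fun k => or_congr (h.iff k) (h'.iff k)⟩
instance RP.iff' [h : RP p q P f] [h' : RP p q Q g] : RP p q (P ↔ Q) (.iff f g) :=
  ⟨fun k => iff_congr (h.iff k) (h'.iff k)⟩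
instance RP.imp [h : RP p q P f] [h' : RP p q Q g] : RP p q (P → Q) (.or (.not f) g) :=
  ⟨fun k => imp_iff_not_or.symm.trans (imp_congr (h.iff k) (h'.iff k))⟩
instance RP.ex {l : List ℕ} {R : ℕ → Prop} {F : ℕ → Fm} [h : ∀ A, RP p q (R A) (F A)] :
    RP p q (∃ A ∈ l, R A) (.ex l F) := ⟨fun k => by
  induction l with
  | nil => simp [Fm.ex, Fm.sat]
  | cons A l ih => exact (or_congr ((h A).iff k) ih).trans (by simp)⟩
instance RP.all {l : List ℕ} {R : ℕ → Prop} {F : ℕ → Fm} [h : ∀ A, RP p q (R A) (F A)] :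
    RP p q (∀ A ∈ l, R A) (.all l F) := ⟨fun k => by
  induction l with
  | nil => simp [Fm.all, Fm.sat]
  | cons A l ih => exact (and_congr ((h A).iff k) ih).trans (by simp)⟩
instance RP.a1 [h : RT p q x a] : RP p q (x.a1 = 0) (.co a 0) := ⟨fun _ => by rw [← h.eq]; rfl⟩
instance RP.a2 [h : RT p q x a] : RP p q (x.a2 = 0) (.co a 1) := ⟨fun _ => by rw [← h.eq]; rfl⟩
instance RP.u2 [h : RT p q x a] : RP p q (x.u2 = 0) (.co a 2) := ⟨fun _ => by rw [← h.eq]; rfl⟩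
instance RP.a3 [h : RT p q x a] : RP p q (x.a3 = 0) (.co a 3) := ⟨fun _ => by rw [← h.eq]; rfl⟩
instance RP.a4 [h : RT p q x a] : RP p q (x.a4 = 0) (.co a 4) := ⟨fun _ => by rw [← h.eq]; rfl⟩
instance RP.u4 [h : RT p q x a] : RP p q (x.u4 = 0) (.co a 5) := ⟨fun _ => by rw [← h.eq]; rfl⟩
instance RP.a5 [h : RT p q x a] : RP p q (x.a5 = 0) (.co a 6) := ⟨fun _ => by rw [← h.eq]; rfl⟩
instance RP.a6 [h : RT p q x a] : RP p q (x.a6 = 0) (.co a 7) := ⟨fun _ => by rw [← h.eq]; rfl⟩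
instance RP.u6 [h : RT p q x a] : RP p q (x.u6 = 0) (.co a 8) := ⟨fun _ => by rw [← h.eq]; rfl⟩
instance RP.a7 [h : RT p q x a] : RP p q (x.a7 = 0) (.co a 9) := ⟨fun _ => by rw [← h.eq]; rfl⟩
instance RP.a8 [h : RT p q x a] : RP p q (x.a8 = 0) (.co a 10) := ⟨fun _ => by rw [← h.eq]; rfl⟩
instance RP.u8 [h : RT p q x a] : RP p q (x.u8 = 0) (.co a 11) := ⟨fun _ => by rw [← h.eq]; rfl⟩
instance RP.a1' [h : RT p q x a] : RP p q (x.a1 = 1) (.not (.co a 0)) :=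
  ⟨fun k => (not_congr ((RP.a1 (x := x)).iff k)).trans (k.ne_zero _)⟩
instance RP.a2' [h : RT p q x a] : RP p q (x.a2 = 1) (.not (.co a 1)) :=
  ⟨fun k => (not_congr ((RP.a2 (x := x)).iff k)).trans (k.ne_zero _)⟩
instance RP.u2' [h : RT p q x a] : RP p q (x.u2 = 1) (.not (.co a 2)) :=
  ⟨fun k => (not_congr ((RP.u2 (x := x)).iff k)).trans (k.ne_zero _)⟩
instance RP.a3' [h : RT p q x a] : RP p q (x.a3 = 1) (.not (.co a 3)) :=
  ⟨fun k => (not_congr ((RP.a3 (x := x)).iff k)).trans (k.ne_zero _)⟩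
instance RP.a4' [h : RT p q x a] : RP p q (x.a4 = 1) (.not (.co a 4)) :=
  ⟨fun k => (not_congr ((RP.a4 (x := x)).iff k)).trans (k.ne_zero _)⟩
instance RP.u4' [h : RT p q x a] : RP p q (x.u4 = 1) (.not (.co a 5)) :=
  ⟨fun k => (not_congr ((RP.u4 (x := x)).iff k)).trans (k.ne_zero _)⟩
instance RP.a5' [h : RT p q x a] : RP p q (x.a5 = 1) (.not (.co a 6)) :=
  ⟨fun k => (not_congr ((RP.a5 (x := x)).iff k)).trans (k.ne_zero _)⟩
instance RP.a6' [h : RT p q x a] : RP p q (x.a6 = 1) (.not (.co a 7)) :=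
  ⟨fun k => (not_congr ((RP.a6 (x := x)).iff k)).trans (k.ne_zero _)⟩
instance RP.u6' [h : RT p q x a] : RP p q (x.u6 = 1) (.not (.co a 8)) :=
  ⟨fun k => (not_congr ((RP.u6 (x := x)).iff k)).trans (k.ne_zero _)⟩
instance RP.a7' [h : RT p q x a] : RP p q (x.a7 = 1) (.not (.co a 9)) :=
  ⟨fun k => (not_congr ((RP.a7 (x := x)).iff k)).trans (k.ne_zero _)⟩
instance RP.a8' [h : RT p q x a] : RP p q (x.a8 = 1) (.not (.co a 10)) :=
  ⟨fun k => (not_congr ((RP.a8 (x := x)).iff k)).trans (k.ne_zero _)⟩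
instance RP.u8' [h : RT p q x a] : RP p q (x.u8 = 1) (.not (.co a 11)) :=
  ⟨fun k => (not_congr ((RP.u8 (x := x)).iff k)).trans (k.ne_zero _)⟩
instance RP.Qs [h : RP p q (x.a8 = 0 ∧ x.u8 = 0) f] :
    RP p q (x ∈ Qs s) f := h
instance RP.Rs [h : RP p q (x.a1 = 0) f] :
    RP p q (x ∈ Rs s) f := h
instance RP.R3s [h : RP p q (x.a1 = 0 ∧ x.a2 = 0 ∧ x.u2 = 0) f] :
    RP p q (x ∈ R3s s) f := h
instance RP.Ys [h : RP p q (x.a1 = 0 ∧ x.a2 = 0 ∧ x.a6 = 0 ∧ x.a7 = 0 ∧ x.a8 = 0 ∧ x.u8 = 0) f] :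
    RP p q (x ∈ Ys s) f := h
instance RP.Vs [h : RP p q (x.a1 = 0 ∧ x.a2 = 0 ∧ x.a4 = 0 ∧ x.a6 = 0 ∧ x.a7 = 0 ∧ x.a8 = 0 ∧ x.u8 = 0) f] :
    RP p q (x ∈ Vs s) f := h
instance RP.Zs [h : RP p q (x.a1 = 0 ∧ x.a2 = 0 ∧ x.u2 = 0 ∧ x.a3 = 0 ∧ x.a4 = 0 ∧ x.a5 = 0 ∧ x.a6 = 0 ∧ x.a7 = 0 ∧ x.a8 = 0 ∧ x.u8 = 0) f] :
    RP p q (x ∈ Zs s) f := h
instance RP.Xs [h : RP p q (x.a1 = 0 ∧ x.a2 = 0 ∧ x.u2 = 0 ∧ x.a3 = 0 ∧ x.a4 = 0 ∧ x.a5 = 0 ∧ x.a6 = 0 ∧ x.u6 = 0 ∧ x.a7 = 0 ∧ x.a8 = 0 ∧ x.u8 = 0) f] :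
    RP p q (x ∈ Xs s) f := h
instance RP.V6s [h : RP p q (x.a1 = 0 ∧ x.a2 = 0 ∧ x.u2 = 0 ∧ x.a3 = 0 ∧ x.a4 = 0 ∧ x.u4 = 0 ∧ x.a5 = 0 ∧ x.a6 = 0 ∧ x.a7 = 0 ∧ x.a8 = 0 ∧ x.u8 = 0) f] :
    RP p q (x ∈ V6s s) f := h
instance RP.T3s [h : RP p q (x.a2 = 0 ∧ x.a8 = 0) f] :
    RP p q (x ∈ T3s s) f := h
instance RP.T4s [h : RP p q (x.a1 = 0 ∧ x.a2 = 0 ∧ x.u2 = 0 ∧ x.a4 = 0) f] :
    RP p q (x ∈ T4s s) f := h
instance RP.T5s [h : RP p q (x.a1 = 0 ∧ x.a2 = 0 ∧ x.u2 = 0 ∧ x.a3 = 0) f] :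
    RP p q (x ∈ T5s s) f := h
instance RP.U1s [h : RP p q (x.a2 = 0 ∧ x.u2 = 0 ∧ x.a3 = 0 ∧ x.a4 = 0 ∧ x.u4 = 0 ∧ x.a5 = 0 ∧ x.a6 = 0 ∧ x.u6 = 0 ∧ x.a7 = 0 ∧ x.a8 = 0 ∧ x.u8 = 0) f] :
    RP p q (x ∈ U1s s) f := h
instance RP.U2s [h : RP p q (x.a1 = 0 ∧ x.a3 = 0 ∧ x.a4 = 0 ∧ x.u4 = 0 ∧ x.a5 = 0 ∧ x.a6 = 0 ∧ x.u6 = 0 ∧ x.a7 = 0 ∧ x.a8 = 0 ∧ x.u8 = 0) f] :
    RP p q (x ∈ U2s s) f := h
instance RP.U3s [h : RP p q (x.a1 = 0 ∧ x.a2 = 0 ∧ x.u2 = 0 ∧ x.a4 = 0 ∧ x.u4 = 0 ∧ x.a5 = 0 ∧ x.a6 = 0 ∧ x.u6 = 0 ∧ x.a7 = 0 ∧ x.a8 = 0 ∧ x.u8 = 0) f] :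
    RP p q (x ∈ U3s s) f := h
instance RP.U4s [h : RP p q (x.a1 = 0 ∧ x.a2 = 0 ∧ x.u2 = 0 ∧ x.a3 = 0 ∧ x.a5 = 0 ∧ x.a6 = 0 ∧ x.u6 = 0 ∧ x.a7 = 0 ∧ x.a8 = 0 ∧ x.u8 = 0) f] :
    RP p q (x ∈ U4s s) f := h
instance RP.U5s [h : RP p q (x.a1 = 0 ∧ x.a2 = 0 ∧ x.u2 = 0 ∧ x.a3 = 0 ∧ x.a4 = 0 ∧ x.u4 = 0 ∧ x.a6 = 0 ∧ x.u6 = 0 ∧ x.a7 = 0 ∧ x.a8 = 0 ∧ x.u8 = 0) f] :
    RP p q (x ∈ U5s s) f := h
instance RP.U6s [h : RP p q (x.a1 = 0 ∧ x.a2 = 0 ∧ x.u2 = 0 ∧ x.a3 = 0 ∧ x.a4 = 0 ∧ x.u4 = 0 ∧ x.a5 = 0 ∧ x.a7 = 0 ∧ x.a8 = 0 ∧ x.u8 = 0) f] :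
    RP p q (x ∈ U6s s) f := h
instance RP.U7s [h : RP p q (x.a1 = 0 ∧ x.a2 = 0 ∧ x.u2 = 0 ∧ x.a3 = 0 ∧ x.a4 = 0 ∧ x.u4 = 0 ∧ x.a5 = 0 ∧ x.a6 = 0 ∧ x.u6 = 0 ∧ x.a8 = 0 ∧ x.u8 = 0) f] :
    RP p q (x ∈ U7s s) f := h
instance RP.U8s [h : RP p q (x.a1 = 0 ∧ x.a2 = 0 ∧ x.u2 = 0 ∧ x.a3 = 0 ∧ x.a4 = 0 ∧ x.u4 = 0 ∧ x.a5 = 0 ∧ x.a6 = 0 ∧ x.u6 = 0 ∧ x.a7 = 0) f] :
    RP p q (x ∈ U8s s) f := h

end

end Cfsg.Agent.Og
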