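import Mathlib
import Cfsg.Agent.Og.EN
import Cfsg.Agent.Og.B

/-! `q = 2`: the eight twists of the letters. -/

set_option autoImplicit false
set_option linter.unusedSectionVars false
set_option synthInstance.maxSize 100000
set_option synthInstance.maxHeartbeats 1000000

namespace Cfsg.Agent.Og

open Cfsg.Agent.Loc.Mss Subgroup SG
open scoped commutatorElement

variable {K : Type*} [Field K] [CharP K 2] [Finite K] {s : Sg K} {G : Type*} [Group G] [Finite G]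

namespace E1

/-- The images of the letters. -/
def tl (A : ℕ) : List ℕ :=
  [[1, 2, 4, 8, 16, 32, 64, 128, 256, 512, 1024, 2048], [1, 2, 4, 8, 48, 32, 64, 128, 256, 544, 1032, 2144],
   [1, 2, 4, 8, 16, 32, 64, 128, 256, 512, 1056, 2048], [1, 2, 4, 8, 48, 32, 64, 128, 256, 544, 1064, 2144],
   [1, 6, 4, 40, 120, 32, 96, 416, 256, 512, 1920, 2816], [1, 6, 4, 40, 88, 32, 96, 384, 256, 544, 1992, 2624],
   [1, 6, 4, 40, 120, 32, 96, 416, 256, 512, 1952, 2816],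
   [1, 6, 4, 40, 88, 32, 96, 384, 256, 544, 2024, 2624]].getD A []

/-- The correction of `n`. -/
def tr (A : ℕ) : ℕ := [0, 260, 0, 260, 104, 292, 104, 292].getD A 0

/-- The image of `w₂(1,0)` under `m`. -/
def tp (A : ℕ) : ℕ := [1024, 1032, 1056, 1064, 3200, 3208, 3232, 3240].getD A 0

/-- The exponent. -/
def te (A : ℕ) : ℕ := [1, 1, 1, 1, 3, 3, 3, 3].getD A 0

/-- The indices. -/
def ix : List ℕ := [0, 1, 2, 3, 4, 5, 6, 7]

/-- The identity check of the rank one relation. -/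
def R1 (φ : SG s → SG s) (r w w1 w2 : SG s) : Prop :=
  φ w * r * w⁻¹ ∈ Qs s ∧ φ w2 * w2⁻¹ ∈ Qs s ∧ r * nu (φ w * r * w⁻¹) * w1 = φ w1 * r * nu (φ w2 * w2⁻¹)

theorem t_mul (h : Two K) : ∀ p : SG s, ∀ A ∈ ix, ∀ B ∈ tl 0, ph (tl A) (p * cst B) = ph (tl A) p * ph (tl A) (cst B) :=
  dec1 h (by decide +kernel)

theorem t_id (h : Two K) : ∀ p : SG s, ph (tl 0) p = p := dec1 h (by decide +kernel)

theorem t_one (h : Two K) : ∀ p : SG s, ∀ A ∈ ix, (ph (tl A) p = 1 ↔ p = 1) ∧ (p ∈ Zs s → ph (tl A) p = p) ∧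
    (p ∈ Qs s → ph (tl A) p * cst (tr A) ∈ Qs s ∧ cst (tr A) * nu (ph (tl A) p * cst (tr A)) = ph (tl A) (nu p)) :=
  dec1 h (by decide +kernel)

theorem t_cst (h : Two K) : ∀ A ∈ ix, (cst (tr A) : SG s) ∈ Qs s ∧ ph (tl A) (x1 1 : SG s) = x1 1 ∧
    ph (tl A) (w2 1 0 : SG s) = w2 1 0 ^ te A ∧ ph (tl A) (w8 1 0 : SG s) = cst (tp A) ^ te A :=
  dec0 s h (by decide +kernel)

theorem t_r1 (h : Two K) : ∀ A ∈ ix, R1 (ph (tl A)) (cst (tr A) : SG s) (w8 1 0) (w8 1 0) (w8 0 1) ∧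
    R1 (ph (tl A)) (cst (tr A) : SG s) (w8 0 1) (w8 1 1) (w8 1 0) ∧
    R1 (ph (tl A)) (cst (tr A) : SG s) (w8 1 1) (w8 0 1) (w8 1 1) := by
  unfold R1; exact dec0 s h (by decide +kernel)

/-- The twist as a homomorphism. -/
def tw (h : Two K) {A : ℕ} (hA : A ∈ ix) : SG s →* SG s := MonoidHom.mk' (ph (tl A)) fun p q => by
  let M : Submonoid (SG s) :=
    { carrier := {q | ∀ p, ph (tl A) (p * q) = ph (tl A) p * ph (tl A) q}
      mul_mem' := fun {a b} ha hb p => by rw [← mul_assoc, hb, ha, hb, mul_assoc]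
      one_mem' := fun p => by rw [(t_one h 1 A hA).1.2 rfl, mul_one, mul_one] }
  have e : ∀ c, ∀ B ∈ tl 0, sc c B ∈ M := fun c B hB => by
    rcases h c with rfl | rfl
    · rw [sc_zero]; exact one_mem _
    · rw [sc_one]; exact fun p => t_mul h p A hA B hB
  refine (t_id h q ▸ ?_ : q ∈ M) p
  unfold ph
  repeat' first | refine mul_mem ?_ ?_ | exact e _ _ (by decide)

end E1

open E1

/-- The rank one relation over the field with two elements. -/
theorem RC.r1_two {L : Lt s G} (h : RC L) (q2 : ∀ c : Kˣ, c = 1) :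
    L.n * L.u (w8 1 0) * L.n = L.u (w8 1 0) * L.n * L.u (w8 0 1) ∧
    L.n * L.u (w8 0 1) * L.n = L.u (w8 1 1) * L.n * L.u (w8 1 0) ∧
    L.n * L.u (w8 1 1) * L.n = L.u (w8 0 1) * L.n * L.u (w8 1 1) := by
  have e : (1 : K) + 1 = 0 := CharTwo.add_self_eq_zero 1
  refine ⟨?_, ?_, ?_⟩
  · simpa [e] using h.r1 1 0 1 (by simp)
  · simpa [e] using h.r1 0 1 1 (by simp)
  · simpa [e] using h.r1 1 1 1 (by simp [e])

theorem RC.of_two {L : Lt s G} (q2 : ∀ c : Kˣ, c = 1) (nn : L.n * L.n = 1)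
    (hn : ∀ p ∈ Qs s, L.n * L.u p * L.n = L.u (SG.nu p))
    (h1 : L.n * L.u (w8 1 0) * L.n = L.u (w8 1 0) * L.n * L.u (w8 0 1))
    (h2 : L.n * L.u (w8 0 1) * L.n = L.u (w8 1 1) * L.n * L.u (w8 1 0))
    (h3 : L.n * L.u (w8 1 1) * L.n = L.u (w8 0 1) * L.n * L.u (w8 1 1)) : RC L where
  nn := nn
  nu p a b := hn p ⟨a, b⟩
  hu c p := by
    rw [q2 c, map_one, one_mul, inv_one, mul_one]; congr 1; ext <;> simp
  nh c := by rw [q2 c, inv_one, map_one, mul_one, nn]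
  r1 a v N e := by
    have e' : (1 : K) + 1 = 0 := CharTwo.add_self_eq_zero 1
    rw [q2 N] at e ⊢
    rcases Two.of q2 a with rfl | rfl <;> rcases Two.of q2 v with rfl | rfl
    · simp at e
    · simpa [e'] using h2
    · simpa [e'] using h1
    · simpa [e'] using h3

theorem RC.r1_tw {L : Lt s G} (h : RC L) {φ : SG s → SG s} {r w w1 w2 : SG s} (k : R1 φ r w w1 w2)
    (e : L.n * L.u w * L.n = L.u w1 * L.n * L.u w2) :
    L.u r * L.n * L.u (φ w) * (L.u r * L.n) = L.u (φ w1) * (L.u r * L.n) * L.u (φ w2) := by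
  obtain ⟨k1, k2, k3⟩ := k
  have e1 := h.nu' k1
  have e2 := h.nu' k2
  have e3 := congrArg L.u k3
  simp only [map_mul, map_inv] at e1 e2 e3
  calc _ = L.u r * (L.n * (L.u (φ w) * L.u r * (L.u w)⁻¹)) * L.n * (L.n * L.u w * L.n) := by
        simp only [mul_assoc, ← mul_assoc L.n L.n, h.nn, one_mul, inv_mul_cancel_left]
    _ = L.u r * L.u (SG.nu (φ w * r * w⁻¹)) * L.u w1 * L.n * L.u w2 := by
        rw [e1, e]; simp only [mul_assoc, ← mul_assoc L.n L.n, h.nn, one_mul]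
    _ = L.u (φ w1) * L.u r * (L.n * (L.u (φ w2) * (L.u w2)⁻¹)) * L.u w2 := by rw [e3, e2]; simp only [mul_assoc]
    _ = _ := by simp only [mul_assoc, inv_mul_cancel, mul_one]

/-- Twisted letters satisfy the hypothesis. -/
theorem St2.twist {L : Lt s G} (h : St2 L) (q2 : ∀ c : Kˣ, c = 1) {A : ℕ} (hA : A ∈ ix) (η : Kˣ →* G) :
    St2 ⟨L.u.comp (tw (Two.of q2) hA), η, L.u (cst (tr A)) * L.n⟩ := by
  have k := Two.of q2
  obtain ⟨c1, -⟩ := t_cst (s := s) k A hA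
  obtain ⟨r1, r2, r3⟩ := t_r1 (s := s) k A hA
  obtain ⟨e1, e2, e3⟩ := h.r1_two q2
  have hn : ∀ p ∈ Qs s, L.u (cst (tr A)) * L.n * L.u (ph (tl A) p) * (L.u (cst (tr A)) * L.n) =
      L.u (ph (tl A) (SG.nu p)) := fun p hp => by
    obtain ⟨a, b⟩ := (t_one k p A hA).2.2 hp
    rw [← b, map_mul, ← h.nu _ a.1 a.2, map_mul]; simp only [mul_assoc]
  have inj : Function.Injective (tw (s := s) k hA) :=
    (injective_iff_map_eq_one _).2 fun p => (t_one k p A hA).1.1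
  have hS : (L.u.comp (tw k hA)).range = L.S := by
    rw [MonoidHom.range_comp, MonoidHom.range_eq_top.2 (Finite.surjective_of_injective inj)]; exact L.im_top
  have nn : L.u (cst (tr A)) * L.n * (L.u (cst (tr A)) * L.n) = 1 := by
    have := hn 1 (one_mem _)
    rwa [show SG.nu (1 : SG s) = 1 by ext <;> simp, (t_one k 1 A hA).1.2 rfl, map_one, mul_one] at this
  refine h.of_eq ⟨RC.of_two q2 nn hn (h.r1_tw r1 e1) (h.r1_tw r2 e2) (h.r1_tw r3 e3), h.inj.comp inj⟩ hS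
    (le_antisymm (Lt.C_le _ (fun p => L.u_mem_C _) (fun c => by rw [q2 c, map_one]; exact one_mem _)
      (mul_mem (L.u_mem_C _) L.n_mem_C)) ?_) (congrArg L.u ((t_one k _ A hA).2.1 (by simp)))
  have hu : ∀ p, L.u p ∈ Lt.C ⟨L.u.comp (tw k hA), η, L.u (cst (tr A)) * L.n⟩ := fun p =>
    Lt.S_le_C _ (hS.ge (L.u_mem_S p))
  exact L.C_le hu (fun c => by rw [q2 c, map_one]; exact one_mem _)
    ((mul_mem_cancel_left (hu (cst (tr A)))).1 (Lt.n_mem_C _))

end Cfsg.Agent.Og
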