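import Mathlib
import Cfsg.Agent.Og.Base
import Cfsg.Agent.Chev.F4TwSz
import Cfsg.Agent.Chev.Coll

/-! The coordinate group maps to the Chevalley group of type `F₄`. -/

set_option autoImplicit false
set_option linter.unusedSectionVars false

namespace Cfsg.Agent.Og.Md

open Cfsg.Agent.Chev Cfsg.Agent.Chev.F4T Cfsg.Agent.Chev.Coll Cfsg.Lie Cfsg.Lie.ChevalleyDatum SG

section Gen

variable {H X : Type*} [Group H] (E : ℕ → X → H)

/-- The ordered product of letters of the classes `k, …, k + n - 1`. -/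
def wt (k n : ℕ) (c : ℕ → X) : H := ((List.range' k n).map fun i => E i (c i)).prod

/-- The ordered products. -/
def Pr : ℕ → ℕ → H → Prop
  | _, 0, z => z = 1
  | k, n + 1, z => ∃ x z', Pr (k + 1) n z' ∧ z = E k x * z'

theorem pr_wt (n : ℕ) : ∀ k c, Pr E k n (wt E k n c) := by
  induction n with
  | zero => intro k c; rfl
  | succ n ih => intro k c; exact ⟨c k, _, ih (k + 1) c, by simp [wt, List.range'_succ]⟩

theorem pr_mul {N : ℕ} {o : X} (ho : ∀ i, E i o = 1) (hadd : ∀ i < N, ∀ x y, ∃ z, E i x * E i y = E i z)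
    (hcm : ∀ j < N, ∀ k < j, ∀ x y, ∃ c, E j x * E k y = E k y * wt E (k + 1) (N - (k + 1)) c) (n : ℕ) :
    ∀ k, k + n = N → ∀ z z', Pr E k n z → Pr E k n z' → Pr E k n (z * z') := by
  induction n with
  | zero => intro k _ z z' h h'; rw [show z = 1 from h, one_mul]; exact h'
  | succ n ih =>
    rintro k hk _ _ ⟨x, z, hz, rfl⟩ ⟨y, z', hz', rfl⟩
    have ih' := ih (k + 1) (by omega)
    have key : ∀ m i, k < i → i + m = N → ∀ w, Pr E i m w → ∃ w', Pr E (k + 1) n w' ∧ w * E k y = E k y * w' := by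
      intro m
      induction m with
      | zero =>
        intro i _ _ w hw
        refine ⟨_, pr_wt E n _ fun _ => o, ?_⟩
        rw [show w = 1 from hw]
        simp [wt, ho]
      | succ m ihm =>
        rintro i hi him _ ⟨a, w, hw, rfl⟩
        obtain ⟨w', h1, h2⟩ := ihm (i + 1) (by omega) (by omega) w hw
        obtain ⟨c, h3⟩ := hcm i (by omega) k hi a y
        rw [show N - (k + 1) = n by omega] at h3
        exact ⟨_, ih' _ _ (pr_wt E n _ c) h1, by rw [mul_assoc, h2, ← mul_assoc, h3, mul_assoc]⟩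
    obtain ⟨w, h1, h2⟩ := key n (k + 1) (by omega) (by omega) z hz
    obtain ⟨u, h3⟩ := hadd k (by omega) x y
    exact ⟨u, _, ih' _ _ h1 hz', by rw [← h3, mul_assoc, ← mul_assoc z, h2]; simp only [mul_assoc]⟩

end Gen

/-- `σ` on exponent vectors. -/
def sgE : List ℕ → List ℕ
  | a :: b :: l => 2 * b :: a :: sgE l
  | [a] => [0, a]
  | [] => []

/-- The roots of the eight classes. -/
def ro (j i : ℕ) : ℕ := ([[33, 24], [34, 26, 36, 42], [38, 43], [29, 41, 44, 47], [39, 45], [35, 31, 40, 46],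
  [37, 32], [27, 25, 28, 30]].getD j []).getD i 0

/-- The word of a polynomial in a root group. -/
def wX (r : ℕ) (P : List (List ℕ)) : List Let := P.map fun e => (r, 1, e)

/-- The word of a letter with polynomial parameters. -/
def wL (j : ℕ) (A B : List (List ℕ)) : List Let :=
  if j % 2 = 0 then wX (ro j 0) A ++ wX (ro j 1) (A.map sgE) else
    wX (ro j 0) A ++ wX (ro j 1) (A.map sgE) ++
      wX (ro j 2) ((A.flatMap fun x => A.map fun y => addE x (sgE y)) ++ B) ++ wX (ro j 3) (B.map sgE)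

/-- The commutation table; the variables are `a, σa, u, σu, b, σb, v, σv`. -/
def tab : ℕ → ℕ → List (ℕ × List ℕ)
  | 3, 0 => [(3, [1, 0, 0, 0, 1, 0, 0, 0])]
  | 3, 1 => [(4, [1, 0, 0, 0, 1, 0, 0, 0])]
  | 4, 1 => [(7, [1, 0, 0, 0, 1, 0, 0, 0])]
  | 5, 0 => [(3, [1, 0, 0, 0, 0, 1, 0, 0]), (4, [0, 1, 0, 0, 1, 0, 0, 0]), (7, [0, 0, 1, 0, 1, 0, 0, 0])]
  | 5, 2 => [(7, [1, 0, 0, 0, 1, 0, 0, 0])]
  | 5, 3 => [(8, [1, 0, 0, 0, 1, 0, 0, 0])]
  | 6, 0 => [(4, [1, 0, 0, 0, 0, 1, 0, 0]), (8, [0, 1, 0, 0, 1, 0, 0, 0])]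
  | 6, 1 => [(7, [1, 0, 0, 0, 1, 1, 0, 0]), (7, [1, 0, 0, 0, 0, 0, 1, 0]), (8, [1, 0, 0, 0, 0, 1, 0, 0]),
      (11, [0, 1, 0, 0, 1, 0, 0, 0])]
  | 6, 3 => [(11, [1, 0, 0, 0, 1, 0, 0, 0])]
  | 7, 0 => [(2, [1, 0, 0, 0, 1, 0, 0, 0]), (3, [0, 0, 1, 0, 1, 1, 0, 0]), (4, [2, 1, 0, 0, 1, 1, 0, 0]),
      (4, [1, 0, 1, 0, 1, 1, 0, 0]), (4, [0, 0, 0, 1, 1, 1, 0, 0]), (6, [0, 0, 1, 0, 0, 1, 0, 0]),
      (7, [3, 2, 0, 0, 2, 1, 0, 0]), (7, [1, 1, 0, 1, 2, 1, 0, 0]), (7, [1, 0, 2, 0, 2, 1, 0, 0]),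
      (7, [0, 0, 1, 1, 2, 1, 0, 0]), (8, [2, 2, 0, 0, 1, 1, 0, 0]), (8, [0, 1, 0, 1, 1, 1, 0, 0]),
      (8, [0, 0, 2, 0, 1, 1, 0, 0]), (10, [1, 1, 0, 0, 1, 0, 0, 0]), (10, [0, 0, 1, 0, 1, 0, 0, 0]),
      (11, [3, 2, 0, 0, 1, 1, 0, 0]), (11, [1, 1, 0, 1, 1, 1, 0, 0]), (11, [1, 0, 2, 0, 1, 1, 0, 0]),
      (12, [2, 1, 0, 0, 1, 0, 0, 0]), (12, [1, 0, 1, 0, 1, 0, 0, 0]), (12, [0, 0, 0, 1, 1, 0, 0, 0])]
  | 7, 1 => [(4, [1, 0, 0, 0, 1, 1, 0, 0]), (4, [1, 0, 0, 0, 0, 0, 1, 0]), (6, [1, 0, 0, 0, 0, 1, 0, 0]),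
      (7, [1, 1, 0, 0, 2, 1, 0, 0]), (7, [1, 1, 0, 0, 1, 0, 1, 0]), (7, [0, 0, 1, 0, 2, 1, 0, 0]),
      (7, [0, 0, 1, 0, 1, 0, 1, 0]), (7, [0, 0, 1, 0, 0, 0, 0, 1]), (8, [1, 1, 0, 0, 0, 0, 1, 0]),
      (8, [0, 0, 1, 0, 0, 0, 1, 0]), (10, [0, 1, 0, 0, 1, 0, 0, 0]), (11, [2, 1, 0, 0, 0, 0, 1, 0]),
      (11, [1, 0, 1, 0, 0, 0, 1, 0]), (11, [0, 0, 0, 1, 1, 1, 0, 0]), (11, [0, 0, 0, 1, 0, 0, 1, 0]),
      (12, [0, 0, 1, 0, 1, 0, 0, 0])]
  | 7, 2 => [(7, [1, 0, 0, 0, 0, 1, 0, 0]), (8, [0, 1, 0, 0, 1, 0, 0, 0]), (11, [0, 0, 1, 0, 1, 0, 0, 0])]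
  | 7, 4 => [(11, [1, 0, 0, 0, 1, 0, 0, 0])]
  | 7, 5 => [(12, [1, 0, 0, 0, 1, 0, 0, 0])]
  | _, _ => []

/-- The monomials in a slot. -/
def sel (L : List (ℕ × List ℕ)) (n : ℕ) : List (List ℕ) := (L.filter (·.1 = n)).map (·.2)

def ea : List ℕ := [1, 0, 0, 0, 0, 0, 0, 0]
def eu : List ℕ := [0, 0, 1, 0, 0, 0, 0, 0]
def eb : List ℕ := [0, 0, 0, 0, 1, 0, 0, 0]
def ew : List ℕ := [0, 0, 0, 0, 0, 0, 1, 0]

def tb (j k : ℕ) : List (ℕ × List ℕ) := (2 * j, ea) :: (2 * j + 1, eu) :: tab j k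

theorem chk_add : ∀ j < 8, chk 2 chevF4.collT 100 (wL j [ea] [eu] ++ wL j [eb] [ew])
    (wL j [ea, eb] [eu, ew, [1, 0, 0, 0, 0, 1, 0, 0]]) = true := by decide +kernel

theorem chk_cm : ∀ j < 8, ∀ k < j, chk 2 chevF4.collT 1000 (wL j [ea] [eu] ++ wL k [eb] [ew])
    (wL k [eb] [ew] ++ (List.range' (k + 1) (8 - (k + 1))).flatMap fun i =>
      wL i (sel (tb j k) (2 * i)) (sel (tb j k) (2 * i + 1))) = true := by decide +kernel

variable {K : Type*} [Field K] [CharP K 2] (s : Sg K)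

/-- The value of a polynomial. -/
def evP (v : ℕ → K) (P : List (List ℕ)) : K := (P.map (evE v)).sum

theorem evP_append (v : ℕ → K) (P Q : List (List ℕ)) : evP v (P ++ Q) = evP v P + evP v Q := by simp [evP]

theorem evE_sgE (e : List ℕ) : ∀ v : ℕ → K, (∀ i, v (2 * i + 1) = s.σ (v (2 * i))) →
    evE v (sgE e) = s.σ (evE v e) := by
  induction e using sgE.induct with
  | case1 a b l ih =>
    intro v hv
    have h0 : v 1 = s.σ (v 0) := hv 0
    simp only [sgE, evE, map_mul, map_pow, zero_add, h0, s.sq]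
    rw [ih (fun k => v (k + 1 + 1)) fun i => hv (i + 1), pow_mul]
    ring
  | case2 a => intro v hv; have h0 : v 1 = s.σ (v 0) := hv 0; simp [sgE, evE, h0]
  | case3 => intro v _; simp [sgE, evE]

variable {s} {v : ℕ → K}

theorem evP_sg (hv : ∀ i, v (2 * i + 1) = s.σ (v (2 * i))) (P : List (List ℕ)) :
    evP v (P.map sgE) = s.σ (evP v P) := by
  simp [evP, map_list_sum, Function.comp_def, evE_sgE s _ v hv]

theorem evP_mul (hv : ∀ i, v (2 * i + 1) = s.σ (v (2 * i))) (P Q : List (List ℕ)) :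
    evP v (P.flatMap fun x => Q.map fun y => addE x (sgE y)) = evP v P * s.σ (evP v Q) := by
  induction P with
  | nil => simp [evP]
  | cons x P ih =>
    rw [List.flatMap_cons, evP_append, ih, ← evP_sg hv]
    simp [evP, Function.comp_def, evE_addE, add_mul, List.sum_map_mul_left]

theorem evW_wX (r : ℕ) (P : List (List ℕ)) : evW (𝐱 : ℕ → K → Γ K) v (wX r P) = 𝐱 r (evP v P) := by
  induction P with
  | nil => simp [wX, evP, evW]
  | cons x P ih =>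
    rw [wX, List.map_cons, evW_cons, ← wX, ih, evP, evP, List.map_cons, List.sum_cons, X_add]
    simp [ev]

variable (s) in
/-- The letters in the Chevalley group. -/
def ll (j : ℕ) (x : K × K) : Γ K :=
  if j % 2 = 0 then 𝐱 (ro j 0) x.1 * 𝐱 (ro j 1) (s.σ x.1) else
    𝐱 (ro j 0) x.1 * 𝐱 (ro j 1) (s.σ x.1) * 𝐱 (ro j 2) (x.1 * s.σ x.1 + x.2) * 𝐱 (ro j 3) (s.σ x.2)

theorem evW_wL (hv : ∀ i, v (2 * i + 1) = s.σ (v (2 * i))) (j : ℕ) (A B : List (List ℕ)) :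
    evW (𝐱 : ℕ → K → Γ K) v (wL j A B) = ll s j (evP v A, evP v B) := by
  unfold wL ll
  split_ifs <;> simp only [evW_append, evW_wX, evP_sg hv, evP_append, evP_mul hv]

theorem ll_zero (j : ℕ) : ll s j (0, 0) = 1 := by simp [ll]

variable (s) in
/-- The letters in the coordinate group. -/
def el : ℕ → K × K → SG s
  | 0, x => x1 x.1
  | 1, x => w2 x.1 x.2
  | 2, x => x3 x.1
  | 3, x => w4 x.1 x.2
  | 4, x => x5 x.1
  | 5, x => w6 x.1 x.2
  | 6, x => x7 x.1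
  | _, x => w8 x.1 x.2

theorem el_zero (j : ℕ) : el s j (0, 0) = 1 := by unfold el; split <;> rfl

variable (s) in
/-- The element with given coordinates. -/
@[simps] def ofC (c : ℕ → K × K) : SG s := ⟨(c 0).1, (c 1).1, (c 1).2, (c 2).1, (c 3).1, (c 3).2, (c 4).1,
  (c 5).1, (c 5).2, (c 6).1, (c 7).1, (c 7).2⟩

/-- The coordinates of an element. -/
def toC (p : SG s) (i : ℕ) : K × K := [(p.a1, 0), (p.a2, p.u2), (p.a3, 0), (p.a4, p.u4), (p.a5, 0),
  (p.a6, p.u6), (p.a7, 0), (p.a8, p.u8)].getD i (0, 0)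

theorem ofC_toC (p : SG s) : ofC s (toC p) = p := rfl

theorem wt_el_zero (c : ℕ → K × K) : wt (el s) 0 8 c = ofC s c := by
  refine Eq.trans ?_ (SG.nf _).symm
  simp [wt, List.range', el, mul_assoc]

theorem wt_if {H : Type*} [Group H] {E : ℕ → K × K → H} (ho : ∀ i, E i (0, 0) = 1) (c : ℕ → K × K) {k : ℕ}
    (hk : k ≤ 8) : wt E k (8 - k) c = wt E 0 8 fun i => if i < k then (0, 0) else c i := by
  interval_cases k <;> simp [wt, List.range', ho]

variable (s) in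
/-- The values of the variables. -/
def vl (x y : K × K) (n : ℕ) : K :=
  if n % 2 = 0 then [x.1, x.2, y.1, y.2].getD (n / 2) 0 else s.σ ([x.1, x.2, y.1, y.2].getD (n / 2) 0)

theorem vl_sg (x y : K × K) (i : ℕ) : vl s x y (2 * i + 1) = s.σ (vl s x y (2 * i)) := by
  simp [vl, Nat.add_mod, show (2 * i + 1) / 2 = i by omega]

theorem evE_vl (x y : K × K) (a b c d e f g h : ℕ) : evE (vl s x y) [a, b, c, d, e, f, g, h] =
    x.1 ^ a * s.σ x.1 ^ b * x.2 ^ c * s.σ x.2 ^ d * y.1 ^ e * s.σ y.1 ^ f * y.2 ^ g * s.σ y.2 ^ h := by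
  simp [evE, vl, mul_assoc]

theorem evP_ea (x y : K × K) : evP (vl s x y) [ea] = x.1 ∧ evP (vl s x y) [eu] = x.2 ∧
    evP (vl s x y) [eb] = y.1 ∧ evP (vl s x y) [ew] = y.2 := by simp [evP, ea, eu, eb, ew, evE_vl]

theorem rel_X : Rel 2 chevF4.collT (𝐱 : ℕ → K → Γ K) :=
  rel_collT (CharP.cast_eq_zero K 2) (fun r => chevF4.X_add K r) (chevF4.isModel_X K).toIsAB

theorem ll_add {j : ℕ} (hj : j < 8) (x y : K × K) :
    ll s j x * ll s j y = ll s j (x.1 + y.1, x.2 + y.2 + x.1 * s.σ y.1) := by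
  have := rel_X.eq_of_chk (chk_add j hj) (vl s x y)
  simp only [evW_append, evW_wL (vl_sg x y), evP_ea] at this
  rw [this]
  simp [evP, ea, eu, eb, ew, evE_vl, add_assoc]

theorem el_add {j : ℕ} (hj : j < 8) (x y : K × K) :
    el s j x * el s j y = el s j (x.1 + y.1, x.2 + y.2 + x.1 * s.σ y.1) := by
  interval_cases j <;> ext <;> simp [el]

variable (s) in
/-- The parameters given by the table. -/
def tc (j k : ℕ) (x y : K × K) (i : ℕ) : K × K :=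
  (evP (vl s x y) (sel (tb j k) (2 * i)), evP (vl s x y) (sel (tb j k) (2 * i + 1)))

theorem ll_cm {j k : ℕ} (hj : j < 8) (hk : k < j) (x y : K × K) :
    ll s j x * ll s k y = ll s k y * wt (ll s) (k + 1) (8 - (k + 1)) (tc s j k x y) := by
  have := rel_X.eq_of_chk (chk_cm j hj k hk) (vl s x y)
  simp only [evW_append, evW_flatMap, evW_wL (vl_sg x y), evP_ea] at this
  exact this

theorem evP_sel (L : List (ℕ × List ℕ)) (n : ℕ) :
    evP v (sel L n) = (L.map fun x => if x.1 = n then evE v x.2 else 0).sum := by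
  induction L with
  | nil => rfl
  | cons x L ih =>
    rw [List.map_cons, List.sum_cons, ← ih]
    by_cases h : x.1 = n <;> simp [sel, evP, h]

set_option maxHeartbeats 4000000 in
theorem el_cm {j k : ℕ} (hj : j < 8) (hk : k < j) (x y : K × K) :
    el s j x * el s k y = el s k y * wt (el s) (k + 1) (8 - (k + 1)) (tc s j k x y) := by
  rw [wt_if el_zero _ (by omega), wt_el_zero]
  interval_cases j <;> interval_cases k <;> simp [ofC, tc, evP_sel, tb, tab, ea, eu, evE_vl] <;> ext <;>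
    simp [el] <;> grind

variable (s) in
/-- The map to the Chevalley group. -/
def uf (p : SG s) : Γ K := wt (ll s) 0 8 (toC p)

theorem uf_ofC (c : ℕ → K × K) : uf s (ofC s c) = wt (ll s) 0 8 c := by
  simp [uf, wt, List.range', toC, ll]

theorem wt_pair (k n : ℕ) (c : ℕ → K × K) :
    wt (fun i x => (el s i x, ll s i x)) k n c = (wt (el s) k n c, wt (ll s) k n c) := by
  induction n generalizing k with
  | zero => rfl
  | succ n ih => simp only [wt, List.range'_succ, List.map_cons, List.prod_cons] at ih ⊢; rw [ih]; rfl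

theorem uf_mul (p q : SG s) : uf s (p * q) = uf s p * uf s q := by
  have h : ∀ p : SG s, Pr (fun i x => (el s i x, ll s i x)) 0 8 (p, uf s p) := fun p => by
    have := pr_wt (fun i x => (el s i x, ll s i x)) 8 0 (toC p)
    rwa [wt_pair, wt_el_zero, ofC_toC] at this
  obtain ⟨c0, _, ⟨c1, _, ⟨c2, _, ⟨c3, _, ⟨c4, _, ⟨c5, _, ⟨c6, _, ⟨c7, _, rfl, rfl⟩, rfl⟩, rfl⟩, rfl⟩, rfl⟩, rfl⟩,
      rfl⟩, e⟩ :=
    pr_mul (fun i x => (el s i x, ll s i x)) (N := 8) (o := (0, 0))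
      (fun i => Prod.ext (el_zero i) (ll_zero i))
      (fun i hi x y => ⟨_, Prod.ext (el_add hi x y) (ll_add hi x y)⟩)
      (fun j hj k hk x y => ⟨tc s j k x y, by
        rw [wt_pair]; exact Prod.ext (el_cm hj hk x y) (ll_cm hj hk x y)⟩) 8 0 rfl _ _ (h p) (h q)
  have e' : (p * q, uf s p * uf s q) = wt (fun i x => (el s i x, ll s i x)) 0 8
      fun i => [c0, c1, c2, c3, c4, c5, c6, c7].getD i (0, 0) := e.trans (by simp [wt, List.range'])
  rw [wt_pair, wt_el_zero, ← uf_ofC] at e'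
  obtain ⟨e1, e2⟩ := Prod.mk.inj e'
  rw [e1, e2]

variable (s) in
/-- The homomorphism to the Chevalley group. -/
def uh : SG s →* Γ K := MonoidHom.mk' (uf s) uf_mul

theorem uh_el {j : ℕ} (hj : j < 8) (x : K × K) : uh s (el s j x) = ll s j x := by
  interval_cases j <;> simp [uh, uf, wt, List.range', toC, el, ll]

end Cfsg.Agent.Og.Md
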