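import Mathlib
import Cfsg.Agent.Og.ModelA

/-! The relations of the large Ree group in the Chevalley group of type `F₄`. -/

set_option autoImplicit false
set_option linter.unusedSectionVars false

namespace Cfsg.Agent.Og.Md

open Cfsg.Agent.Chev Cfsg.Agent.Chev.F4T Cfsg.Lie Cfsg.Lie.ChevalleyDatum SG

variable {K : Type*} [Field K] [CharP K 2] {s : Sg K}

theorem ind_nf {P : SG s → Prop} (hm : ∀ p q, P p → P q → P (p * q)) (p : SG s)
    (h : ∀ j < 8, P (el s j (toC p j))) : P p := by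
  rw [SG.nf p]
  exact hm _ _ (hm _ _ (hm _ _ (hm _ _ (hm _ _ (hm _ _ (hm _ _ (h 0 (by decide)) (h 1 (by decide)))
    (h 2 (by decide))) (h 3 (by decide))) (h 4 (by decide))) (h 5 (by decide))) (h 6 (by decide)))
    (h 7 (by decide))

theorem nu_el {j : ℕ} (hj : j < 7) (x : K × K) : el s j x ∈ Qs s ∧ nu (el s j x) = el s (6 - j) x := by
  interval_cases j <;> refine ⟨by simp [el], ?_⟩ <;> ext <;> simp [el]

theorem mu_el {j : ℕ} (h0 : 0 < j) (hj : j < 8) (x : K × K) :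
    el s j x ∈ Rs s ∧ mu (el s j x) = el s (8 - j) x := by
  interval_cases j <;> refine ⟨by simp [el], ?_⟩ <;> ext <;> simp [el]

theorem ind_gen {P : SG s → Prop} (hm : ∀ p q, P p → P q → P (p * q)) (hn : ∀ p ∈ Qs s, P p → P (nu p))
    (hu : ∀ p ∈ Rs s, P p → P (mu p)) (h0 : ∀ a, P (x1 a)) (h7 : ∀ a u, P (w8 a u)) (p : SG s) : P p := by
  have a : ∀ j < 7, (∀ x, P (el s j x)) → ∀ x, P (el s (6 - j) x) := fun j hj h x =>
    (nu_el hj x).2 ▸ hn _ (nu_el hj x).1 (h x)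
  have b : ∀ j < 8, 0 < j → (∀ x, P (el s j x)) → ∀ x, P (el s (8 - j) x) := fun j hj hj' h x =>
    (mu_el hj' hj x).2 ▸ hu _ (mu_el hj' hj x).1 (h x)
  have k0 : ∀ x, P (el s 0 x) := fun x => h0 _
  have k7 : ∀ x, P (el s 7 x) := fun x => h7 _ _
  have k6 := a 0 (by decide) k0
  have k1 := b 7 (by decide) (by decide) k7
  have k2 := b 6 (by decide) (by decide) k6
  have k5 := a 1 (by decide) k1
  have k4 := a 2 (by decide) k2
  have k3 := b 5 (by decide) (by decide) k5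
  refine ind_nf hm p fun j hj => ?_
  interval_cases j
  exacts [k0 _, k1 _, k2 _, k3 _, k4 _, k5 _, k6 _, k7 _]

theorem conj_ll {l : List chevF4.Nd} {j j' : ℕ} (h : j % 2 = j' % 2 ∧ ∀ i < 4, j % 2 = 0 ∧ 2 ≤ i ∨
    ro j i < chevF4.nroots ∧ chevF4.actN l (ro j i) = ro j' i) (x : K × K) :
    chevF4.nWordS K l * ll s j x * (chevF4.nWordS K l)⁻¹ = ll s j' x := by
  have e : ∀ h x y : Γ K, h * (x * y) * h⁻¹ = (h * x * h⁻¹) * (h * y * h⁻¹) := fun _ _ _ => by group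
  have k : ∀ i < 4, ¬ (j % 2 = 0 ∧ 2 ≤ i) → ∀ t : K,
      chevF4.nWordS K l * 𝐱 (ro j i) t * (chevF4.nWordS K l)⁻¹ = 𝐱 (ro j' i) t := fun i hi h' t => by
    obtain ⟨h1, h2⟩ := (h.2 i hi).resolve_left h'
    rw [nWordS_conj_X2' _ h1, h2]
  rw [ll, ll, ← h.1]
  split_ifs with h0
  · rw [e, k 0 (by omega) (by omega), k 1 (by omega) (by omega)]
  · rw [e, e, e, k 0 (by omega) (by omega), k 1 (by omega) (by omega), k 2 (by omega) (by omega),
      k 3 (by omega) (by omega)]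

theorem n_uh {p : SG s} (hp : p ∈ Qs s) : tt K 1 * uh s p * (tt K 1)⁻¹ = uh s (nu p) := by
  refine (ind_nf (P := fun p => p ∈ Qs s ∧ tt K 1 * uh s p * (tt K 1)⁻¹ = uh s (nu p)) ?_ p fun j hj => ?_).2
  · rintro p q ⟨h1, h2⟩ ⟨h3, h4⟩
    exact ⟨mul_mem h1 h3, by rw [nu_mul h1 h3, map_mul, map_mul, ← h2, ← h4]; group⟩
  · by_cases h : j < 7
    · refine ⟨(nu_el h _).1, ?_⟩
      rw [(nu_el h _).2, uh_el hj, uh_el (by omega)]
      exact conj_ll (by clear hj; revert j; decide +kernel) _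
    · obtain rfl : j = 7 := by omega
      have : el s 7 (toC p 7) = 1 := by ext <;> simp [el, toC, hp.1, hp.2]
      rw [this, show nu (1 : SG s) = 1 by ext <;> simp]
      simp

theorem m_uh {p : SG s} (hp : p ∈ Rs s) : tt K 0 * uh s p * (tt K 0)⁻¹ = uh s (mu p) := by
  refine (ind_nf (P := fun p => p ∈ Rs s ∧ tt K 0 * uh s p * (tt K 0)⁻¹ = uh s (mu p)) ?_ p fun j hj => ?_).2
  · rintro p q ⟨h1, h2⟩ ⟨h3, h4⟩
    exact ⟨mul_mem h1 h3, by rw [mu_mul h1 h3, map_mul, map_mul, ← h2, ← h4]; group⟩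
  · by_cases h : 0 < j
    · refine ⟨(mu_el h hj _).1, ?_⟩
      rw [(mu_el h hj _).2, uh_el hj, uh_el (by omega)]
      exact conj_ll (by revert h; revert j; decide +kernel) _
    · obtain rfl : j = 0 := by omega
      have : el s 0 (toC p 0) = 1 := by ext <;> simp [el, toC, show p.a1 = 0 from hp]
      rw [this, show mu (1 : SG s) = 1 by ext <;> simp]
      simp

theorem uh_mem_U (p : SG s) : uh s p ∈ (R K).U := by
  refine ind_nf (P := fun p => uh s p ∈ (R K).U) (fun p q h h' => by rw [map_mul]; exact mul_mem h h') p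
    fun j hj => ?_
  have k : ∀ i < 4, ¬ (j % 2 = 0 ∧ 2 ≤ i) → ∀ t : K, 𝐱 (ro j i) t ∈ (R K).U := fun i hi h' t => by
    have : 24 ≤ ro j i ∧ ro j i < 48 := by revert h'; revert i; revert j; decide
    exact X_mem_U (r := ⟨_, this.2⟩) ((pos_iff _).2 this.1) t
  rw [uh_el hj, ll]
  split_ifs with h0
  · exact mul_mem (k 0 (by omega) (by omega) _) (k 1 (by omega) (by omega) _)
  · exact mul_mem (mul_mem (mul_mem (k 0 (by omega) (by omega) _) (k 1 (by omega) (by omega) _))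
      (k 2 (by omega) (by omega) _)) (k 3 (by omega) (by omega) _)

theorem X_mem_V {r : ℕ} (hr : r < 24) (t : K) : 𝐱 r t ∈ (R K).V :=
  RootBN.X_le_V (R := R K) (r := ⟨r, hr.trans (by decide)⟩) (fun h => absurd ((pos_iff _).1 h) (not_le.2 hr))
    (chevF4.X_mem_rootSubgroup K r t)

variable (T : Tw K)

/-- The square root of the Frobenius map. -/
def sgT : Sg K where
  σ := (frobenius K 2).comp T.θ
  sq x := by simp [frobenius_def, T.hθ]

theorem sgT_σ (x : K) : (sgT T).σ x = T.θ x ^ 2 := rfl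

theorem θ_σ (x : K) : T.θ ((sgT T).σ x) = x := T.θ_sq x

theorem σ_θ (x : K) : (sgT T).σ (T.θ x) = x := T.hθ x

theorem θu_sq (c : Kˣ) : T.θu c ^ 2 = (sgT T).σu c := Units.ext rfl

theorem uh_x1 (a : K) : uh (sgT T) (x1 a) = T.y0 ((sgT T).σ a) := by
  refine (uh_el (j := 0) (by decide) (a, 0)).trans ?_
  rw [Tw.y0, θ_σ]; rfl

theorem uh_w8 (a u : K) : uh (sgT T) (w8 a u) = T.y1 ((sgT T).σ a) u := by
  refine (uh_el (j := 7) (by decide) (a, u)).trans ?_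
  rw [Tw.y1, θ_σ]; rfl

theorem uh_mem (p : SG (sgT T)) : uh (sgT T) p ∈ T.Fix := by
  refine ind_gen (P := fun p => uh (sgT T) p ∈ T.Fix) (fun p q h h' => by rw [map_mul]; exact mul_mem h h')
    (fun p hp h => ?_) (fun p hp h => ?_) (fun a => uh_x1 T a ▸ T.y0_mem _) (fun a u => uh_w8 T a u ▸ T.y1_mem _ _) p
  · rw [← n_uh hp]; exact mul_mem (mul_mem (T.tt_mem 1) h) (inv_mem (T.tt_mem 1))
  · rw [← m_uh hp]; exact mul_mem (mul_mem (T.tt_mem 0) h) (inv_mem (T.tt_mem 0))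

theorem uh_inj : Function.Injective (uh (sgT T)) := by
  have h1 : ∀ p, uh (sgT T) p = 1 → p.a1 = 0 := fun p h => by
    obtain ⟨r, hr, e⟩ := exists_mul_R p
    rw [e, map_mul, mul_eq_one_iff_eq_inv, uh_x1] at h
    have : tt K 0 * T.y0 ((sgT T).σ p.a1) * (tt K 0)⁻¹ = 1 := RootBN.eq_one_of_mem_U_V (R := R K)
      (by rw [h, ← map_inv, m_uh (inv_mem hr)]; exact uh_mem_U _)
      (by rw [T.tt_conj_y0]; exact mul_mem (X_mem_V (by decide) _) (X_mem_V (by decide) _))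
    simpa [T.y0_eq_one] using this
  have h8 : ∀ p, uh (sgT T) p = 1 → p ∈ Qs (sgT T) := fun p h => by
    obtain ⟨r, hr, e⟩ := exists_Q_mul p
    rw [e, map_mul, mul_eq_one_iff_inv_eq, uh_w8] at h
    have : tt K 1 * T.y1 ((sgT T).σ p.a8) p.u8 * (tt K 1)⁻¹ = 1 := RootBN.eq_one_of_mem_U_V (R := R K)
      (by rw [← h, ← map_inv, n_uh (inv_mem hr)]; exact uh_mem_U _)
      (by rw [T.tt_conj_y1]; exact mul_mem (mul_mem (mul_mem (X_mem_V (by decide) _) (X_mem_V (by decide) _))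
            (X_mem_V (by decide) _)) (X_mem_V (by decide) _))
    simpa [T.y1_eq_one] using this
  have hn : ∀ p, uh (sgT T) p = 1 → uh (sgT T) (nu p) = 1 := fun p h => by rw [← n_uh (h8 p h), h]; simp
  have hm : ∀ p, uh (sgT T) p = 1 → uh (sgT T) (mu p) = 1 := fun p h => by rw [← m_uh (h1 p h), h]; simp
  have h7 : ∀ p, uh (sgT T) p = 1 → p.a7 = 0 := fun p h => h1 _ (hn p h)
  have h2 : ∀ p, uh (sgT T) p = 1 → p.a2 = 0 ∧ p.u2 = 0 := fun p h => h8 _ (hm p h)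
  have h6 : ∀ p, uh (sgT T) p = 1 → p.a6 = 0 ∧ p.u6 = 0 := fun p h => by
    simpa [h2 p h, h7 p h] using h2 _ (hn p h)
  have h3 : ∀ p, uh (sgT T) p = 1 → p.a3 = 0 := fun p h => by simpa [h2 p h] using h7 _ (hm p h)
  have h5 : ∀ p, uh (sgT T) p = 1 → p.a5 = 0 := fun p h => by simpa [h6 p h, h7 p h] using h3 _ (hn p h)
  have h4 : ∀ p, uh (sgT T) p = 1 → p.a4 = 0 ∧ p.u4 = 0 := fun p h => by
    simpa [h2 p h, h3 p h] using h6 _ (hm p h)
  refine (injective_iff_map_eq_one _).2 fun p h => ?_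
  ext <;> simp [h1 p h, h2 p h, h3 p h, h4 p h, h5 p h, h6 p h, h7 p h, (h8 p h).1, (h8 p h).2]

/-- The torus. -/
def th : Kˣ × Kˣ →* Γ K := MonoidHom.mk'
  (fun x => T.hh (x.1 ^ 2 * (sgT T).σu x.1 ^ 2 * x.2 ^ 4 * (sgT T).σu x.2 ^ 3)
    (x.1 ^ 4 * (sgT T).σu x.1 ^ 3 * x.2 ^ 8 * (sgT T).σu x.2 ^ 6))
  fun x y => by
    rw [T.hh_mul]
    congr 1 <;> simp only [Prod.fst_mul, Prod.snd_mul, map_mul, mul_pow] <;> ac_rfl

theorem th_apply (α β : Kˣ) : th T (α, β) = T.hh (α ^ 2 * (sgT T).σu α ^ 2 * β ^ 4 * (sgT T).σu β ^ 3)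
    (α ^ 4 * (sgT T).σu α ^ 3 * β ^ 8 * (sgT T).σu β ^ 6) := rfl

theorem σ_ne (c : Kˣ) : s.σ c ≠ 0 := by simp

theorem n_th (α β : Kˣ) :
    tt K 1 * th T (α, β) * (tt K 1)⁻¹ = th T (α * β ^ 2 * (sgT T).σu β, β⁻¹) := by
  have := σ_ne (s := sgT T) α
  have := σ_ne (s := sgT T) β
  rw [th_apply, th_apply, (T.tt_conj_hh _ _).2, θu_sq]
  congr 1 <;> ext <;> simp <;> field_simp

theorem m_th (α β : Kˣ) : tt K 0 * th T (α, β) * (tt K 0)⁻¹ = th T (α⁻¹, α * β) := by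
  have := σ_ne (s := sgT T) α
  have := σ_ne (s := sgT T) β
  rw [th_apply, th_apply, (T.tt_conj_hh _ _).1]
  congr 1 <;> ext <;> simp <;> field_simp

theorem th_uh (p : SG (sgT T)) : ∀ α β : Kˣ,
    th T (α, β) * uh (sgT T) p * (th T (α, β))⁻¹ = uh (sgT T) (dl α β p) := by
  have hd : ∀ {a b : K} {p : SG (sgT T)}, (p ∈ Qs _ → dl a b p ∈ Qs _) ∧ (p ∈ Rs _ → dl a b p ∈ Rs _) :=
    ⟨fun h => by simp [h.1, h.2], fun h => by simp [show _ = _ from h]⟩
  refine ind_gen (P := fun p => ∀ α β : Kˣ,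
    th T (α, β) * uh (sgT T) p * (th T (α, β))⁻¹ = uh (sgT T) (dl α β p)) (fun p q h h' α β => ?_)
    (fun p hp h α β => ?_) (fun p hp h α β => ?_) (fun a α β => ?_) (fun a u α β => ?_) p
  · rw [dl_mul, map_mul, map_mul, ← h, ← h']; group
  · have e1 := n_th T (α * β ^ 2 * (sgT T).σu β) β⁻¹
    have e2 := nu_dl (α * β ^ 2 * (sgT T).σu β) β⁻¹ hp
    rw [show α * β ^ 2 * (sgT T).σu β * β⁻¹ ^ 2 * (sgT T).σu β⁻¹ = α by
      simp [mul_assoc, mul_left_comm (β ^ 2)], inv_inv] at e1 e2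
    rw [← e1, ← e2, ← n_uh hp, ← n_uh (hd.1 hp), ← h]; group
  · have e1 := m_th T α⁻¹ (α * β)
    have e2 := mu_dl α⁻¹ (α * β) hp
    rw [inv_inv, inv_mul_cancel_left] at e1 e2
    rw [← e1, ← e2, ← m_uh hp, ← m_uh (hd.2 hp), ← h]; group
  · have := σ_ne (s := sgT T) α
    have := σ_ne (s := sgT T) β
    rw [show dl (α : K) (β : K) (x1 a : SG (sgT T)) = x1 (α * a) by ext <;> simp, uh_x1, uh_x1, th_apply,
      T.hh_conj_y0]
    congr 1
    simp
    left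
    field_simp
  · have := σ_ne (s := sgT T) α
    have := σ_ne (s := sgT T) β
    have e : T.bval (α ^ 2 * (sgT T).σu α ^ 2 * β ^ 4 * (sgT T).σu β ^ 3)
        (α ^ 4 * (sgT T).σu α ^ 3 * β ^ 8 * (sgT T).σu β ^ 6) = (sgT T).σu β := by
      rw [Tw.bval, inv_pow, θu_sq]
      ext
      simp
      field_simp
    rw [show dl (α : K) (β : K) (w8 a u : SG (sgT T)) = w8 (β * a) (β * (sgT T).σ β * u) by ext <;> simp,
      uh_w8, uh_w8, th_apply, T.hh_conj_y1, e, Sg.coe_σu, θ_σ, map_mul]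

theorem th_hT (c : Kˣ) : th T ((sgT T).hT c) = T.hh 1 (c ^ 2 * (sgT T).σu c) := by
  have := σ_ne (s := sgT T) c
  rw [Sg.hT_apply, th_apply]
  congr 1 <;> ext <;> simp <;> field_simp

end Cfsg.Agent.Og.Md
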