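import Mathlib
import Cfsg.Agent.Og.Base
import Cfsg.Prelude.Def_LieTwisted
import Cfsg.Agent.Og.ModelB

set_option autoImplicit false
set_option linter.unusedSectionVars false

namespace Cfsg.Agent.Og

namespace Md

open Cfsg.Agent.Chev Cfsg.Agent.Chev.F4T Cfsg.Lie Cfsg.Lie.ChevalleyDatum SG

variable {K : Type*} [Field K] [CharP K 2] (T : Tw K)

theorem blk_hh1 (b : Kˣ) : Blk (T.hh 1 b)
    !![T.θ b, 0, 0, 0; 0, (T.θ b)⁻¹ * b, 0, 0; 0, 0, T.θ b * (b : K)⁻¹, 0; 0, 0, 0, (T.θ b)⁻¹] := by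
  refine (blk_tor (T.θu 1) (T.θu b) b 1).congr ?_
  ext i j
  fin_cases i <;> fin_cases j <;> simp

theorem one_of_blk {g : Γ K} (hg : g ∈ T.L1) (h : Blk g 1) : g = 1 := by
  obtain ⟨t, u, b, rfl | ⟨t', u', rfl⟩⟩ := T.L1_nf hg
  · have h1 := ((blk_q4 _ _ _ _).mul (blk_hh1 T b)).unique h
    have h2 := congrFun (congrFun h1 0) 0
    have h3 := congrFun (congrFun h1 1) 2
    have h4 := congrFun (congrFun h1 1) 3
    simp at h2 h3 h4
    obtain rfl : b = 1 := Units.ext (T.θ.injective (by simpa using h2))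
    subst h3
    simp at h4
    simp [h4, T.y1_zero, T.hh_one]
  · have h1 := ((((blk_q4 _ _ _ _).mul (blk_hh1 T b)).mul blk_tt).mul (blk_q4 _ _ _ _)).unique h
    have h2 := congrFun (congrFun h1 3) 0
    simp [suzukiForm] at h2

theorem eq_of_blk {g g' : Γ K} (hg : g ∈ T.L1) (hg' : g' ∈ T.L1) {M : Matrix (Fin 4) (Fin 4) K} (h : Blk g M)
    (h' : Blk g' M) : g = g' := by
  refine inv_mul_eq_one.1 (one_of_blk T (mul_mem (inv_mem hg) hg') ?_)
  rw [Blk, Units.val_mul, Matrix.mul_assoc, h', ← h, ← Matrix.mul_assoc, Units.inv_mul, Matrix.one_mul,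
    Matrix.mul_one]

theorem blk_w8 (a v : K) : Blk (uh (sgT T) (w8 a v))
    !![1, a, v, a ^ 2 * (sgT T).σ a + a * v + (sgT T).σ v; 0, 1, (sgT T).σ a, a * (sgT T).σ a + v;
      0, 0, 1, a; 0, 0, 0, 1] := by
  rw [uh_w8, Tw.y1, θ_σ, ← sgT_σ]
  refine (blk_q4 _ _ _ _).congr ?_
  rw [← add_assoc, CharTwo.add_self_eq_zero, zero_add, mul_add, ← mul_assoc, ← sq]

theorem blk_h (c : Kˣ) : Blk (th T ((sgT T).hT c))
    !![c * (sgT T).σ c, 0, 0, 0; 0, c, 0, 0; 0, 0, (c : K)⁻¹, 0; 0, 0, 0, (c * (sgT T).σ c)⁻¹] := by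
  have := σ_ne (s := sgT T) c
  have e : T.θ ((c ^ 2 * (sgT T).σu c : Kˣ) : K) = c * (sgT T).σ c := by
    simp [sgT_σ, mul_comm, T.hθ]
  rw [th_hT]
  refine (blk_hh1 T _).congr ?_
  rw [e]
  ext i j
  fin_cases i <;> fin_cases j <;> simp <;> field_simp

theorem rank_one (a v : K) (N : Kˣ) (hN : (N : K) = a ^ 2 * (sgT T).σ a + a * v + (sgT T).σ v) :
    tt K 1 * uh (sgT T) (w8 a v) * tt K 1 =
      uh (sgT T) (w8 ((a * (sgT T).σ a + v) / N) (a / N + (a * (sgT T).σ a + v) / N *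
        (sgT T).σ ((a * (sgT T).σ a + v) / N))) * th T ((sgT T).hT (N / (sgT T).σu N)) * tt K 1 *
          uh (sgT T) (w8 (v / N) (a / N)) := by
  have hw : ∀ a v, uh (sgT T) (w8 a v) ∈ T.L1 := fun a v => uh_w8 T a v ▸ T.y1_mem_L1 _ _
  refine eq_of_blk T (mul_mem (mul_mem T.tt_mem_L1 (hw _ _)) T.tt_mem_L1)
    (mul_mem (mul_mem (mul_mem (hw _ _) (th_hT T _ ▸ T.hh_mem_L1 _)) T.tt_mem_L1) (hw _ _))
    ((blk_tt.mul (blk_w8 T a v)).mul blk_tt)
    (((((blk_w8 T _ _).mul (blk_h T _)).mul blk_tt).mul (blk_w8 T _ _)).congr ?_)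
  have h0 := N.ne_zero
  have h1 := σ_ne (s := sgT T) N
  have hM := congrArg (sgT T).σ hN
  simp only [map_add, map_mul, map_pow, Sg.sq] at hM
  simp only [Units.val_div_eq_div_val, Sg.coe_σu, map_add, map_mul, map_div₀, map_pow, Sg.sq, suzukiForm]
  generalize (sgT T).σ N = M at *
  generalize (sgT T).σ a = y at *
  generalize (sgT T).σ v = w at *
  generalize (N : K) = n at *
  clear hw
  ext i j
  fin_cases i <;> fin_cases j <;> simp <;> field_simp <;> grind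

theorem braid : (tt K 1 * tt K 0) ^ 8 = 1 := by
  rw [show 8 = 2 * 2 * 2 from rfl, pow_mul, pow_mul, sq, sq, sq]
  simp only [tt, ← nWordS_append]
  exact nWordS_eq (l' := []) (by decide +kernel)

/-- The letters in the Chevalley group. -/
noncomputable def ft : Ft (sgT T) (Γ K) := ⟨uh (sgT T), th T, tt K 1, tt K 0⟩

theorem rf_ft : RF (ft T) where
  rc :=
    { nn := tt_mul_self 1
      nu := fun p h1 h2 => (congrArg _ (tt_inv 1).symm).trans (n_uh ⟨h1, h2⟩)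
      hu := fun c p => by rw [dh_eq]; exact th_uh T p _ _
      nh := fun c => by
        have := σ_ne (s := sgT T) c
        refine ((congrArg _ (tt_inv 1).symm).trans (n_th T _ _)).trans (congrArg (th T) ?_)
        ext <;> simp
        field_simp
      r1 := rank_one T }
  mm := tt_mul_self 0
  mu p h := (congrArg _ (tt_inv 0).symm).trans (m_uh h)
  tu α β p := th_uh T p α β
  nt α β := (congrArg _ (tt_inv 1).symm).trans (n_th T α β)
  mt α β := (congrArg _ (tt_inv 0).symm).trans (m_th T α β)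
  m3 := by
    have h := T.y0_rank_one 1
    rw [inv_one, Units.val_one, T.hh_one, one_mul, tt_inv] at h
    change (tt K 0 * uh (sgT T) (x1 1)) ^ 3 = 1
    rw [uh_x1, map_one, ← tt_mul_self (K := K) 0]
    conv_rhs => enter [2]; rw [← h]
    simp only [pow_succ, pow_zero, one_mul, mul_assoc]
  br := braid

theorem ft_G0 : (ft T).G0 = T.Fix := by
  have h0 : ∀ t, T.y0 t ∈ (ft T).G0 := fun t => by
    have := (ft T).u_mem_G0 (x1 (T.θ t))
    rwa [show (ft T).u = uh (sgT T) from rfl, uh_x1, σ_θ] at this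
  have h1 : ∀ t u, T.y1 t u ∈ (ft T).G0 := fun t u => by
    have := (ft T).u_mem_G0 (w8 (T.θ t) u)
    rwa [show (ft T).u = uh (sgT T) from rfl, uh_w8, σ_θ] at this
  exact le_antisymm ((ft T).G0_le (uh_mem T) (fun x => T.hh_mem _ _) (T.tt_mem 1) (T.tt_mem 0))
    (T.Fix_le h0 h1 (fun t => mul_mem (mul_mem (ft T).m_mem_G0 (h0 t)) (inv_mem (ft T).m_mem_G0))
      (mul_mem (mul_mem (ft T).n_mem_G0 (h1 0 1)) (inv_mem (ft T).n_mem_G0)))

theorem restrict {s : Sg K} {G : Type*} [Group G] {F : Ft s G} (h : RF F) (hi : Function.Injective F.u)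
    {A : Subgroup G} (hA : F.G0 = A) : ∃ F' : Ft s A, RF F' ∧ Function.Injective F'.u ∧ F'.G0 = ⊤ := by
  subst hA
  let F' : Ft s F.G0 := ⟨F.u.codRestrict _ F.u_mem_G0, F.t.codRestrict _ F.t_mem_G0, ⟨_, F.n_mem_G0⟩,
    ⟨_, F.m_mem_G0⟩⟩
  refine ⟨F', ⟨⟨⟨Subtype.ext h.rc.nn, fun p a b => Subtype.ext (h.rc.nu p a b),
    fun c p => Subtype.ext (h.rc.hu c p), fun c => Subtype.ext (h.rc.nh c),
    fun a v N e => Subtype.ext (h.rc.r1 a v N e)⟩, Subtype.ext h.mm, fun p a => Subtype.ext (h.mu p a),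
    fun a b p => Subtype.ext (h.tu a b p), fun a b => Subtype.ext (h.nt a b), fun a b => Subtype.ext (h.mt a b),
    Subtype.ext h.m3⟩, Subtype.ext h.br⟩, fun p q e => hi (congrArg Subtype.val e), ?_⟩
  have : F.G0 ≤ F'.G0.map F.G0.subtype := F.G0_le (fun p => ⟨_, F'.u_mem_G0 p, rfl⟩)
    (fun x => ⟨_, F'.t_mem_G0 x, rfl⟩) ⟨_, F'.n_mem_G0, rfl⟩ ⟨_, F'.m_mem_G0, rfl⟩
  refine eq_top_iff.2 fun g _ => ?_
  obtain ⟨g', h1, h2⟩ := this g.2
  rwa [← Subtype.ext h2]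

end Md

/-- The large Ree group satisfies the relations. -/
theorem model {K : Type*} [Field K] [CharP K 2] [Fintype K] {m : ℕ} (hK : Fintype.card K = 2 ^ (2 * m + 1)) :
    ∃ (s : Sg K) (F : Ft s ↥(Cfsg.Lie.twistedF4 K (2 ^ m))), RF F ∧ Function.Injective F.u ∧ F.G0 = ⊤ :=
  ⟨_, Md.restrict (Md.rf_ft _) (Md.uh_inj _) ((Md.ft_G0 _).trans (Chev.F4T.twistedF4_eq_frob hK).symm)⟩

end Cfsg.Agent.Og
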